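import Cfsg.Agent.Lib.J4Ten43.Coord
import Cfsg.Agent.Lib.J4Fusion14.Rows

/-!
# The elementary subgroups of order `2 ^ 10` up to conjugacy
-/

set_option autoImplicit false

universe u

namespace Cfsg.Agent.Lib.J4Ten43

open Cfsg Cfsg.Agent.Lib Cfsg.Agent.Lib.J4Two56

variable {G : Type u} [Group G] [Finite G] {z : G} (T : Todd G z) (S : Split56 G z T) (B : BasicFacts)

theorem mem_conjugate {X : Subgroup G} {g x : G} :
    x ∈ X.map (MulAut.conj g).toMonoidHom ↔ g⁻¹ * x * g ∈ X := mem_map_conj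

theorem card_conjugate (X : Subgroup G) (g : G) :
    Nat.card ↥(X.map (MulAut.conj g).toMonoidHom) = Nat.card ↥X :=
  (Nat.card_congr (Subgroup.equivMapOfInjective X _ (MulAut.conj g).injective).toEquiv).symm

omit [Finite G] in
theorem conjugate_sq {X : Subgroup G} (h : ∀ x ∈ X, x * x = 1) (g : G) :
    ∀ x ∈ X.map (MulAut.conj g).toMonoidHom, x * x = 1 := by
  rintro _ ⟨x, hx, rfl⟩
  rw [← map_mul, h x hx, map_one]

omit [Finite G] in
theorem comm_of_sq {X : Subgroup G} (h : ∀ x ∈ X, x * x = 1) {p q : G} (hp : p ∈ X) (hq : q ∈ X) :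
    p * q = q * p := by
  have hi : ∀ {x : G}, x ∈ X → x⁻¹ = x := fun hx => inv_eq_of_mul_eq_one_right (h _ hx)
  rw [← hi (mul_mem hp hq), mul_inv_rev, hi hp, hi hq]

theorem exists_v {X : Subgroup G} (hle : X ≤ Subgroup.normalizer (T.V : Set G))
    (hsq : ∀ x ∈ X, x * x = 1) (hcard : Nat.card ↥X = 1024)
    (himg : ∀ σ : Equiv.Perm GolayPt, (∃ x, ∃ hx : x ∈ X,
      ((T.ρ ⟨x, hle hx⟩ : ↥Cfsg.M24) : Equiv.Perm GolayPt) = σ) ↔ ∃ i, i < 16 ∧ σ = oP i) :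
    ∃ n ∈ Subgroup.normalizer (T.V : Set G),
      ∀ x ∈ X, n * x * n⁻¹ ∈ tenSub T S B := by
  classical
  have hlift : ∀ i, ∃ d, i < 16 → d < 2048 ∧ pr T S (oP i) d ∈ X := by
    intro i
    by_cases hi : i < 16
    · obtain ⟨x, hx, he⟩ := (himg (oP i)).2 ⟨i, hi, rfl⟩
      obtain ⟨a, ha, hxa⟩ := exists_pr T S (hle hx)
      rw [he] at hxa
      exact ⟨a, fun _ => ⟨ha, hxa ▸ hx⟩⟩
    · exact ⟨0, fun h => absurd h hi⟩
  choose δ hδ using hlift
  have hδlt : ∀ i, i < 16 → δ i < 2048 := fun i hi => (hδ i hi).1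
  have hfix : ∀ i, i < 16 → act (oP i) (δ i) = δ i := by
    intro i hi
    have h := hsq _ (hδ i hi).2
    rw [pr_mul T S (B.oP_mem i hi) (B.oP_mem i hi) (hδlt i hi) (hδlt i hi), oP_inv B hi,
      oP_sq B hi, pr, kL_one, one_mul] at h
    exact Nat.xor_eq_zero_iff.1 (T.eq_zero_of_el (xor_lt (act_lt _ _) (hδlt i hi)) h)
  -- the members inside `V`
  have hXV : ∀ a, a < 2048 → T.el a ∈ X → ∃ c, c < 64 ∧ cOf c = a := by
    intro a ha hX
    refine B.fix_only a ha fun i hi => ?_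
    have h := comm_of_sq hsq hX (hδ i hi).2
    have e : T.el a = pr T S 1 a := by rw [pr, kL_one, one_mul]
    rw [e, pr_mul T S (one_mem _) (B.oP_mem i hi) ha (hδlt i hi), oP_inv B hi,
      pr_mul T S (B.oP_mem i hi) (one_mem _) (hδlt i hi) ha, inv_one, act_one (hδlt i hi)] at h
    have h2 := (pr_inj T S (mul_mem (one_mem _) (B.oP_mem i hi)) (mul_mem (B.oP_mem i hi) (one_mem _))
      (xor_lt (act_lt _ _) (hδlt i hi)) (xor_lt (hδlt i hi) ha) h).2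
    rw [Nat.xor_comm (δ i) a] at h2
    exact Nat.xor_left_injective h2
  have hpair : ∀ i j, i < 16 → j < 16 →
      act (oP j) (δ i) ^^^ δ i = act (oP i) (δ j) ^^^ δ j := by
    intro i j hi hj
    have h := comm_of_sq hsq (hδ i hi).2 (hδ j hj).2
    rw [pr_mul T S (B.oP_mem i hi) (B.oP_mem j hj) (hδlt i hi) (hδlt j hj), oP_inv B hj,
      pr_mul T S (B.oP_mem j hj) (B.oP_mem i hi) (hδlt j hj) (hδlt i hi), oP_inv B hi] at h
    have h2 := (pr_inj T S (mul_mem (B.oP_mem i hi) (B.oP_mem j hj))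
      (mul_mem (B.oP_mem j hj) (B.oP_mem i hi)) (xor_lt (act_lt _ _) (hδlt j hj))
      (xor_lt (act_lt _ _) (hδlt i hi)) h).2
    calc act (oP j) (δ i) ^^^ δ i = (act (oP j) (δ i) ^^^ δ j) ^^^ (δ j ^^^ δ i) := by
          rw [Nat.xor_assoc, ← Nat.xor_assoc (δ j), Nat.xor_self, Nat.zero_xor]
      _ = (act (oP i) (δ j) ^^^ δ i) ^^^ (δ j ^^^ δ i) := by rw [h2]
      _ = act (oP i) (δ j) ^^^ δ j := by
          rw [Nat.xor_comm (δ j) (δ i), Nat.xor_assoc, ← Nat.xor_assoc (δ i), Nat.xor_self, Nat.zero_xor]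
  have hprod : ∀ i j, i < 16 → j < 16 →
      ∃ c, c < 64 ∧ δ (i ^^^ j) = act (oP j) (δ i) ^^^ δ j ^^^ cOf c := by
    intro i j hi hj
    have hij : i ^^^ j < 16 := Nat.xor_lt_two_pow (n := 4) hi hj
    have h1 : pr T S (oP (i ^^^ j)) (act (oP j) (δ i) ^^^ δ j) ∈ X := by
      have := mul_mem (hδ i hi).2 (hδ j hj).2
      rwa [pr_mul T S (B.oP_mem i hi) (B.oP_mem j hj) (hδlt i hi) (hδlt j hj), oP_inv B hj,
        ← B.oP_xor i j hi hj] at this
    have h2 := mul_mem (inv_mem h1) (hδ _ hij).2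
    rw [pr, pr, mul_inv_rev, T.el_inv (xor_lt (act_lt _ _) (hδlt j hj))] at h2
    simp only [mul_assoc, inv_mul_cancel_left] at h2
    rw [← T.el_xor _ (xor_lt (act_lt _ _) (hδlt j hj)) _ (hδlt _ hij)] at h2
    obtain ⟨c, hc, hce⟩ := hXV _ (xor_lt (xor_lt (act_lt _ _) (hδlt j hj)) (hδlt _ hij)) h2
    refine ⟨c, hc, ?_⟩
    rw [hce, ← Nat.xor_assoc, Nat.xor_self, Nat.zero_xor]
  obtain ⟨v, hv, hvc⟩ := B.cocycle δ (fun i hi => ⟨hδlt i hi, hfix i hi⟩) hpair hprod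
  refine ⟨T.el v, Subgroup.le_normalizer (T.el_mem hv), fun x hx => ?_⟩
  obtain ⟨i, hi, hxi⟩ := (himg _).1 ⟨x, hx, rfl⟩
  obtain ⟨a, ha, hxa⟩ := exists_pr T S (hle hx)
  rw [hxi] at hxa
  have h2 : T.el (δ i ^^^ a) ∈ X := by
    have := mul_mem (inv_mem (hδ i hi).2) hx
    rw [hxa, pr, pr, mul_inv_rev, T.el_inv (hδlt i hi)] at this
    simp only [mul_assoc, inv_mul_cancel_left] at this
    rwa [← T.el_xor _ (hδlt i hi) _ ha] at this
  obtain ⟨c, hc, hce⟩ := hXV _ (xor_lt (hδlt i hi) ha) h2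
  obtain ⟨c', hc', hce'⟩ := hvc i hi
  have hcc : c' ^^^ c < 64 := Nat.xor_lt_two_pow (n := 6) hc' hc
  refine ⟨64 * i + (c' ^^^ c), by omega, ?_⟩
  rw [co_of B T S hcc, B.cOf_xor c' c hc' hc, ← hce', hce, hxa, pr, pr, T.el_inv hv]
  calc kL T S (oP i) * T.el (δ i ^^^ act (oP i) v ^^^ v ^^^ (δ i ^^^ a))
      = kL T S (oP i) * T.el (act (oP i) v ^^^ (a ^^^ v)) := by
        congr 2
        rw [Nat.xor_assoc, Nat.xor_assoc, ← Nat.xor_assoc v, Nat.xor_comm v (δ i), Nat.xor_assoc (δ i),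
          ← Nat.xor_assoc (act (oP i) v), Nat.xor_comm (act (oP i) v) (δ i), Nat.xor_assoc (δ i),
          ← Nat.xor_assoc (δ i) (δ i), Nat.xor_self, Nat.zero_xor, Nat.xor_comm v a]
    _ = T.el v * (kL T S (oP i) * T.el a) * T.el v := by
        rw [T.el_xor _ (act_lt _ _) _ (xor_lt ha hv), T.el_xor a ha v hv]
        have := el_kL T S (B.oP_mem i hi) hv
        rw [oP_inv B hi] at this
        rw [← mul_assoc, ← this]; group

include B in
/-- An elementary subgroup of order `2 ^ 10` of the normaliser, not inside `V`, is conjugate there to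
the coordinate subgroup. -/
theorem classify (hOU : OctadUniqueStmt) {X : Subgroup G}
    (hle : X ≤ Subgroup.normalizer (T.V : Set G)) (hsq : ∀ x ∈ X, x * x = 1)
    (hcard : Nat.card ↥X = 1024) (hV : ¬ X ≤ T.V) :
    ∃ n ∈ Subgroup.normalizer (T.V : Set G),
      X.map (MulAut.conj n).toMonoidHom = tenSub T S B := by
  classical
  obtain ⟨f, hf⟩ : ∃ f : ↥X →* Equiv.Perm GolayPt,
      f = Cfsg.M24.subtype.comp (T.ρ.comp (Subgroup.inclusion hle)) := ⟨_, rfl⟩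
  have hfx : ∀ x (hx : x ∈ X), f ⟨x, hx⟩ = ((T.ρ ⟨x, hle hx⟩ : ↥Cfsg.M24) : Equiv.Perm GolayPt) :=
    fun x hx => by rw [hf]; rfl
  have hker : f.ker = T.V.subgroupOf X := by
    ext ⟨x, hx⟩
    rw [MonoidHom.mem_ker, Subgroup.mem_subgroupOf, hfx x hx]
    exact ⟨fun h => T.mem_V_of_ρ (Subtype.ext h), fun h => congrArg Subtype.val (T.ρ_of_mem (n := ⟨x, _⟩) h)⟩
  have hRM : f.range ≤ Cfsg.M24 := by
    rintro _ ⟨⟨x, hx⟩, rfl⟩
    rw [hfx x hx]; exact SetLike.coe_mem _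
  have hRsq : ∀ b ∈ f.range, b * b = 1 := by
    rintro _ ⟨⟨x, hx⟩, rfl⟩
    rw [← map_mul, show (⟨x, hx⟩ : ↥X) * ⟨x, hx⟩ = 1 from Subtype.ext (hsq x hx), map_one]
  have hRne : f.range ≠ ⊥ := fun h => hV fun x hx => by
    have : f ⟨x, hx⟩ = 1 := Subgroup.mem_bot.1 (h ▸ (⟨⟨x, hx⟩, rfl⟩ : f ⟨x, hx⟩ ∈ f.range))
    exact (MonoidHom.mem_ker.2 this |> hker.le : (⟨x, hx⟩ : ↥X) ∈ T.V.subgroupOf X)
  have hcnt : 1024 ≤ Nat.card ↥f.range *
      Set.ncard {n : ℕ | n < 2048 ∧ ∀ b ∈ f.range, act b n = n} := by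
    have h := f.ker.card_mul_index
    rw [Subgroup.index_ker, hcard] at h
    rw [← h, mul_comm]
    refine Nat.mul_le_mul_left _ ?_
    have hfin : Set.Finite {n : ℕ | n < 2048 ∧ ∀ b ∈ f.range, act b n = n} :=
      (Set.finite_lt_nat 2048).subset fun n hn => hn.1
    have hidx : ∀ x : ↥f.ker, ∃ a, a < 2048 ∧ T.el a = ((x : ↥X) : G) := fun x =>
      (T.mem_V _).1 (hker.le x.2)
    choose a ha hae using hidx
    have hmem : ∀ x, a x ∈ {n : ℕ | n < 2048 ∧ ∀ b ∈ f.range, act b n = n} := by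
      refine fun x => ⟨ha x, ?_⟩
      rintro _ ⟨⟨y, hy⟩, rfl⟩
      refine T.el_inj _ (act_lt _ _) _ (ha x) ?_
      rw [hfx y hy, ← T.ρ_spec ⟨y, hle hy⟩ (a x) (ha x), hae]
      show y * _ * y⁻¹ = _
      rw [comm_of_sq hsq hy (x : ↥X).2, mul_inv_cancel_right]
    have := hfin.to_subtype
    rw [← Nat.card_coe_set_eq]
    refine Nat.card_le_card_of_injective (fun x => ⟨a x, hmem x⟩) fun x y e => ?_
    apply Subtype.ext; apply Subtype.ext
    rw [← hae, ← hae, show a x = a y from congrArg Subtype.val e]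
  obtain ⟨g, hg, hgB⟩ := hOU f.range hRM hRsq hRne hcnt
  obtain ⟨n1, hn1⟩ : ∃ n1, n1 = kL T S g := ⟨_, rfl⟩
  have hn1N : n1 ∈ Subgroup.normalizer (T.V : Set G) := hn1 ▸ kL_mem_N T S g
  obtain ⟨X', hX'⟩ : ∃ X', X' = X.map (MulAut.conj n1).toMonoidHom := ⟨_, rfl⟩
  have hle' : X' ≤ Subgroup.normalizer (T.V : Set G) := by
    rw [hX']
    rintro _ ⟨x, hx, rfl⟩
    exact mul_mem (mul_mem hn1N (hle hx)) (inv_mem hn1N)
  have hρn : ((T.ρ ⟨n1, hn1N⟩ : ↥Cfsg.M24) : Equiv.Perm GolayPt) = g := by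
    have e : (⟨n1, hn1N⟩ : ↥(Subgroup.normalizer (T.V : Set G))) =
        ⟨kHom T S ⟨g, hg⟩, kHom_mem_N T S _⟩ := Subtype.ext (hn1.trans (kL_of T S hg))
    rw [e, ρ_kHom]
  have hρ' : ∀ x (hx : x ∈ X), ((T.ρ ⟨n1 * x * n1⁻¹, mul_mem (mul_mem hn1N (hle hx)) (inv_mem hn1N)⟩
      : ↥Cfsg.M24) : Equiv.Perm GolayPt) = g * f ⟨x, hx⟩ * g⁻¹ := by
    intro x hx
    rw [show (⟨n1 * x * n1⁻¹, mul_mem (mul_mem hn1N (hle hx)) (inv_mem hn1N)⟩ :
      ↥(Subgroup.normalizer (T.V : Set G))) = ⟨n1, hn1N⟩ * ⟨x, hle hx⟩ * ⟨n1, hn1N⟩⁻¹ from rfl,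
      map_mul, map_mul, map_inv, Subgroup.coe_mul, Subgroup.coe_mul, Subgroup.coe_inv, hρn, hfx x hx]
  obtain ⟨n2, hn2, hn2X⟩ := exists_v T S B hle' (hX' ▸ conjugate_sq hsq n1)
    (by rw [hX', card_conjugate, hcard]) (fun σ => by
      constructor
      · rintro ⟨x, hx, rfl⟩
        subst hX'
        obtain ⟨y, hy, rfl⟩ := hx
        obtain ⟨i, hi, he⟩ := (hgB _).1 ⟨⟨y, hy⟩, rfl⟩
        exact ⟨i, hi, (hρ' y hy).trans he⟩
      · rintro ⟨i, hi, rfl⟩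
        obtain ⟨⟨y, hy⟩, hye⟩ := (hgB (g⁻¹ * oP i * g)).2 ⟨i, hi, by group⟩
        refine ⟨n1 * y * n1⁻¹, by rw [hX']; exact ⟨y, hy, rfl⟩, ?_⟩
        rw [hρ' y hy, hye]; group)
  refine ⟨n2 * n1, mul_mem hn2 hn1N, Subgroup.eq_of_le_of_card_ge ?_ (by
    rw [card_conjugate, hcard, card_tenSub]; norm_num)⟩
  rintro _ ⟨x, hx, rfl⟩
  have := hn2X (n1 * x * n1⁻¹) (by rw [hX']; exact ⟨x, hx, rfl⟩)
  show n2 * n1 * x * (n2 * n1)⁻¹ ∈ tenSub T S B
  rwa [show n2 * n1 * x * (n2 * n1)⁻¹ = n2 * (n1 * x * n1⁻¹) * n2⁻¹ by group]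

include S in
theorem card_N : Nat.card ↥(Subgroup.normalizer (T.V : Set G)) = Nat.card ↥Cfsg.M24 * 2 ^ 11 := by
  let f : ↥Cfsg.M24 × Fin 2048 → ↥(Subgroup.normalizer (T.V : Set G)) := fun q =>
    ⟨pr T S (q.1 : Equiv.Perm GolayPt) q.2, pr_mem_N T S q.2.2⟩
  have hf : Function.Bijective f := by
    refine ⟨fun q q' h => ?_, fun x => ?_⟩
    · obtain ⟨h1, h2⟩ := pr_inj T S q.1.2 q'.1.2 q.2.2 q'.2.2 (congrArg Subtype.val h)
      exact Prod.ext (Subtype.ext h1) (Fin.ext h2)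
    · obtain ⟨a, ha, he⟩ := exists_pr T S x.2
      exact ⟨(T.ρ ⟨x, x.2⟩, ⟨a, ha⟩), Subtype.ext he.symm⟩
  rw [← Nat.card_eq_of_bijective f hf, Nat.card_prod, Nat.card_fin]
  norm_num

include S in
/-- A 2-subgroup of `C(z)` moves into the normaliser inside `C(z)`. -/
theorem into_N (hM : Nat.card ↥Cfsg.M24 = 244823040)
    (hcH : Nat.card ↥(Subgroup.centralizer ({z} : Set G)) = 2 ^ 13 * 3 * 887040) {W : Subgroup G}
    (hW : IsPGroup 2 ↥W) (hWC : W ≤ Subgroup.centralizer ({z} : Set G)) :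
    ∃ h ∈ Subgroup.centralizer ({z} : Set G),
      W.map (MulAut.conj h).toMonoidHom ≤ Subgroup.normalizer (T.V : Set G) := by
  classical
  have : Fact (Nat.Prime 2) := ⟨Nat.prime_two⟩
  set C := Subgroup.centralizer ({z} : Set G)
  obtain ⟨N, hN⟩ : ∃ N, N = Subgroup.normalizer (T.V : Set G) := ⟨_, rfl⟩
  have hz1 : T.el 1 = z := T.el_z
  have horb : {v : G | ∃ n ∈ N, n * z * n⁻¹ = v}.ncard = 1771 := by
    rw [← hz1, hN, ncard_orbit (T := T) IsQ (a := 1) (by norm_num)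
      (fun σ hσ => (isQ_act hσ (by norm_num)).2 isQ_one) (fun c hc hP => trans_Q hc hP), ncard_Q]
  have hidx : (C.subgroupOf N).index = 1771 := by
    have key : ∀ n m : ↥N, n⁻¹ * m ∈ C.subgroupOf N ↔
        (n : G) * z * (n : G)⁻¹ = (m : G) * z * (m : G)⁻¹ := by
      intro n m
      rw [Subgroup.mem_subgroupOf, Subgroup.mem_centralizer_singleton_iff, Subgroup.coe_mul,
        Subgroup.coe_inv]
      constructor
      · intro h'
        calc (n : G) * z * (n : G)⁻¹ = (n : G) * (z * ((n : G)⁻¹ * m)) * (m : G)⁻¹ := by group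
          _ = (n : G) * ((n : G)⁻¹ * m * z) * (m : G)⁻¹ := by rw [h']
          _ = (m : G) * z * (m : G)⁻¹ := by group
      · intro h'
        calc (n : G)⁻¹ * m * z = (n : G)⁻¹ * ((m : G) * z * (m : G)⁻¹) * m := by group
          _ = (n : G)⁻¹ * ((n : G) * z * (n : G)⁻¹) * m := by rw [h']
          _ = z * ((n : G)⁻¹ * m) := by group
    let f : ↥N ⧸ C.subgroupOf N → {v : G | ∃ n ∈ N, n * z * n⁻¹ = v} :=
      fun q => ⟨(q.out : G) * z * (q.out : G)⁻¹, _, q.out.2, rfl⟩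
    have hf : Function.Bijective f := by
      refine ⟨fun a b h => ?_, ?_⟩
      · rw [← QuotientGroup.out_eq' a, ← QuotientGroup.out_eq' b]
        exact QuotientGroup.eq.2 ((key _ _).2 (congrArg Subtype.val h))
      · rintro ⟨v, n, hn, rfl⟩
        refine ⟨QuotientGroup.mk ⟨n, hn⟩, Subtype.ext ?_⟩
        exact (key _ ⟨n, hn⟩).1 (QuotientGroup.eq.1 (QuotientGroup.out_eq' _))
    rw [Subgroup.index, Nat.card_eq_of_bijective f hf, Nat.card_coe_set_eq, horb]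
  have hM' : Nat.card ↥(C.subgroupOf N) = 138240 * 2048 := by
    have h := (C.subgroupOf N).card_mul_index
    have hcN : Nat.card ↥N = 244823040 * 2 ^ 11 := by rw [hN, card_N T S, hM]
    rw [hidx, hcN, show (2 : ℕ) ^ 11 = 2048 by norm_num] at h
    omega
  have hMc : Nat.card ↥(C ⊓ N) = 2 ^ 21 * 135 := by
    rw [← Nat.card_congr (Subgroup.subgroupOfEquivOfLe (inf_le_right : C ⊓ N ≤ N)).toEquiv,
      Subgroup.inf_subgroupOf_right, hM']
    norm_num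
  obtain ⟨R, hR⟩ := Sylow.exists_subgroup_card_pow_prime 2 (G := ↥(C ⊓ N)) (n := 21)
    (by rw [hMc]; exact dvd_mul_right _ _)
  obtain ⟨R', hR'⟩ : ∃ R', R' = (R.map (C ⊓ N).subtype) := ⟨_, rfl⟩
  have hR'C : R' ≤ C := hR' ▸ (Subgroup.map_subtype_le R).trans inf_le_left
  have hR'N : R' ≤ N := hR' ▸ (Subgroup.map_subtype_le R).trans inf_le_right
  have hR'c : Nat.card ↥(R'.subgroupOf C) = 2 ^ (Nat.card ↥C).factorization 2 := by
    rw [Nat.card_congr (Subgroup.subgroupOfEquivOfLe hR'C).toEquiv, hR',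
      ← Nat.card_congr (Subgroup.equivMapOfInjective R _ (C ⊓ N).subtype_injective).toEquiv, hR, hcH,
      show (2 : ℕ) ^ 13 * 3 * 887040 = 2 ^ 21 * 10395 by norm_num,
      Nat.factorization_mul (by norm_num) (by norm_num), Nat.Prime.factorization_pow Nat.prime_two]
    simp [Nat.factorization_eq_zero_of_not_dvd (show ¬ 2 ∣ 10395 by norm_num)]
  let S0 : Sylow 2 ↥C := Sylow.ofCard (R'.subgroupOf C) hR'c
  obtain ⟨Q, hQ⟩ := (hW.comap_of_injective C.subtype C.subtype_injective).exists_le_sylow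
  obtain ⟨⟨h, hh⟩, he⟩ := MulAction.exists_smul_eq ↥C Q S0
  refine ⟨h, hh, ?_⟩
  rintro _ ⟨w, hw, rfl⟩
  have h1 : (⟨h, hh⟩ : ↥C) * ⟨w, hWC hw⟩ * (⟨h, hh⟩ : ↥C)⁻¹ ∈ (S0 : Subgroup ↥C) := by
    rw [← he, Sylow.coe_subgroup_smul]
    exact ⟨⟨w, hWC hw⟩, hQ hw, rfl⟩
  exact hN ▸ hR'N h1

include S in
/-- Every member of an elementary group of order `2 ^ 10` moves into `V` with the group into the
normaliser. -/
theorem exists_move_into (hC : CoverStmt) (hCD : T.CentD) (hM : Nat.card ↥Cfsg.M24 = 244823040)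
    (hcH : Nat.card ↥(Subgroup.centralizer ({z} : Set G)) = 2 ^ 13 * 3 * 887040) {X : Subgroup G}
    (hsq : ∀ x ∈ X, x * x = 1) (hcard : Nat.card ↥X = 1024) {a : G} (ha : a ∈ X) (ha1 : a ≠ 1) :
    ∃ g : G, g * a * g⁻¹ ∈ T.V ∧
      X.map (MulAut.conj g).toMonoidHom ≤ Subgroup.normalizer (T.V : Set G) := by
  have hord : orderOf a = 2 := orderOf_eq_prime (hp := ⟨Nat.prime_two⟩) (by rw [pow_two, hsq a ha]) ha1
  obtain ⟨g, b, hb, hb0, he⟩ := exists_conj_el hC S hord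
  by_cases hz : IsConj z (T.el b)
  · obtain ⟨w, hw⟩ := isConj_iff.1 hz
    obtain ⟨g1, hg1⟩ : ∃ g1, g1 = w⁻¹ * g := ⟨_, rfl⟩
    have hga : g1 * a * g1⁻¹ = z := by
      rw [hg1, show w⁻¹ * g * a * (w⁻¹ * g)⁻¹ = w⁻¹ * (g * a * g⁻¹) * w by group, he, ← hw]
      group
    have hWC : X.map (MulAut.conj g1).toMonoidHom ≤ Subgroup.centralizer ({z} : Set G) := by
      rintro _ ⟨x, hx, rfl⟩
      rw [Subgroup.mem_centralizer_singleton_iff, ← hga]
      show g1 * x * g1⁻¹ * (g1 * a * g1⁻¹) = g1 * a * g1⁻¹ * (g1 * x * g1⁻¹)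
      rw [show g1 * x * g1⁻¹ * (g1 * a * g1⁻¹) = g1 * (x * a) * g1⁻¹ by group,
        comm_of_sq hsq hx ha]
      group
    obtain ⟨h, hh, hle⟩ := into_N T S hM hcH
      (IsPGroup.of_card (n := 10) (by rw [card_conjugate, hcard]; norm_num)) hWC
    refine ⟨h * g1, ?_, ?_⟩
    · have hzc : h * z * h⁻¹ = z := by
        rw [Subgroup.mem_centralizer_singleton_iff.1 hh]; group
      rw [show h * g1 * a * (h * g1)⁻¹ = h * (g1 * a * g1⁻¹) * h⁻¹ by group, hga, hzc]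
      exact (congrArg (· ∈ T.V) T.el_z).mp (T.el_mem (by norm_num))
    · rintro _ ⟨x, hx, rfl⟩
      have := hle ⟨g1 * x * g1⁻¹, ⟨x, hx, rfl⟩, rfl⟩
      simpa [mul_assoc] using this
  · refine ⟨g, he ▸ T.el_mem hb, ?_⟩
    rintro _ ⟨x, hx, rfl⟩
    refine hCD b hb (isD_of_not_conj hb hb0 hz) ?_
    rw [Subgroup.mem_centralizer_singleton_iff, ← he]
    show g * x * g⁻¹ * (g * a * g⁻¹) = g * a * g⁻¹ * (g * x * g⁻¹)
    rw [show g * x * g⁻¹ * (g * a * g⁻¹) = g * (x * a) * g⁻¹ by group, comm_of_sq hsq hx ha]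
    group

include B in
/-- A self-centralising elementary subgroup of order `2 ^ 10` is conjugate to the coordinate subgroup. -/
theorem conj_tenSub (hOU : OctadUniqueStmt) (hC : CoverStmt) (hCD : T.CentD)
    (hM : Nat.card ↥Cfsg.M24 = 244823040)
    (hcH : Nat.card ↥(Subgroup.centralizer ({z} : Set G)) = 2 ^ 13 * 3 * 887040) {X : Subgroup G}
    (hX : Cfsg.IsElementaryAbelian 2 X) (hcard : Nat.card ↥X = 2 ^ 10)
    (hself : Subgroup.centralizer (X : Set G) = X) :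
    ∃ g : G, X.map (MulAut.conj g).toMonoidHom = tenSub T S B := by
  have hsq : ∀ x ∈ X, x * x = 1 := fun x hx => by rw [← pow_two]; exact hX.2 x hx
  obtain ⟨a, ha1⟩ : ∃ a : ↥X, a ≠ 1 := by
    have : Nontrivial ↥X := Finite.one_lt_card_iff_nontrivial.1 (by rw [hcard]; norm_num)
    exact exists_ne 1
  obtain ⟨g, -, hle⟩ := exists_move_into T S hC hCD hM hcH hsq (by rw [hcard]; norm_num) a.2
    (fun h => ha1 (Subtype.ext h))
  have hVc : ¬ X.map (MulAut.conj g).toMonoidHom ≤ T.V := by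
    intro hsub
    have h1 : T.V.map (MulAut.conj g⁻¹).toMonoidHom ≤ Subgroup.centralizer (X : Set G) := by
      rintro _ ⟨v, hv, rfl⟩
      refine Subgroup.mem_centralizer_iff.2 fun x hx => ?_
      have hm : g * x * g⁻¹ ∈ T.V := hsub ⟨x, hx, rfl⟩
      have hc := congrArg Subtype.val ((T.isElementary).1.is_comm.comm ⟨_, hm⟩ ⟨v, hv⟩)
      show x * (g⁻¹ * v * g⁻¹⁻¹) = g⁻¹ * v * g⁻¹⁻¹ * x
      rw [inv_inv, show x * (g⁻¹ * v * g) = g⁻¹ * (g * x * g⁻¹ * v) * g by group]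
      rw [show g * x * g⁻¹ * v = v * (g * x * g⁻¹) from hc]
      group
    rw [hself] at h1
    have := Subgroup.card_le_of_le h1
    rw [card_conjugate, T.card_V, hcard] at this
    omega
  obtain ⟨n, -, hn⟩ := classify T S B hOU hle (conjugate_sq hsq g)
    (by rw [card_conjugate, hcard]; norm_num) hVc
  refine ⟨n * g, ?_⟩
  rw [← hn, Subgroup.map_map]
  congr 1
  ext x
  simp [mul_assoc]

include B in
/-- Every member of the coordinate subgroup is moved by its normaliser into `V`. -/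
theorem fuse (hOU : OctadUniqueStmt) (hC : CoverStmt) (hCD : T.CentD)
    (hM : Nat.card ↥Cfsg.M24 = 244823040)
    (hcH : Nat.card ↥(Subgroup.centralizer ({z} : Set G)) = 2 ^ 13 * 3 * 887040) {n : ℕ}
    (hn : n < 1024) (hn0 : n ≠ 0) :
    ∃ h ∈ Subgroup.normalizer (tenSub T S B : Set G), ∃ c, c < 64 ∧ c ≠ 0 ∧
      h * co T S n * h⁻¹ = co T S c := by
  have hsq : ∀ x ∈ tenSub T S B, x * x = 1 := fun x hx => by
    rw [← pow_two]; exact (tenSub_elementary T S B).2 x hx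
  have hne : co T S n ≠ 1 := fun h =>
    hn0 (co_inj B hn (by norm_num) (h.trans (co_zero B).symm))
  obtain ⟨g, hga, hle⟩ := exists_move_into T S hC hCD hM hcH hsq
    (by rw [card_tenSub]; norm_num) (co_mem T S B hn) hne
  have hVc : ¬ (tenSub T S B).map (MulAut.conj g).toMonoidHom ≤ T.V := by
    intro hsub
    have h1 : T.V.map (MulAut.conj g⁻¹).toMonoidHom ≤
        Subgroup.centralizer (tenSub T S B : Set G) := by
      rintro _ ⟨v, hv, rfl⟩
      refine Subgroup.mem_centralizer_iff.2 fun x hx => ?_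
      have hm : g * x * g⁻¹ ∈ T.V := hsub ⟨x, hx, rfl⟩
      have hc := congrArg Subtype.val ((T.isElementary).1.is_comm.comm ⟨_, hm⟩ ⟨v, hv⟩)
      show x * (g⁻¹ * v * g⁻¹⁻¹) = g⁻¹ * v * g⁻¹⁻¹ * x
      rw [inv_inv, show x * (g⁻¹ * v * g) = g⁻¹ * (g * x * g⁻¹ * v) * g by group]
      rw [show g * x * g⁻¹ * v = v * (g * x * g⁻¹) from hc]
      group
    rw [tenSub_self_cent T S B hCD] at h1
    have := Subgroup.card_le_of_le h1
    rw [card_conjugate, T.card_V, card_tenSub] at this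
    omega
  obtain ⟨m, hm, hmX⟩ := classify T S B hOU hle (conjugate_sq hsq g)
    (by rw [card_conjugate, card_tenSub]; norm_num) hVc
  have hmg : ∀ x ∈ tenSub T S B, m * g * x * (m * g)⁻¹ ∈ tenSub T S B := by
    intro x hx
    have : m * (g * x * g⁻¹) * m⁻¹ ∈ tenSub T S B :=
      hmX.le ⟨g * x * g⁻¹, ⟨x, hx, rfl⟩, rfl⟩
    rwa [show m * g * x * (m * g)⁻¹ = m * (g * x * g⁻¹) * m⁻¹ by group]
  refine ⟨m * g, mem_normalizer_of_conj T S B fun k hk => hmg _ (co_mem T S B hk), ?_⟩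
  obtain ⟨c, hc, hce⟩ := hmg _ (co_mem T S B hn)
  have hV : co T S c ∈ T.V := by
    rw [hce, show m * g * co T S n * (m * g)⁻¹ = m * (g * co T S n * g⁻¹) * m⁻¹ by group]
    exact (Subgroup.mem_normalizer_iff.1 hm _).1 hga
  refine ⟨c, (co_mem_V B hc).1 hV, fun h0 => hne ?_, hce.symm⟩
  rw [h0, co_zero B] at hce
  exact conj_eq_one_iff.1 hce.symm

end Cfsg.Agent.Lib.J4Ten43
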