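import Cfsg.Agent.Lib.J4Ten43.Stmts2

/-!
# A complement of the coordinate subgroup in a Sylow 2-subgroup of its normaliser

The complement is described by ten elements, each of which normalises the span of the earlier
ones and squares into it.
-/

set_option autoImplicit false

namespace Cfsg.Agent.Lib.J4Ten43.Compl

open Cfsg Cfsg.Agent.Lib Cfsg.Agent.Lib.J4Two56 Cfsg.Agent.Lib.J4Ten43

/-- The ten elements: image list, image list of the inverse, number. -/
def gData : List (List ℕ × List ℕ × ℕ) := [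
  ([0, 1, 2, 20, 23, 6, 5, 9, 17, 7, 10, 11, 15, 13, 14, 12, 22, 8, 21, 19, 3, 18, 16, 4], [0, 1, 2, 20, 23, 6, 5, 9, 17, 7, 10, 11, 15, 13, 14, 12, 22, 8, 21, 19, 3, 18, 16, 4], 0),
  ([0, 1, 19, 16, 23, 7, 9, 5, 8, 6, 10, 13, 12, 11, 14, 15, 3, 17, 21, 2, 22, 18, 20, 4], [0, 1, 19, 16, 23, 7, 9, 5, 8, 6, 10, 13, 12, 11, 14, 15, 3, 17, 21, 2, 22, 18, 20, 4], 0),
  ([0, 1, 4, 6, 19, 20, 16, 22, 17, 3, 10, 21, 15, 18, 14, 12, 9, 8, 11, 23, 7, 13, 5, 2], [0, 1, 23, 9, 2, 22, 3, 20, 17, 16, 10, 18, 15, 21, 14, 12, 6, 8, 13, 4, 5, 11, 7, 19], 0),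
  ([0, 10, 2, 7, 4, 16, 22, 3, 17, 20, 1, 13, 12, 11, 14, 15, 5, 8, 21, 19, 9, 18, 6, 23], [0, 10, 2, 7, 4, 16, 22, 3, 17, 20, 1, 13, 12, 11, 14, 15, 5, 8, 21, 19, 9, 18, 6, 23], 0),
  ([0, 8, 2, 6, 23, 20, 7, 22, 10, 5, 17, 18, 15, 21, 14, 12, 9, 1, 13, 19, 16, 11, 3, 4], [0, 17, 2, 22, 23, 9, 3, 6, 1, 16, 8, 21, 15, 18, 14, 12, 20, 10, 11, 19, 5, 13, 7, 4], 0),
  ([0, 11, 2, 3, 23, 16, 22, 7, 21, 9, 13, 1, 15, 10, 14, 12, 5, 18, 17, 19, 20, 8, 6, 4], [0, 11, 2, 3, 23, 16, 22, 7, 21, 9, 13, 1, 15, 10, 14, 12, 5, 18, 17, 19, 20, 8, 6, 4], 0),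
  ([14, 1, 2, 5, 4, 3, 20, 16, 8, 22, 10, 13, 15, 11, 0, 12, 7, 17, 21, 19, 6, 18, 9, 23], [14, 1, 2, 5, 4, 3, 20, 16, 8, 22, 10, 13, 15, 11, 0, 12, 7, 17, 21, 19, 6, 18, 9, 23], 1031),
  ([12, 1, 2, 7, 4, 16, 9, 3, 8, 6, 10, 18, 0, 21, 15, 14, 5, 17, 11, 19, 22, 13, 20, 23], [12, 1, 2, 7, 4, 16, 9, 3, 8, 6, 10, 18, 0, 21, 15, 14, 5, 17, 11, 19, 22, 13, 20, 23], 526),
  ([2, 1, 0, 3, 12, 16, 22, 7, 17, 9, 10, 11, 4, 13, 19, 23, 5, 8, 21, 14, 20, 18, 6, 15], [2, 1, 0, 3, 12, 16, 22, 7, 17, 9, 10, 11, 4, 13, 19, 23, 5, 8, 21, 14, 20, 18, 6, 15], 4),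
  ([1, 0, 11, 3, 21, 5, 6, 7, 12, 9, 14, 2, 8, 19, 10, 17, 16, 15, 23, 13, 20, 4, 22, 18], [1, 0, 11, 3, 21, 5, 6, 7, 12, 9, 14, 2, 8, 19, 10, 17, 16, 15, 23, 13, 20, 4, 22, 18], 2)]

/-- The identity image list. -/
def idL : List ℕ := List.range 24

/-- The data number `j`. -/
def gD (j : ℕ) : List ℕ × List ℕ × ℕ := gData.getD j (idL, idL, 0)

/-- The exclusive or of the numbers of the images of listed points. -/
def imgL (l rl : List ℕ) : ℕ :=
  rl.foldr (fun i r => cdList.getD (Golay.applyNum l (i % 24)) 0 ^^^ r) 0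

/-- The action of an image list. -/
def actL (l : List ℕ) (n : ℕ) : ℕ :=
  (List.range 11).foldr
    (fun k r => (if n.testBit k then imgL l (repList.getD k []) else 0) ^^^ r) 0

theorem cd_toPerm {l : List ℕ} (h : Golay.validList l = true) (i : ℕ) :
    cd (Golay.toPerm l (Golay.ptN i)) = cdList.getD (Golay.applyNum l (i % 24)) 0 := by
  rw [cd, Golay.idx_toPerm h, Golay.ptN, Golay.idx_pt]

theorem imgL_eq {l : List ℕ} (h : Golay.validList l = true) :
    ∀ rl : List ℕ, imgSum (Golay.toPerm l) rl = imgL l rl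
  | [] => rfl
  | i :: rl => by
    have ih := imgL_eq h rl
    simp only [imgSum, imgL, List.foldr_cons] at ih ⊢
    rw [ih, cd_toPerm h]

theorem actL_eq {l : List ℕ} (h : Golay.validList l = true) (n : ℕ) :
    act (Golay.toPerm l) n = actL l n := by
  unfold act actL
  simp only [imgL_eq h]

/-! ### The group of pairs -/

/-- A permutation preserving the code with a number of a class. -/
structure Elt where
  /-- The permutation. -/
  perm : Equiv.Perm GolayPt
  /-- The number. -/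
  num : ℕ
  perm_mem : perm ∈ Cfsg.M24
  num_lt : num < 2048

/-- The underlying pair. -/
def Elt.pair (x : Elt) : Equiv.Perm GolayPt × ℕ := (x.perm, x.num)

theorem Elt.pair_inj {x y : Elt} (h : x.pair = y.pair) : x = y := by
  obtain ⟨a, m, _, _⟩ := x
  obtain ⟨b, n, _, _⟩ := y
  obtain ⟨rfl, rfl⟩ := Prod.mk.inj h
  rfl

noncomputable instance instMulElt : Mul Elt :=
  ⟨fun x y => ⟨x.perm * y.perm, act y.perm⁻¹ x.num ^^^ y.num, mul_mem x.perm_mem y.perm_mem,
    xor_lt (act_lt _ _) y.num_lt⟩⟩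

noncomputable instance instOneElt : One Elt := ⟨⟨1, 0, one_mem _, by norm_num⟩⟩

noncomputable instance instInvElt : Inv Elt :=
  ⟨fun x => ⟨x.perm⁻¹, act x.perm x.num, inv_mem x.perm_mem, act_lt _ _⟩⟩

theorem perm_mul (x y : Elt) : (x * y).perm = x.perm * y.perm := rfl

theorem num_mul (x y : Elt) : (x * y).num = act y.perm⁻¹ x.num ^^^ y.num := rfl

theorem perm_inv (x : Elt) : (x⁻¹).perm = x.perm⁻¹ := rfl

theorem num_inv (x : Elt) : (x⁻¹).num = act x.perm x.num := rfl

theorem perm_one : (1 : Elt).perm = 1 := rfl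

theorem num_one : (1 : Elt).num = 0 := rfl

noncomputable instance instGroupElt : Group Elt :=
  Group.ofLeftAxioms
    (fun a b c => by
      apply Elt.pair_inj
      refine Prod.ext (mul_assoc _ _ _) ?_
      show act c.perm⁻¹ (act b.perm⁻¹ a.num ^^^ b.num) ^^^ c.num =
        act (b.perm * c.perm)⁻¹ a.num ^^^ (act c.perm⁻¹ b.num ^^^ c.num)
      rw [act_xor, mul_inv_rev, act_mul (inv_mem c.perm_mem), Nat.xor_assoc])
    (fun a => by
      apply Elt.pair_inj
      refine Prod.ext (one_mul _) ?_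
      show act a.perm⁻¹ 0 ^^^ a.num = a.num
      rw [act_zero, Nat.zero_xor])
    (fun a => by
      apply Elt.pair_inj
      refine Prod.ext (inv_mul_cancel _) ?_
      show act a.perm⁻¹ (act a.perm a.num) ^^^ a.num = 0
      rw [act_inv_act a.perm_mem a.num_lt, Nat.xor_self])

theorem pair_mul (x y : Elt) : (x * y).pair = sMul x.pair y.pair := rfl

/-! ### The stabiliser -/

theorem cOf_xor' : ∀ a, a < 64 → ∀ b, b < 64 → ∃ c, c < 64 ∧ cOf a ^^^ cOf b = cOf c := by
  have h : (List.range 64).all (fun a => (List.range 64).all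
      fun b => cOf a ^^^ cOf b == cOf (a ^^^ b)) = true := by decide +kernel
  intro a ha b hb
  exact ⟨a ^^^ b, Nat.xor_lt_two_pow (n := 6) ha hb, by
    simpa using List.all_eq_true.1 (List.all_eq_true.1 h a (List.mem_range.2 ha)) b
      (List.mem_range.2 hb)⟩

theorem oStab_one : OStab 1 := by
  refine ⟨one_mem _, fun i hi => ⟨i, hi, by simp⟩, fun c hc => ⟨c, hc, act_one ?_⟩⟩
  have h : (List.range 64).all (fun c => decide (cOf c < 2048)) = true := by decide +kernel
  simpa using List.all_eq_true.1 h c (List.mem_range.2 hc)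

theorem oStab_mul {σ τ : Equiv.Perm GolayPt} (hσ : OStab σ) (hτ : OStab τ) : OStab (σ * τ) := by
  refine ⟨mul_mem hσ.1 hτ.1, fun i hi => ?_, fun c hc => ?_⟩
  · obtain ⟨j, hj, e⟩ := hτ.2.1 i hi
    obtain ⟨k, hk, e'⟩ := hσ.2.1 j hj
    exact ⟨k, hk, by rw [← e', ← e]; group⟩
  · obtain ⟨c', hc', e⟩ := hτ.2.2 c hc
    obtain ⟨d, hd, e'⟩ := hσ.2.2 c' hc'
    exact ⟨d, hd, by rw [act_mul hσ.1, e, e']⟩

theorem vTwo_zero : VTwo 0 :=
  ⟨by norm_num, fun i _ => ⟨0, by norm_num, by rw [act_zero, Nat.xor_self]; decide +kernel⟩⟩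

theorem vTwo_xor {a b : ℕ} (ha : VTwo a) (hb : VTwo b) : VTwo (a ^^^ b) := by
  refine ⟨xor_lt ha.1 hb.1, fun i hi => ?_⟩
  obtain ⟨c, hc, e⟩ := ha.2 i hi
  obtain ⟨d, hd, e'⟩ := hb.2 i hi
  obtain ⟨f, hf, e''⟩ := cOf_xor' c hc d hd
  exact ⟨f, hf, by rw [act_xor, ← e'', ← e, ← e']; ac_rfl⟩

theorem vTwo_act {σ : Equiv.Perm GolayPt} {a : ℕ} (hσ : OStab σ) (hσ' : OStab σ⁻¹)
    (hP : ∀ i, i < 16 → oP i ∈ Cfsg.M24) (ha : VTwo a) : VTwo (act σ a) := by
  refine ⟨act_lt _ _, fun i hi => ?_⟩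
  obtain ⟨j, hj, e⟩ := hσ'.2.1 i hi
  rw [inv_inv] at e
  obtain ⟨c, hc, e'⟩ := ha.2 j hj
  obtain ⟨c', hc', e''⟩ := hσ.2.2 c hc
  refine ⟨c', hc', ?_⟩
  have hje : oP i * σ = σ * oP j := by rw [← e]; group
  rw [← e'', ← act_mul (hP i hi), hje, act_mul hσ.1, ← act_xor, e']

/-- The test for a member of the stabiliser. -/
def oTest (l : List ℕ) : Bool :=
  Golay.inM24 l &&
  ((List.range 16).all fun i => (List.range 16).any fun j =>
    (List.range 24).all fun p => Golay.applyNum l (Golay.applyNum (oL i) p) ==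
      Golay.applyNum (oL j) (Golay.applyNum l p)) &&
  (List.range 64).all fun c => (List.range 64).any fun d => actL l (cOf c) == cOf d

theorem oValid {i : ℕ} (hi : i < 16) : Golay.inM24 (oL i) = true := by
  have h : (List.range 16).all (fun i => Golay.inM24 (oL i)) = true := by decide +kernel
  exact List.all_eq_true.1 h i (List.mem_range.2 hi)

theorem oStab_of_test {l : List ℕ} (h : oTest l = true) : OStab (Golay.toPerm l) := by
  simp only [oTest, Bool.and_eq_true, List.all_eq_true, List.any_eq_true, List.mem_range,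
    beq_iff_eq] at h
  obtain ⟨⟨hm, hc⟩, hcl⟩ := h
  have hv := Golay.inM24.valid hm
  refine ⟨Golay.toPerm_mem_M24 hm, fun i hi => ?_, fun c hcb => ?_⟩
  · obtain ⟨j, hj, e⟩ := hc i hi
    refine ⟨j, hj, ?_⟩
    rw [mul_inv_eq_iff_eq_mul]
    refine Equiv.ext fun p => Golay.ptEquiv.injective (Fin.ext ?_)
    show (Golay.idx _).val = (Golay.idx _).val
    simp only [Equiv.Perm.mul_apply, oP]
    rw [Golay.idx_toPerm hv, Golay.idx_toPerm (Golay.inM24.valid (oValid hi)),
      Golay.idx_toPerm (Golay.inM24.valid (oValid hj)), Golay.idx_toPerm hv]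
    exact e _ (Golay.idx p).isLt
  · obtain ⟨d, hd, e⟩ := hcl c hcb
    exact ⟨d, hd, by rw [actL_eq hv, e]⟩

theorem g_tests : (List.range 10).all (fun j => oTest (gD j).1 && oTest (gD j).2.1 &&
    Golay.validList (Golay.compList (gD j).2.1 (gD j).1) &&
    ((List.range 24).all fun p => Golay.applyNum (gD j).2.1 (Golay.applyNum (gD j).1 p) == p) &&
    decide ((gD j).2.2 < 2048) &&
    (List.range 16).all fun i => (List.range 64).any fun c =>
      actL (oL i) (gD j).2.2 ^^^ (gD j).2.2 == cOf c) = true := by decide +kernel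

theorem g_facts {j : ℕ} (hj : j < 10) :
    OStab (Golay.toPerm (gD j).1) ∧ OStab (Golay.toPerm (gD j).1)⁻¹ ∧
    (Golay.toPerm (gD j).1)⁻¹ = Golay.toPerm (gD j).2.1 ∧ VTwo (gD j).2.2 ∧
    Golay.validList (gD j).1 = true ∧ Golay.validList (gD j).2.1 = true := by
  have h := List.all_eq_true.1 g_tests j (List.mem_range.2 hj)
  simp only [Bool.and_eq_true, decide_eq_true_eq] at h
  obtain ⟨⟨⟨⟨⟨hg, hgi⟩, -⟩, hinv⟩, hn⟩, hv⟩ := h
  have v1 : Golay.validList (gD j).1 = true := by
    simp only [oTest, Bool.and_eq_true] at hg; exact Golay.inM24.valid hg.1.1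
  have v2 : Golay.validList (gD j).2.1 = true := by
    simp only [oTest, Bool.and_eq_true] at hgi; exact Golay.inM24.valid hgi.1.1
  have e : (Golay.toPerm (gD j).1)⁻¹ = Golay.toPerm (gD j).2.1 := by
    refine inv_eq_of_mul_eq_one_left (Equiv.ext fun p => Golay.ptEquiv.injective (Fin.ext ?_))
    show (Golay.idx _).val = (Golay.idx _).val
    rw [Equiv.Perm.mul_apply, Golay.idx_toPerm v2, Golay.idx_toPerm v1]
    simp only [List.all_eq_true, List.mem_range, beq_iff_eq] at hinv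
    exact hinv _ (Golay.idx p).isLt
  refine ⟨oStab_of_test hg, e ▸ oStab_of_test hgi, e, ⟨hn, fun i hi => ?_⟩, v1, v2⟩
  simp only [List.all_eq_true, List.any_eq_true, List.mem_range, beq_iff_eq] at hv
  obtain ⟨c, hc, ec⟩ := hv i hi
  exact ⟨c, hc, by rw [oP, actL_eq (Golay.inM24.valid (oValid hi)), ec]⟩

/-- The element number `j`. -/
noncomputable def gen (j : Fin 10) : Elt :=
  ⟨Golay.toPerm (gD j).1, (gD j).2.2, (g_facts j.isLt).1.1, (g_facts j.isLt).2.2.2.1.1⟩

/-- The members with both permutations in the stabiliser and the number moved into the fixed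
classes. -/
noncomputable def good : Subgroup Elt where
  carrier := {x | OStab x.perm ∧ OStab x.perm⁻¹ ∧ VTwo x.num}
  one_mem' := ⟨oStab_one, by rw [perm_one, inv_one]; exact oStab_one, vTwo_zero⟩
  mul_mem' := by
    rintro x y ⟨hx, hx', hxv⟩ ⟨hy, hy', hyv⟩
    refine ⟨oStab_mul hx hy, ?_, ?_⟩
    · rw [perm_mul, mul_inv_rev]; exact oStab_mul hy' hx'
    · rw [num_mul]
      exact vTwo_xor (vTwo_act hy' (by rw [inv_inv]; exact hy)
        (fun i hi => Golay.toPerm_mem_M24 (oValid hi)) hxv) hyv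
  inv_mem' := by
    rintro x ⟨hx, hx', hxv⟩
    refine ⟨hx', by rw [perm_inv, inv_inv]; exact hx, ?_⟩
    rw [num_inv]
    exact vTwo_act hx hx' (fun i hi => Golay.toPerm_mem_M24 (oValid hi)) hxv

theorem gen_mem_good (j : Fin 10) : gen j ∈ good :=
  ⟨(g_facts j.isLt).1, (g_facts j.isLt).2.1, (g_facts j.isLt).2.2.2.1⟩

/-! ### The lists of elements -/

/-- The pair of a listed element. -/
noncomputable def toE (e : List ℕ × ℕ) : Equiv.Perm GolayPt × ℕ := (Golay.toPerm e.1, e.2)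

/-- The product with the element having the given data. -/
def mulR (e : List ℕ × ℕ) (g : List ℕ × List ℕ × ℕ) : List ℕ × ℕ :=
  (Golay.compList e.1 g.1, actL g.2.1 e.2 ^^^ g.2.2)

/-- The data of the inverse. -/
def invD (g : List ℕ × List ℕ × ℕ) : List ℕ × List ℕ × ℕ := (g.2.1, g.1, actL g.1 g.2.2)

/-- The span of the first `k` elements. -/
def lst : ℕ → List (List ℕ × ℕ)
  | 0 => [(idL, 0)]
  | k + 1 => lst k ++ (lst k).map fun e => mulR e (gD k)

theorem valid_all : (lst 10).all (fun e => Golay.validList e.1) = true := by decide +kernel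

theorem lst_mono {k : ℕ} : ∀ {m : ℕ}, k ≤ m → lst k ⊆ lst m := by
  intro m h
  induction h with
  | refl => exact List.Subset.refl _
  | step _ ih => exact List.Subset.trans ih (List.subset_append_left _ _)

theorem valid_of_mem {k : ℕ} (hk : k ≤ 10) {e : List ℕ × ℕ} (he : e ∈ lst k) :
    Golay.validList e.1 = true :=
  List.all_eq_true.1 valid_all e (lst_mono hk he)

theorem mulR_spec {x : Elt} {e : List ℕ × ℕ} (he : x.pair = toE e)
    (hev : Golay.validList e.1 = true) {j : ℕ} (hj : j < 10)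
    (hv : Golay.validList (Golay.compList e.1 (gD j).1) = true) :
    (x * gen ⟨j, hj⟩).pair = toE (mulR e (gD j)) := by
  obtain ⟨-, -, hi, -, v1, v2⟩ := g_facts hj
  have h1 : x.perm = Golay.toPerm e.1 := congrArg Prod.fst he
  have h2 : x.num = e.2 := congrArg Prod.snd he
  refine Prod.ext ?_ ?_
  · show x.perm * Golay.toPerm (gD j).1 = Golay.toPerm (Golay.compList e.1 (gD j).1)
    rw [h1, Golay.toPerm_mul hev v1 hv]
  · show act (Golay.toPerm (gD j).1)⁻¹ x.num ^^^ (gD j).2.2 = actL (gD j).2.1 e.2 ^^^ (gD j).2.2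
    rw [h2, hi, actL_eq v2]

theorem lst_succ (k : ℕ) : lst (k + 1) = lst k ++ (lst k).map fun e => mulR e (gD k) := rfl

theorem lst_zero : lst 0 = [(idL, 0)] := rfl

/-- Two image lists differ, or two numbers do. -/
def differ (e f : List ℕ × ℕ) : Bool :=
  e.2 != f.2 || (List.range 24).any fun p => Golay.applyNum e.1 p != Golay.applyNum f.1 p

theorem ne_of_differ {e f : List ℕ × ℕ} (he : Golay.validList e.1 = true)
    (hf : Golay.validList f.1 = true) (h : differ e f = true) : toE e ≠ toE f := by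
  intro heq
  simp only [differ, Bool.or_eq_true, List.any_eq_true, List.mem_range, bne_iff_ne, ne_eq] at h
  rcases h with h | ⟨p, hp, h⟩
  · exact h (congrArg (fun z : Equiv.Perm GolayPt × ℕ => z.2) heq)
  · have e1 : Golay.toPerm e.1 = Golay.toPerm f.1 := congrArg Prod.fst heq
    have e2 := congrArg (fun σ : Equiv.Perm GolayPt => (Golay.idx (σ (Golay.ptN p))).val) e1
    simp only [Golay.idx_toPerm he, Golay.idx_toPerm hf, Golay.idx_ptN hp] at e2
    exact h e2

theorem chain_tests : (List.range 10).all (fun k =>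
    ((lst k).all fun e => differ e ((gD k).1, (gD k).2.2)) &&
    (lst k).contains (mulR ((gD k).1, (gD k).2.2) (gD k)) &&
    (List.range k).all fun j =>
      Golay.validList (mulR ((gD k).1, (gD k).2.2) (gD j)).1 &&
      (lst k).contains (mulR (mulR ((gD k).1, (gD k).2.2) (gD j)) (invD (gD k)))) = true := by
  decide +kernel

section Chain

attribute [local irreducible] gD actL differ Golay.compList Golay.validList lst

/-- The statement maintained along the chain. -/
def Rep (k : ℕ) (K : Subgroup Elt) : Prop :=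
  K = Subgroup.closure {x | ∃ j : Fin 10, j.val < k ∧ gen j = x} ∧
    (∀ x ∈ K, ∃ e ∈ lst k, x.pair = toE e) ∧ (∀ e ∈ lst k, ∃ x ∈ K, x.pair = toE e) ∧
    ((lst k).map toE).Nodup

theorem one_pair : (1 : Elt).pair = toE (idL, 0) := by
  refine Prod.ext ?_ rfl
  show (1 : Equiv.Perm GolayPt) = Golay.toPerm idL
  rw [eq_comm, Golay.toPerm_eq_iff (by decide +kernel)]
  intro i
  have h : ∀ i : Fin 24, Golay.applyNum idL i.val = i.val := by decide +kernel
  rw [h, Equiv.Perm.one_apply, Golay.idx_pt]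

theorem rep_zero : ∃ K, Rep 0 K := by
  refine ⟨⊥, ?_, ?_, ?_, by simp [lst_zero]⟩
  · rw [eq_comm, Subgroup.closure_eq_bot_iff]
    rintro x ⟨j, hj, -⟩
    exact absurd hj (Nat.not_lt_zero _)
  · intro x hx
    rw [Subgroup.mem_bot.1 hx]
    exact ⟨_, lst_zero ▸ List.mem_singleton_self _, one_pair⟩
  · intro e he
    rw [lst_zero] at he
    rw [List.mem_singleton.1 he]
    exact ⟨1, Subgroup.mem_bot.2 rfl, one_pair⟩

theorem rep_succ {k : ℕ} (hk : k < 10) {K : Subgroup Elt} (hK : Rep k K) :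
    ∃ K', Rep (k + 1) K' := by
  obtain ⟨hcl, hto, hfrom, hnd⟩ := hK
  have hmem : ∀ x, x ∈ K ↔ ∃ e ∈ lst k, x.pair = toE e := fun x =>
    ⟨hto x, fun ⟨e, he, hx⟩ => by
      obtain ⟨y, hy, hye⟩ := hfrom e he
      rwa [Elt.pair_inj (hx.trans hye.symm)]⟩
  have ht := List.all_eq_true.1 chain_tests k (List.mem_range.2 hk)
  simp only [Bool.and_eq_true, List.all_eq_true, List.mem_range, List.contains_iff_mem] at ht
  obtain ⟨⟨hne, hsq⟩, hconj⟩ := ht
  obtain ⟨-, -, hgi, -, v1, v2⟩ := g_facts hk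
  set g : Elt := gen ⟨k, hk⟩ with hgdef
  have hgp : g.pair = toE ((gD k).1, (gD k).2.2) := rfl
  have hg : g ∉ K := fun h => by
    obtain ⟨e, he, hee⟩ := (hmem g).1 h
    exact ne_of_differ (f := ((gD k).1, (gD k).2.2)) (valid_of_mem hk.le he) v1 (hne e he)
      (hee.symm.trans hgp)
  have hsq' : g * g ∈ K := (hmem _).2 ⟨_, hsq, by
    rw [mulR_spec hgp v1 hk]
    exact valid_of_mem hk.le hsq⟩
  have hginv : (g⁻¹).pair = toE ((gD k).2.1, actL (gD k).1 (gD k).2.2) := by
    refine Prod.ext hgi ?_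
    show act (Golay.toPerm (gD k).1) (gD k).2.2 = _
    rw [actL_eq v1]
    rfl
  have hnorm : ∀ x ∈ K, g * x * g⁻¹ ∈ K := by
    intro x hx
    have hle : K ≤ K.comap (MulAut.conj g).toMonoidHom := by
      conv_lhs => rw [hcl]
      rw [Subgroup.closure_le]
      rintro y ⟨j, hj, rfl⟩
      show g * gen j * g⁻¹ ∈ K
      obtain ⟨hv, hc⟩ := hconj j.val hj
      have e1 := mulR_spec hgp v1 j.isLt hv
      refine (hmem _).2 ⟨_, hc, Prod.ext ?_ ?_⟩
      · show (g * gen j).perm * (g⁻¹).perm = _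
        rw [show (g * gen j).perm = _ from congrArg Prod.fst e1,
          show (g⁻¹).perm = _ from congrArg Prod.fst hginv]
        exact (Golay.toPerm_mul hv v2 (valid_of_mem hk.le hc)).symm
      · show act (g⁻¹).perm⁻¹ (g * gen j).num ^^^ (g⁻¹).num = _
        rw [perm_inv, inv_inv, show (g * gen j).num = _ from congrArg Prod.snd e1,
          show (g⁻¹).num = _ from congrArg Prod.snd hginv]
        show act (Golay.toPerm (gD k).1) _ ^^^ _ = _
        rw [actL_eq v1]
        rfl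
    exact hle hx
  let K' : Subgroup Elt :=
    { carrier := {x | x ∈ K ∨ x * g⁻¹ ∈ K}
      one_mem' := Or.inl K.one_mem
      mul_mem' := by
        rintro a b (ha | ha) (hb | hb)
        · exact Or.inl (mul_mem ha hb)
        · exact Or.inr (by simpa [mul_assoc] using mul_mem ha hb)
        · refine Or.inr ?_
          have h := mul_mem ha (hnorm b hb)
          simpa [mul_assoc] using h
        · refine Or.inl ?_
          have h := mul_mem (mul_mem ha (hnorm _ hb)) hsq'
          simpa [mul_assoc] using h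
      inv_mem' := by
        rintro a (ha | ha)
        · exact Or.inl (inv_mem ha)
        · refine Or.inr ?_
          have h := mul_mem (inv_mem hsq') (hnorm _ (inv_mem ha))
          simpa [mul_assoc] using h }
  have hgK' : g ∈ K' := Or.inr (by rw [mul_inv_cancel]; exact K.one_mem)
  refine ⟨K', le_antisymm ?_ ?_, ?_, ?_, ?_⟩
  · set S := Subgroup.closure {x | ∃ j : Fin 10, j.val < k + 1 ∧ gen j = x} with hS
    have hKS : K ≤ S := by
      rw [hcl]
      refine Subgroup.closure_mono ?_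
      rintro x ⟨j, hj, rfl⟩
      exact ⟨j, by omega, rfl⟩
    have hgS : g ∈ S := Subgroup.subset_closure ⟨⟨k, hk⟩, by simp, rfl⟩
    rintro x (hx | hx)
    · exact hKS hx
    · simpa using mul_mem (hKS hx) hgS
  · rw [Subgroup.closure_le]
    rintro x ⟨j, hj, rfl⟩
    rcases Nat.lt_succ_iff_lt_or_eq.1 hj with h | h
    · exact Or.inl (by rw [hcl]; exact Subgroup.subset_closure ⟨j, h, rfl⟩)
    · rw [show j = ⟨k, hk⟩ from Fin.ext h]; exact hgK'
  · rintro x (hx | hx)
    · obtain ⟨e, he, hee⟩ := (hmem x).1 hx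
      exact ⟨e, lst_succ k ▸ List.mem_append_left _ he, hee⟩
    · obtain ⟨e, he, hee⟩ := (hmem _).1 hx
      have hin : mulR e (gD k) ∈ lst (k + 1) :=
        (lst_succ k ▸ List.mem_append_right _ (List.mem_map.2 ⟨e, he, rfl⟩))
      refine ⟨_, hin, ?_⟩
      rw [← mulR_spec hee (valid_of_mem hk.le he) hk (valid_of_mem hk hin), ← hgdef,
        inv_mul_cancel_right]
  · intro e he
    rw [lst_succ] at he
    rcases List.mem_append.1 he with he | he
    · obtain ⟨y, hy, hye⟩ := hfrom e he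
      exact ⟨y, Or.inl hy, hye⟩
    · obtain ⟨f, hf, rfl⟩ := List.mem_map.1 he
      obtain ⟨y, hy, hye⟩ := hfrom f hf
      have hv := valid_of_mem (k := k + 1) hk
        ((lst_succ k ▸ List.mem_append_right _ (List.mem_map.2 ⟨f, hf, rfl⟩)))
      exact ⟨y * g, Or.inr (by rw [mul_inv_cancel_right]; exact hy),
        mulR_spec hye (valid_of_mem hk.le hf) hk hv⟩
  · have hmul : ∀ f ∈ lst k, ∀ y : Elt, y.pair = toE f → (y * g).pair = toE (mulR f (gD k)) :=
      fun f hf y hy => mulR_spec hy (valid_of_mem hk.le hf) hk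
        (valid_of_mem (k := k + 1) hk ((lst_succ k ▸ List.mem_append_right _ (List.mem_map.2 ⟨f, hf, rfl⟩))))
    have key : ∀ f ∈ lst k, ∀ f' ∈ lst k, toE (mulR f (gD k)) = toE (mulR f' (gD k)) →
        toE f = toE f' := by
      intro f hf f' hf' he
      obtain ⟨y, -, hye⟩ := hfrom f hf
      obtain ⟨y', -, hye'⟩ := hfrom f' hf'
      rw [← hmul f hf y hye, ← hmul f' hf' y' hye'] at he
      rw [← hye, ← hye', mul_right_cancel (Elt.pair_inj he)]
    rw [lst_succ, List.map_append, List.map_map, List.nodup_append]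
    refine ⟨hnd, (List.Nodup.of_map toE hnd).map_on fun f hf f' hf' he => ?_, ?_⟩
    · exact List.inj_on_of_nodup_map hnd hf hf' (key f hf f' hf' he)
    · intro a ha b hb hab
      obtain ⟨e, he, rfl⟩ := List.mem_map.1 ha
      obtain ⟨f, hf, rfl⟩ := List.mem_map.1 hb
      obtain ⟨x, hx, hxe⟩ := hfrom e he
      obtain ⟨y, hy, hye⟩ := hfrom f hf
      have hxy : x = y * g := Elt.pair_inj (hxe.trans (hab.trans (hmul f hf y hye).symm))
      exact hg (by
        have h := mul_mem (inv_mem hy) hx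
        rwa [hxy, inv_mul_cancel_left] at h)

theorem exists_rep : ∀ k, k ≤ 10 → ∃ K, Rep k K
  | 0, _ => rep_zero
  | k + 1, h => by
    obtain ⟨K, hK⟩ := exists_rep k (by omega)
    exact rep_succ (by omega) hK

theorem lst_length : ∀ k, (lst k).length = 2 ^ k
  | 0 => by rw [lst_zero]; rfl
  | k + 1 => by rw [lst_succ, List.length_append, List.length_map, lst_length k, pow_succ]; omega

end Chain

theorem meet_trivial : (lst 10).all (fun e => (List.range 64).all fun c =>
    e.2 != cOf c || (List.range 16).all fun i =>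
      (i == 0 && c == 0) || differ e (oL i, cOf c)) = true := by decide +kernel

end Cfsg.Agent.Lib.J4Ten43.Compl

namespace Cfsg.Agent.Lib.J4Ten43

open Cfsg Cfsg.Agent.Lib Cfsg.Agent.Lib.J4Two56

attribute [local irreducible] Compl.lst Compl.differ cOf oL Golay.validList Golay.inM24

open scoped Classical in
/-- A complement of the coordinate subgroup in a Sylow 2-subgroup of its normaliser. -/
theorem compl : ComplStmt := by
  obtain ⟨K, hcl, hto, hfrom, hnd⟩ := Compl.exists_rep 10 le_rfl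
  refine ⟨((Compl.lst 10).map Compl.toE).toFinset, ?_, ?_, fun x hx => ?_, fun x hx y hy => ?_,
    fun i c hi hc h => ?_⟩
  · rw [List.toFinset_card_of_nodup hnd, List.length_map, Compl.lst_length]
    norm_num
  · rw [List.mem_toFinset, List.mem_map]
    obtain ⟨e, he, hee⟩ := hto 1 K.one_mem
    exact ⟨e, he, hee.symm⟩
  · rw [List.mem_toFinset, List.mem_map] at hx
    obtain ⟨e, he, rfl⟩ := hx
    obtain ⟨z, hz, hze⟩ := hfrom e he
    have hle : K ≤ Compl.good := by
      rw [hcl, Subgroup.closure_le]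
      rintro w ⟨j, -, rfl⟩
      exact Compl.gen_mem_good j
    rw [← hze]
    exact ⟨(hle hz).1, (hle hz).2.2⟩
  · rw [List.mem_toFinset, List.mem_map] at hx hy ⊢
    obtain ⟨e, he, rfl⟩ := hx
    obtain ⟨f, hf, rfl⟩ := hy
    obtain ⟨a, ha, hae⟩ := hfrom e he
    obtain ⟨b, hb, hbf⟩ := hfrom f hf
    obtain ⟨d, hd, hde⟩ := hto _ (K.mul_mem ha hb)
    exact ⟨d, hd, by rw [← hde, Compl.pair_mul, hae, hbf]⟩
  · rw [List.mem_toFinset, List.mem_map] at h
    obtain ⟨e, he, hee⟩ := h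
    have hb := List.all_eq_true.1 (List.all_eq_true.1 Compl.meet_trivial e he) c
      (List.mem_range.2 hc)
    simp only [Bool.or_eq_true, bne_iff_ne, ne_eq, List.all_eq_true, List.mem_range,
      Bool.and_eq_true, beq_iff_eq] at hb
    rcases hb with hb | hb
    · exact absurd (congrArg Prod.snd hee) hb
    · rcases hb i hi with ⟨rfl, rfl⟩ | hb
      · exact ⟨rfl, rfl⟩
      · have hv1 := Compl.valid_of_mem (le_refl 10) he
        have hv2 := Golay.inM24.valid (Compl.oValid hi)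
        have hne := Compl.ne_of_differ (e := e) (f := (oL i, cOf c)) hv1 hv2 hb
        exact absurd hee hne

end Cfsg.Agent.Lib.J4Ten43
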