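import Cfsg.Agent.Lib.J4Ten43.Stmts2
import Cfsg.Agent.Lib.J4Two56.Classes

/-!
# The subgroup of order `2 ^ 10` and its coordinates
-/

set_option autoImplicit false

universe u

namespace Cfsg.Agent.Lib.J4Ten43

open Cfsg Cfsg.Agent.Lib Cfsg.Agent.Lib.J4Two56

variable {G : Type u} [Group G] {z : G} (T : Todd G z) (S : Split56 G z T)

/-- The permutation group of the complement, inverted. -/
noncomputable def kHom : ↥Cfsg.M24 →* G :=
  S.K.subtype.comp (MulEquiv.ofBijective (permHom S)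
    ⟨permHom_injective S, permHom_surjective S⟩).symm.toMonoidHom

open scoped Classical in
/-- The lift of a permutation into the complement. -/
noncomputable def kL (σ : Equiv.Perm GolayPt) : G :=
  if h : σ ∈ Cfsg.M24 then kHom T S ⟨σ, h⟩ else 1

theorem kL_of {σ : Equiv.Perm GolayPt} (h : σ ∈ Cfsg.M24) : kL T S σ = kHom T S ⟨σ, h⟩ := dif_pos h

theorem kHom_mem (σ : ↥Cfsg.M24) : kHom T S σ ∈ S.K :=
  ((MulEquiv.ofBijective (permHom S) ⟨permHom_injective S, permHom_surjective S⟩).symm σ).2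

theorem kHom_mem_N (σ : ↥Cfsg.M24) : kHom T S σ ∈ Subgroup.normalizer (T.V : Set G) :=
  S.le (kHom_mem T S σ)

theorem ρ_kHom (σ : ↥Cfsg.M24) : T.ρ ⟨kHom T S σ, kHom_mem_N T S σ⟩ = σ :=
  (MulEquiv.ofBijective (permHom S) ⟨permHom_injective S, permHom_surjective S⟩).apply_symm_apply σ

theorem kL_mem_N (σ : Equiv.Perm GolayPt) : kL T S σ ∈ Subgroup.normalizer (T.V : Set G) := by
  rw [kL]
  split
  · exact kHom_mem_N T S _
  · exact one_mem _

theorem kL_one : kL T S 1 = 1 := by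
  rw [kL_of T S (one_mem _)]
  exact map_one (kHom T S)

theorem kL_mul {σ τ : Equiv.Perm GolayPt} (hσ : σ ∈ Cfsg.M24) (hτ : τ ∈ Cfsg.M24) :
    kL T S (σ * τ) = kL T S σ * kL T S τ := by
  rw [kL_of T S hσ, kL_of T S hτ, kL_of T S (mul_mem hσ hτ), ← map_mul]
  rfl

theorem kL_inv {σ : Equiv.Perm GolayPt} (hσ : σ ∈ Cfsg.M24) : kL T S σ⁻¹ = (kL T S σ)⁻¹ := by
  rw [kL_of T S hσ, kL_of T S (inv_mem hσ), ← map_inv]
  rfl

theorem kL_el {σ : Equiv.Perm GolayPt} (hσ : σ ∈ Cfsg.M24) {a : ℕ} (ha : a < 2048) :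
    kL T S σ * T.el a * (kL T S σ)⁻¹ = T.el (act σ a) := by
  rw [kL_of T S hσ]
  have h := T.ρ_spec ⟨_, kHom_mem_N T S ⟨σ, hσ⟩⟩ a ha
  rwa [ρ_kHom] at h

theorem el_kL {σ : Equiv.Perm GolayPt} (hσ : σ ∈ Cfsg.M24) {a : ℕ} (ha : a < 2048) :
    T.el a * kL T S σ = kL T S σ * T.el (act σ⁻¹ a) := by
  have h := kL_el T S hσ (act_lt σ⁻¹ a)
  rw [act_act_inv hσ ha] at h
  rw [← h]; group

/-- An element of the normaliser from a permutation and a class. -/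
noncomputable def pr (σ : Equiv.Perm GolayPt) (a : ℕ) : G := kL T S σ * T.el a

theorem pr_mem_N {σ : Equiv.Perm GolayPt} {a : ℕ} (ha : a < 2048) :
    pr T S σ a ∈ Subgroup.normalizer (T.V : Set G) :=
  mul_mem (kL_mem_N T S σ) (Subgroup.le_normalizer (T.el_mem ha))

theorem ρ_pr {σ : Equiv.Perm GolayPt} (hσ : σ ∈ Cfsg.M24) {a : ℕ} (ha : a < 2048) :
    ((T.ρ ⟨pr T S σ a, pr_mem_N T S ha⟩ : ↥Cfsg.M24) : Equiv.Perm GolayPt) = σ := by
  have e : (⟨pr T S σ a, pr_mem_N T S ha⟩ : ↥(Subgroup.normalizer (T.V : Set G))) =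
      ⟨kL T S σ, kL_mem_N T S σ⟩ * ⟨T.el a, Subgroup.le_normalizer (T.el_mem ha)⟩ := rfl
  rw [e, map_mul, T.ρ_of_mem (n := ⟨T.el a, _⟩) (T.el_mem ha), mul_one]
  have e2 : (⟨kL T S σ, kL_mem_N T S σ⟩ : ↥(Subgroup.normalizer (T.V : Set G))) =
      ⟨kHom T S ⟨σ, hσ⟩, kHom_mem_N T S _⟩ := Subtype.ext (kL_of T S hσ)
  rw [e2, ρ_kHom]

theorem pr_mul {σ τ : Equiv.Perm GolayPt} (hσ : σ ∈ Cfsg.M24) (hτ : τ ∈ Cfsg.M24) {a b : ℕ}
    (ha : a < 2048) (hb : b < 2048) :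
    pr T S σ a * pr T S τ b = pr T S (σ * τ) (act τ⁻¹ a ^^^ b) := by
  simp only [pr]
  rw [kL_mul T S hσ hτ, T.el_xor _ (act_lt _ _) _ hb]
  calc kL T S σ * T.el a * (kL T S τ * T.el b) = kL T S σ * (T.el a * kL T S τ) * T.el b := by group
    _ = _ := by rw [el_kL T S hτ ha]; group

theorem pr_inj {σ τ : Equiv.Perm GolayPt} (hσ : σ ∈ Cfsg.M24) (hτ : τ ∈ Cfsg.M24) {a b : ℕ}
    (ha : a < 2048) (hb : b < 2048) (h : pr T S σ a = pr T S τ b) : σ = τ ∧ a = b := by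
  have e : σ = τ := by
    rw [← ρ_pr T S hσ ha, ← ρ_pr T S hτ hb]
    simp only [h]
  subst e
  exact ⟨rfl, T.el_inj a ha b hb (mul_left_cancel h)⟩

theorem exists_pr {x : G} (hx : x ∈ Subgroup.normalizer (T.V : Set G)) :
    ∃ a, a < 2048 ∧ x = pr T S ((T.ρ ⟨x, hx⟩ : ↥Cfsg.M24) : Equiv.Perm GolayPt) a := by
  obtain ⟨σ, hσ⟩ : ∃ σ, σ = ((T.ρ ⟨x, hx⟩ : ↥Cfsg.M24) : Equiv.Perm GolayPt) := ⟨_, rfl⟩
  have hM : σ ∈ Cfsg.M24 := hσ ▸ (T.ρ ⟨x, hx⟩).2
  have h1 : T.ρ ((⟨kL T S σ, kL_mem_N T S σ⟩ : ↥(Subgroup.normalizer (T.V : Set G)))⁻¹ * ⟨x, hx⟩) = 1 := by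
    have e2 : (⟨kL T S σ, kL_mem_N T S σ⟩ : ↥(Subgroup.normalizer (T.V : Set G))) =
        ⟨kHom T S ⟨σ, hM⟩, kHom_mem_N T S _⟩ := Subtype.ext (kL_of T S hM)
    rw [map_mul, map_inv, e2, ρ_kHom, inv_mul_eq_one]
    exact Subtype.ext hσ
  obtain ⟨a, ha, hae⟩ := (T.mem_V _).1 (T.mem_V_of_ρ h1)
  refine ⟨a, ha, ?_⟩
  rw [← hσ, pr, hae]
  simp

theorem pr_mem_V {σ : Equiv.Perm GolayPt} (hσ : σ ∈ Cfsg.M24) {a : ℕ} (ha : a < 2048) :
    pr T S σ a ∈ T.V ↔ σ = 1 := by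
  constructor
  · intro h
    rw [← ρ_pr T S hσ ha, T.ρ_of_mem (n := ⟨pr T S σ a, _⟩) h]
    rfl
  · rintro rfl
    rw [pr, kL_one, one_mul]
    exact T.el_mem ha

/-- The element with a given coordinate. -/
noncomputable def co (n : ℕ) : G := pr T S (oP (n / 64)) (cOf (n % 64))

variable {T S} (B : BasicFacts)

include B

omit [Group G] in
theorem oP_sq {i : ℕ} (hi : i < 16) : oP i * oP i = 1 := by
  rw [← B.oP_xor i i hi hi, Nat.xor_self, B.oP_zero]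

omit [Group G] in
theorem oP_inv {i : ℕ} (hi : i < 16) : (oP i)⁻¹ = oP i := inv_eq_of_mul_eq_one_right (oP_sq B hi)

omit [Group G] in
theorem cOf_zero_of_basic : cOf 0 = 0 := by
  have h := B.cOf_xor 0 0 (by norm_num) (by norm_num)
  rw [Nat.xor_self, Nat.xor_self] at h
  exact h

omit B [Group G] in
theorem div_lt {n : ℕ} (hn : n < 1024) : n / 64 < 16 := by omega

omit B [Group G] in
theorem xor_lt_ten {a b : ℕ} (ha : a < 1024) (hb : b < 1024) : a ^^^ b < 1024 :=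
  Nat.xor_lt_two_pow (n := 10) ha hb

theorem co_of (T' : Todd G z) (S' : Split56 G z T') {i c : ℕ} (hc : c < 64) :
    co T' S' (64 * i + c) = pr T' S' (oP i) (cOf c) := by
  rw [co, show (64 * i + c) / 64 = i by omega, show (64 * i + c) % 64 = c by omega]

theorem co_small {c : ℕ} (hc : c < 64) : co T S c = T.el (cOf c) := by
  rw [co, show c / 64 = 0 by omega, show c % 64 = c by omega, B.oP_zero, pr, kL_one, one_mul]

theorem co_xor {a b : ℕ} (ha : a < 1024) (hb : b < 1024) : co T S (a ^^^ b) = co T S a * co T S b := by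
  have h1 : (a ^^^ b) / 64 = a / 64 ^^^ b / 64 := Nat.xor_div_two_pow (n := 6)
  have h2 : (a ^^^ b) % 64 = a % 64 ^^^ b % 64 := Nat.xor_mod_two_pow (n := 6)
  rw [co, co, co, h1, h2, pr_mul T S (B.oP_mem _ (div_lt ha)) (B.oP_mem _ (div_lt hb))
    (B.cOf_lt _ (Nat.mod_lt _ (by norm_num))) (B.cOf_lt _ (Nat.mod_lt _ (by norm_num))),
    oP_inv B (div_lt hb), B.fix_cOf _ _ (div_lt hb) (Nat.mod_lt _ (by norm_num)),
    ← B.oP_xor _ _ (div_lt ha) (div_lt hb),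
    ← B.cOf_xor _ _ (Nat.mod_lt _ (by norm_num)) (Nat.mod_lt _ (by norm_num))]

theorem co_zero : co T S 0 = 1 := by
  have h := co_small (T := T) (S := S) B (c := 0) (by norm_num)
  rwa [cOf_zero_of_basic B, T.el_zero] at h

theorem co_inv {a : ℕ} (ha : a < 1024) : (co T S a)⁻¹ = co T S a :=
  inv_eq_of_mul_eq_one_right (by rw [← co_xor B ha ha, Nat.xor_self, co_zero B])

theorem co_inj {a b : ℕ} (ha : a < 1024) (hb : b < 1024) (h : co T S a = co T S b) : a = b := by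
  obtain ⟨h1, h2⟩ := pr_inj T S (B.oP_mem _ (div_lt ha)) (B.oP_mem _ (div_lt hb))
    (B.cOf_lt _ (Nat.mod_lt _ (by norm_num))) (B.cOf_lt _ (Nat.mod_lt _ (by norm_num))) h
  have e1 := B.oP_inj _ _ (div_lt ha) (div_lt hb) h1
  have e2 := B.cOf_inj _ _ (Nat.mod_lt _ (by norm_num)) (Nat.mod_lt _ (by norm_num)) h2
  omega

theorem co_mem_V {a : ℕ} (ha : a < 1024) : co T S a ∈ T.V ↔ a < 64 := by
  rw [co, pr_mem_V T S (B.oP_mem _ (div_lt ha)) (B.cOf_lt _ (Nat.mod_lt _ (by norm_num)))]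
  constructor
  · intro h
    have := B.oP_inj _ 0 (div_lt ha) (by norm_num) (h.trans B.oP_zero.symm)
    omega
  · intro h
    rw [show a / 64 = 0 by omega, B.oP_zero]

omit B in
theorem co_mem_N (B' : BasicFacts) (a : ℕ) : co T S a ∈ Subgroup.normalizer (T.V : Set G) :=
  pr_mem_N T S (B'.cOf_lt _ (Nat.mod_lt _ (by norm_num)))

variable (T S)

/-- The subgroup of order `2 ^ 10`. -/
noncomputable def tenSub : Subgroup G where
  carrier := {x | ∃ n, n < 1024 ∧ co T S n = x}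
  one_mem' := ⟨0, by norm_num, co_zero B⟩
  mul_mem' := by
    rintro _ _ ⟨a, ha, rfl⟩ ⟨b, hb, rfl⟩
    exact ⟨a ^^^ b, xor_lt_ten ha hb, co_xor B ha hb⟩
  inv_mem' := by
    rintro _ ⟨a, ha, rfl⟩
    exact ⟨a, ha, (co_inv B ha).symm⟩

theorem mem_tenSub {x : G} : x ∈ tenSub T S B ↔ ∃ n, n < 1024 ∧ co T S n = x := Iff.rfl

theorem co_mem {n : ℕ} (hn : n < 1024) : co T S n ∈ tenSub T S B := ⟨n, hn, rfl⟩

theorem card_tenSub : Nat.card ↥(tenSub T S B) = 2 ^ 10 := by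
  let f : Fin 1024 → ↥(tenSub T S B) := fun n => ⟨co T S n, co_mem T S B n.2⟩
  have hf : Function.Bijective f := by
    refine ⟨fun a b h => Fin.ext (co_inj B a.2 b.2 (congrArg Subtype.val h)), ?_⟩
    rintro ⟨x, n, hn, rfl⟩
    exact ⟨⟨n, hn⟩, rfl⟩
  rw [← Nat.card_eq_of_bijective f hf, Nat.card_fin]
  norm_num

theorem tenSub_elementary : Cfsg.IsElementaryAbelian 2 (tenSub T S B) := by
  refine ⟨⟨⟨?_⟩⟩, ?_⟩
  · rintro ⟨_, a, ha, rfl⟩ ⟨_, b, hb, rfl⟩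
    exact Subtype.ext (show co T S a * co T S b = co T S b * co T S a by
      rw [← co_xor B ha hb, ← co_xor B hb ha, Nat.xor_comm])
  · rintro _ ⟨a, ha, rfl⟩
    rw [pow_two, ← co_xor B ha ha, Nat.xor_self, co_zero B]

theorem tenSub_self_cent (hCD : T.CentD) :
    Subgroup.centralizer (tenSub T S B : Set G) = tenSub T S B := by
  refine le_antisymm (fun x hx => ?_) (fun x hx => Subgroup.mem_centralizer_iff.2 fun y hy =>
    congrArg Subtype.val ((tenSub_elementary T S B).1.is_comm.comm ⟨y, hy⟩ ⟨x, hx⟩))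
  have hcomm : ∀ n, n < 1024 → co T S n * x = x * co T S n := fun n hn =>
    Subgroup.mem_centralizer_iff.1 hx _ (co_mem T S B hn)
  obtain ⟨d, hd, hD⟩ := B.exists_isD
  have hxN : x ∈ Subgroup.normalizer (T.V : Set G) := by
    refine hCD _ (B.cOf_lt d hd) hD (Subgroup.mem_centralizer_singleton_iff.2 ?_)
    have h := hcomm d (by omega)
    rw [co_small B hd] at h
    exact h.symm
  obtain ⟨a, ha, hxe⟩ := exists_pr T S hxN
  obtain ⟨σ, hσ⟩ : ∃ σ, σ = ((T.ρ ⟨x, hxN⟩ : ↥Cfsg.M24) : Equiv.Perm GolayPt) := ⟨_, rfl⟩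
  have hM : σ ∈ Cfsg.M24 := hσ ▸ (T.ρ ⟨x, hxN⟩).2
  rw [← hσ] at hxe
  have hfixσ : ∀ c, c < 64 → act σ (cOf c) = cOf c := by
    intro c hc
    have h := hcomm c (by omega)
    rw [co_small B hc] at h
    refine T.el_inj _ (act_lt _ _) _ (B.cOf_lt c hc) ?_
    have h2 := T.ρ_spec ⟨x, hxN⟩ (cOf c) (B.cOf_lt c hc)
    rw [← hσ] at h2
    rw [← h2]
    show x * T.el (cOf c) * x⁻¹ = _
    rw [← h]; group
  obtain ⟨i, hi, rfl⟩ := B.pointwise σ hM hfixσ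
  obtain ⟨c, hc, hce⟩ := B.fix_only a ha (fun j hj => by
    have h := hcomm (64 * j + 0) (by omega)
    rw [co_of B T S (by norm_num), cOf_zero_of_basic B, hxe, pr_mul T S (B.oP_mem j hj) (B.oP_mem i hi)
      (by norm_num) ha, pr_mul T S (B.oP_mem i hi) (B.oP_mem j hj) ha (by norm_num), act_zero,
      Nat.zero_xor, Nat.xor_zero, oP_inv B hj] at h
    exact (pr_inj T S (mul_mem (B.oP_mem j hj) (B.oP_mem i hi))
      (mul_mem (B.oP_mem i hi) (B.oP_mem j hj)) ha (act_lt _ _) h).2.symm)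
  refine ⟨64 * i + c, by omega, ?_⟩
  rw [co_of B T S hc, hce]
  exact hxe.symm

theorem tenSub_le_N : tenSub T S B ≤ Subgroup.normalizer (T.V : Set G) := by
  rintro _ ⟨n, -, rfl⟩
  exact co_mem_N B n

/-- A stabilising permutation normalises the subgroup. -/
theorem kL_conj_co {σ : Equiv.Perm GolayPt} (hσ : OStab σ) {n : ℕ} (hn : n < 1024) :
    ∃ m, m < 1024 ∧ σ * oP (n / 64) * σ⁻¹ = oP (m / 64) ∧ act σ (cOf (n % 64)) = cOf (m % 64) ∧
      kL T S σ * co T S n * (kL T S σ)⁻¹ = co T S m := by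
  obtain ⟨j, hj, he⟩ := hσ.2.1 _ (div_lt hn)
  obtain ⟨c, hc, hce⟩ := hσ.2.2 (n % 64) (Nat.mod_lt _ (by norm_num))
  have h1 : (64 * j + c) / 64 = j := by omega
  have h2 : (64 * j + c) % 64 = c := by omega
  refine ⟨64 * j + c, by omega, by rw [h1]; exact he, by rw [h2]; exact hce, ?_⟩
  rw [co_of B T S hc, co, pr, pr, ← he, ← hce,
    kL_mul T S (mul_mem hσ.1 (B.oP_mem _ (div_lt hn))) (inv_mem hσ.1),
    kL_mul T S hσ.1 (B.oP_mem _ (div_lt hn)), kL_inv T S hσ.1,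
    ← kL_el T S hσ.1 (B.cOf_lt _ (Nat.mod_lt _ (by norm_num)))]
  group

theorem el_conj_co {v : ℕ} (hv : v < 2048) {n : ℕ} (hn : n < 1024) :
    T.el v * co T S n * (T.el v)⁻¹ =
      pr T S (oP (n / 64)) (act (oP (n / 64)) v ^^^ v ^^^ cOf (n % 64)) := by
  have hc := B.cOf_lt (n % 64) (Nat.mod_lt _ (by norm_num))
  rw [co, pr, pr, T.el_inv hv]
  calc T.el v * (kL T S (oP (n / 64)) * T.el (cOf (n % 64))) * T.el v
      = (T.el v * kL T S (oP (n / 64))) * (T.el (cOf (n % 64)) * T.el v) := by group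
    _ = _ := by
      rw [el_kL T S (B.oP_mem _ (div_lt hn)) hv, oP_inv B (div_lt hn), ← T.el_xor _ hc _ hv, mul_assoc,
        ← T.el_xor _ (act_lt _ _) _ (xor_lt hc hv), Nat.xor_assoc,
        Nat.xor_comm v (cOf (n % 64))]

theorem el_conj_co_mem {v : ℕ} (hv : VTwo v) {n : ℕ} (hn : n < 1024) :
    ∃ m, m < 1024 ∧ m / 64 = n / 64 ∧
      act (oP (n / 64)) v ^^^ v ^^^ cOf (n % 64) = cOf (m % 64) ∧
      T.el v * co T S n * (T.el v)⁻¹ = co T S m := by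
  obtain ⟨c, hc, hce⟩ := hv.2 _ (div_lt hn)
  have hc2 : c ^^^ n % 64 < 64 := Nat.xor_lt_two_pow (n := 6) hc (Nat.mod_lt _ (by norm_num))
  have h1 : (64 * (n / 64) + (c ^^^ n % 64)) / 64 = n / 64 := by omega
  have h2 : (64 * (n / 64) + (c ^^^ n % 64)) % 64 = c ^^^ n % 64 := by omega
  have e : cOf (c ^^^ n % 64) = act (oP (n / 64)) v ^^^ v ^^^ cOf (n % 64) := by
    rw [B.cOf_xor _ _ hc (Nat.mod_lt _ (by norm_num)), ← hce]
  refine ⟨64 * (n / 64) + (c ^^^ n % 64), by omega, h1, by rw [h2, e], ?_⟩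
  rw [el_conj_co T S B hv.1 hn, co_of B T S hc2, e]

variable [Finite G]

theorem mem_normalizer_of_conj {g : G} (h : ∀ n, n < 1024 → g * co T S n * g⁻¹ ∈ tenSub T S B) :
    g ∈ Subgroup.normalizer (tenSub T S B : Set G) := by
  rw [Subgroup.mem_normalizer_iff_map_conj_eq]
  refine Subgroup.eq_of_le_of_card_ge ?_
    (Nat.card_congr (Subgroup.equivMapOfInjective _ _ (MulAut.conj g).injective).toEquiv).le
  rintro _ ⟨_, ⟨n, hn, rfl⟩, rfl⟩
  exact h n hn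

theorem kL_mem_norm {σ : Equiv.Perm GolayPt} (hσ : OStab σ) :
    kL T S σ ∈ Subgroup.normalizer (tenSub T S B : Set G) :=
  mem_normalizer_of_conj T S B fun n hn => by
    obtain ⟨m, hm, -, -, he⟩ := kL_conj_co T S B hσ hn
    exact he ▸ co_mem T S B hm

theorem el_mem_norm {v : ℕ} (hv : VTwo v) :
    T.el v ∈ Subgroup.normalizer (tenSub T S B : Set G) :=
  mem_normalizer_of_conj T S B fun n hn => by
    obtain ⟨m, hm, -, -, he⟩ := el_conj_co_mem T S B hv hn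
    exact he ▸ co_mem T S B hm

theorem pr_mem_norm {σ : Equiv.Perm GolayPt} (hσ : OStab σ) {v : ℕ} (hv : VTwo v) :
    pr T S σ v ∈ Subgroup.normalizer (tenSub T S B : Set G) :=
  mul_mem (kL_mem_norm T S B hσ) (el_mem_norm T S B hv)

/-- A step is a conjugation in both normalisers. -/
theorem move_conj {n m : ℕ} (h : Move n m) :
    ∃ g ∈ Subgroup.normalizer (tenSub T S B : Set G),
      g ∈ Subgroup.normalizer (T.V : Set G) ∧ g * co T S n * g⁻¹ = co T S m := by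
  obtain ⟨hn, hm, ⟨σ, hσ, h1, h2⟩ | ⟨v, hv, h1, h2⟩⟩ := h
  · refine ⟨kL T S σ, kL_mem_norm T S B hσ, kL_mem_N T S σ, ?_⟩
    obtain ⟨m', hm', e1, e2, he⟩ := kL_conj_co T S B hσ hn
    rw [he]
    rw [h1] at e1; rw [h2] at e2
    have a1 := B.oP_inj _ _ (div_lt hm) (div_lt hm') e1
    have a2 := B.cOf_inj _ _ (Nat.mod_lt _ (by norm_num)) (Nat.mod_lt _ (by norm_num)) e2
    rw [show m' = m by omega]
  · refine ⟨T.el v, el_mem_norm T S B hv, Subgroup.le_normalizer (T.el_mem hv.1), ?_⟩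
    obtain ⟨m', hm', e1, e2, he⟩ := el_conj_co_mem T S B hv hn
    rw [he]
    rw [h2] at e2
    have a2 := B.cOf_inj _ _ (Nat.mod_lt _ (by norm_num)) (Nat.mod_lt _ (by norm_num)) e2
    rw [show m' = m by omega]

theorem moves_conj {n m : ℕ} (h : Relation.ReflTransGen Move n m) :
    ∃ g ∈ Subgroup.normalizer (tenSub T S B : Set G),
      g ∈ Subgroup.normalizer (T.V : Set G) ∧ g * co T S n * g⁻¹ = co T S m := by
  induction h with
  | refl => exact ⟨1, one_mem _, one_mem _, by group⟩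
  | tail _ h' ih =>
    obtain ⟨g, hg, hgN, e⟩ := ih
    obtain ⟨g', hg', hg'N, e'⟩ := move_conj T S B h'
    exact ⟨g' * g, mul_mem hg' hg, mul_mem hg'N hgN, by rw [← e', ← e]; group⟩

end Cfsg.Agent.Lib.J4Ten43
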