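import Cfsg.Agent.Lib.J4Ten43.Classify

/-!
# The two orbits on the subgroup of order `2 ^ 10` and the size of its normaliser
-/

set_option autoImplicit false

universe u

namespace Cfsg.Agent.Lib.J4Ten43

open Cfsg Cfsg.Agent.Lib Cfsg.Agent.Lib.J4Two56

/-- The conjugates under a subgroup. -/
def orb {G : Type u} [Group G] (H : Subgroup G) (x : G) : Set G := {v | ∃ n ∈ H, n * x * n⁻¹ = v}

theorem ncard_orb_mul {G : Type u} [Group G] [Finite G] (H : Subgroup G) (x : G) :
    (orb H x).ncard * Nat.card ↥(H ⊓ Subgroup.centralizer ({x} : Set G)) = Nat.card ↥H := by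
  classical
  set C := Subgroup.centralizer ({x} : Set G)
  have key : ∀ n m : ↥H, n⁻¹ * m ∈ C.subgroupOf H ↔
      (n : G) * x * (n : G)⁻¹ = (m : G) * x * (m : G)⁻¹ := by
    intro n m
    rw [Subgroup.mem_subgroupOf, Subgroup.mem_centralizer_singleton_iff, Subgroup.coe_mul,
      Subgroup.coe_inv]
    constructor
    · intro h'
      calc (n : G) * x * (n : G)⁻¹ = (n : G) * (x * ((n : G)⁻¹ * m)) * (m : G)⁻¹ := by group
        _ = (n : G) * ((n : G)⁻¹ * m * x) * (m : G)⁻¹ := by rw [h']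
        _ = (m : G) * x * (m : G)⁻¹ := by group
    · intro h'
      calc (n : G)⁻¹ * m * x = (n : G)⁻¹ * ((m : G) * x * (m : G)⁻¹) * m := by group
        _ = (n : G)⁻¹ * ((n : G) * x * (n : G)⁻¹) * m := by rw [h']
        _ = x * ((n : G)⁻¹ * m) := by group
  let f : ↥H ⧸ C.subgroupOf H → orb H x := fun q => ⟨(q.out : G) * x * (q.out : G)⁻¹, _, q.out.2, rfl⟩
  have hf : Function.Bijective f := by
    refine ⟨fun a b h => ?_, ?_⟩
    · rw [← QuotientGroup.out_eq' a, ← QuotientGroup.out_eq' b]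
      exact QuotientGroup.eq.2 ((key _ _).2 (congrArg Subtype.val h))
    · rintro ⟨v, n, hn, rfl⟩
      refine ⟨QuotientGroup.mk ⟨n, hn⟩, Subtype.ext ?_⟩
      exact (key _ ⟨n, hn⟩).1 (QuotientGroup.eq.1 (QuotientGroup.out_eq' _))
  rw [← Nat.card_coe_set_eq, ← Nat.card_eq_of_bijective f hf,
    ← Nat.card_congr (Subgroup.subgroupOfEquivOfLe (inf_le_left : H ⊓ C ≤ H)).toEquiv,
    Subgroup.inf_subgroupOf_left, mul_comm]
  exact (C.subgroupOf H).card_mul_index

/-- The hypotheses of the analysis of the subgroup of order `2 ^ 10`. -/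
structure Hyp {G : Type u} [Group G] {z : G} (T : Todd G z) : Prop where
  cover : CoverStmt
  centD : T.CentD
  cM : Nat.card ↥Cfsg.M24 = 244823040
  cH : Nat.card ↥(Subgroup.centralizer ({z} : Set G)) = 2 ^ 13 * 3 * 887040
  octad : OctadUniqueStmt
  basic : BasicFacts
  orbit : OrbitFacts
  compl : ComplStmt

variable {G : Type u} [Group G] [Finite G] {z : G} (T : Todd G z) (S : Split56 G z T)
  (B : BasicFacts)

/-- A conjugation between members of pairs normalises the subgroup. -/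
theorem mem_N_of_D (hCD : T.CentD) {g : G} {b b' : ℕ} (hb : b < 2048) (hD : isD b = true)
    (hD' : isD b' = true) (he : g * T.el b * g⁻¹ = T.el b') :
    g ∈ Subgroup.normalizer (T.V : Set G) := by
  obtain ⟨σ, hσ, hσb⟩ := trans_D hD hD'
  obtain ⟨n, hn⟩ := T.ρ_surj ⟨σ, hσ⟩
  have h2 := T.ρ_spec n b hb
  rw [hn] at h2
  change (n : G) * T.el b * (n : G)⁻¹ = T.el (act σ b) at h2
  rw [hσb] at h2
  have hc : (n : G)⁻¹ * g ∈ Subgroup.centralizer ({T.el b} : Set G) := by
    rw [Subgroup.mem_centralizer_singleton_iff]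
    calc (n : G)⁻¹ * g * T.el b = (n : G)⁻¹ * (g * T.el b * g⁻¹) * g := by group
      _ = (n : G)⁻¹ * ((n : G) * T.el b * (n : G)⁻¹) * g := by rw [he, h2]
      _ = T.el b * ((n : G)⁻¹ * g) := by group
  have h := mul_mem n.2 (hCD b hb hD hc)
  rwa [mul_inv_cancel_left] at h

include B

theorem pr_mem_M {σ : Equiv.Perm GolayPt} (hσ : OStab σ) {v : ℕ} (hv : VTwo v) :
    pr T S σ v ∈ Subgroup.normalizer (tenSub T S B : Set G) ⊓ Subgroup.normalizer (T.V : Set G) :=
  ⟨pr_mem_norm T S B hσ hv, pr_mem_N T S hv.1⟩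

theorem card_M_ge : 322560 * 1024 ≤ Nat.card
    ↥(Subgroup.normalizer (tenSub T S B : Set G) ⊓ Subgroup.normalizer (T.V : Set G) : Subgroup G) := by
  classical
  let M := Subgroup.normalizer (tenSub T S B : Set G) ⊓ Subgroup.normalizer (T.V : Set G)
  have hfin : Finite {v | VTwo v} :=
    ((Set.finite_lt_nat 2048).subset fun v hv => hv.1).to_subtype
  let f : {σ | OStab σ} × {v | VTwo v} → ↥M := fun p =>
    ⟨pr T S p.1.1 p.2.1, pr_mem_M T S B p.1.2 p.2.2⟩
  have hf : Function.Injective f := by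
    rintro ⟨⟨σ, hσ⟩, ⟨v, hv⟩⟩ ⟨⟨σ', hσ'⟩, ⟨v', hv'⟩⟩ h
    obtain ⟨h1, h2⟩ := pr_inj T S hσ.1 hσ'.1 hv.1 hv'.1 (congrArg Subtype.val h)
    subst h1 h2
    rfl
  have h := Nat.card_le_card_of_injective f hf
  rw [Nat.card_prod, Nat.card_coe_set_eq, Nat.card_coe_set_eq, B.card_vTwo] at h
  exact le_trans (Nat.mul_le_mul_right _ B.card_stab) h

omit B

/-- **The two orbits on the subgroup of order `2 ^ 10`, and a bound on its normaliser.** -/
theorem two_orbits (h : Hyp T) :
    (∀ n, n < 1024 → n ≠ 0 → (IsConj z (co T S n) ↔ isDec (toPlucker n) = true)) ∧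
    (∃ a, a ∈ tenSub T S h.basic ∧
      (orb (Subgroup.normalizer (tenSub T S h.basic : Set G)) a).ncard = 155) ∧
    (∃ b, b ∈ tenSub T S h.basic ∧
      (orb (Subgroup.normalizer (tenSub T S h.basic : Set G)) b).ncard = 868) ∧
    (∀ W : Subgroup G, W ≤ tenSub T S h.basic →
      Subgroup.normalizer (tenSub T S h.basic : Set G) ≤ Subgroup.normalizer (W : Set G) →
      W = ⊥ ∨ W = tenSub T S h.basic) ∧
    31 * (322560 * 1024) ≤ Nat.card ↥(Subgroup.normalizer (tenSub T S h.basic : Set G)) := by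
  classical
  obtain ⟨cl, rep, hrep, hsmall, hbig, n0, n1, n2, n3, hdec⟩ := h.orbit.exists_cl
  have B := h.basic
  set N := Subgroup.normalizer (tenSub T S h.basic : Set G) with hN
  have hconjN : ∀ {g : G}, g ∈ N → ∀ {n}, n < 1024 → ∃ m, m < 1024 ∧ g * co T S n * g⁻¹ = co T S m := by
    intro g hg n hn
    obtain ⟨m, hm, he⟩ := (Subgroup.mem_normalizer_iff.1 hg _).1 (co_mem T S B hn)
    exact ⟨m, hm, he.symm⟩
  have hclass : ∀ n m, n < 1024 → n ≠ 0 → m < 1024 → m ≠ 0 → cl n = cl m →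
      ∃ g ∈ N, g ∈ Subgroup.normalizer (T.V : Set G) ∧ g * co T S n * g⁻¹ = co T S m := by
    intro n m hn hn0 hm hm0 he
    exact moves_conj T S B ((hrep n hn hn0).2.2.trans (he ▸ (hrep m hm hm0).2.1))
  have hz64 : ∀ c, c < 64 → c ≠ 0 → (IsConj z (co T S c) ↔ cl c = 1) := by
    intro c hc hc0
    rw [co_small B hc, T.cls _ (B.cOf_lt c hc)]
    rcases hsmall c hc hc0 with ⟨hcl, hD⟩ | ⟨hcl, hD⟩
    · constructor
      · rintro ⟨-, h'⟩; rw [hD] at h'; exact absurd h' (by simp)
      · intro h'; rw [hcl] at h'; exact absurd h' (by norm_num)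
    · refine iff_of_true ⟨fun h0 => hc0 ?_, hD⟩ hcl
      exact B.cOf_inj c 0 hc (by norm_num) (h0.trans (cOf_zero_of_basic B).symm)
  have hfuse : ∀ n, n < 1024 → n ≠ 0 → ∃ g ∈ N, ∃ c, c < 64 ∧ c ≠ 0 ∧
      g * co T S n * g⁻¹ = co T S c :=
    fun n hn hn0 => fuse T S B h.octad h.cover h.centD h.cM h.cH hn hn0
  have hconj : ∀ {g x y : G}, g * x * g⁻¹ = y → (IsConj z x ↔ IsConj z y) := fun {g x y} he =>
    have hxy : IsConj x y := isConj_iff.2 ⟨g, he⟩
    ⟨fun hx => hx.trans hxy, fun hy => hy.trans hxy.symm⟩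
  have htrans : ∀ n m, n < 1024 → n ≠ 0 → m < 1024 → m ≠ 0 →
      (IsConj z (co T S n) ↔ IsConj z (co T S m)) →
      ∃ g ∈ N, g * co T S n * g⁻¹ = co T S m := by
    intro n m hn hn0 hm hm0 he
    obtain ⟨g, hg, c, hc, hc0, hgc⟩ := hfuse n hn hn0
    obtain ⟨g', hg', c', hc', hc0', hgc'⟩ := hfuse m hm hm0
    rw [hconj hgc, hconj hgc', hz64 c hc hc0, hz64 c' hc' hc0'] at he
    have hcl : cl c = cl c' := by
      rcases hsmall c hc hc0 with ⟨e, -⟩ | ⟨e, -⟩ <;> rcases hsmall c' hc' hc0' with ⟨e', -⟩ | ⟨e', -⟩ <;>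
        omega
    obtain ⟨g'', hg'', -, hgc''⟩ := hclass c c' (by omega) hc0 (by omega) hc0' hcl
    refine ⟨g'⁻¹ * g'' * g, mul_mem (mul_mem (inv_mem hg') hg'') hg, ?_⟩
    calc g'⁻¹ * g'' * g * co T S n * (g'⁻¹ * g'' * g)⁻¹
        = g'⁻¹ * (g'' * (g * co T S n * g⁻¹) * g''⁻¹) * g' := by group
      _ = g'⁻¹ * co T S c' * g' := by rw [hgc, hgc'']
      _ = g'⁻¹ * (g' * co T S m * g'⁻¹) * g' := by rw [hgc']
      _ = co T S m := by group
  have horb : ∀ n, n < 1024 → n ≠ 0 → orb N (co T S n) =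
      co T S '' {m | m < 1024 ∧ m ≠ 0 ∧ (IsConj z (co T S n) ↔ IsConj z (co T S m))} := by
    intro n hn hn0
    ext v
    constructor
    · rintro ⟨g, hg, rfl⟩
      obtain ⟨m, hm, he⟩ := hconjN hg hn
      refine ⟨m, ⟨hm, fun h0 => hn0 ?_, hconj he⟩, he.symm⟩
      rw [h0, co_zero B] at he
      exact co_inj B hn (by norm_num) ((conj_eq_one_iff.1 he).trans (co_zero B).symm)
    · rintro ⟨m, ⟨hm, hm0, he⟩, rfl⟩
      exact htrans n m hn hn0 hm hm0 he
  have hinj : ∀ P : ℕ → Prop, (co T S '' {m | m < 1024 ∧ m ≠ 0 ∧ P m}).ncard =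
      {m | m < 1024 ∧ m ≠ 0 ∧ P m}.ncard :=
    fun P => Set.InjOn.ncard_image fun x hx y hy e => co_inj B hx.1 hy.1 e
  -- the type is constant on a class
  have hconst : ∀ n m, n < 1024 → n ≠ 0 → m < 1024 → m ≠ 0 → cl n = cl m →
      (IsConj z (co T S n) ↔ IsConj z (co T S m)) := by
    intro n m hn hn0 hm hm0 he
    obtain ⟨g, -, -, hg⟩ := hclass n m hn hn0 hm hm0 he
    exact hconj hg
  have hne : ∀ k, k < 4 → ∃ r, r < 1024 ∧ r ≠ 0 ∧ cl r = k := by
    intro k hk
    by_contra hcon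
    push Not at hcon
    have he : {n | n < 1024 ∧ n ≠ 0 ∧ cl n = k} = ∅ :=
      Set.eq_empty_iff_forall_notMem.2 fun n hn => hcon n hn.1 hn.2.1 hn.2.2
    interval_cases k <;> simp [he] at n0 n1 n2 n3
  obtain ⟨d, hd, hd0, hdc⟩ := hne 0 (by norm_num)
  obtain ⟨q, hq, hq0, hqc⟩ := hne 1 (by norm_num)
  obtain ⟨r2, hr2, hr20, hr2c⟩ := hne 2 (by norm_num)
  obtain ⟨r3, hr3, hr30, hr3c⟩ := hne 3 (by norm_num)
  have hsm : ∀ n, n < 1024 → n ≠ 0 → cl n < 2 → n < 64 := fun n hn hn0 hlt => by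
    by_contra hge
    rcases hbig n (by omega) hn with e | e <;> omega
  have hd64 := hsm d hd hd0 (by omega)
  have hq64 := hsm q hq hq0 (by omega)
  have hdz : ¬ IsConj z (co T S d) := by rw [hz64 d hd64 hd0]; omega
  have hqz : IsConj z (co T S q) := (hz64 q hq64 hq0).2 hqc
  have hdD : isD (cOf d) = true := by
    rcases hsmall d hd64 hd0 with ⟨-, hD⟩ | ⟨e, -⟩
    · exact hD
    · omega
  -- the orbit of a pair inside the two normalisers
  set M := N ⊓ Subgroup.normalizer (T.V : Set G) with hM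
  have hMN : M ≤ N := inf_le_left
  have hC : Subgroup.centralizer ({co T S d} : Set G) ≤ Subgroup.normalizer (T.V : Set G) := by
    rw [co_small B hd64]; exact h.centD _ (B.cOf_lt d hd64) hdD
  have hinf : M ⊓ Subgroup.centralizer ({co T S d} : Set G) =
      N ⊓ Subgroup.centralizer ({co T S d} : Set G) :=
    le_antisymm (inf_le_inf_right _ hMN) (le_inf (le_inf inf_le_left (inf_le_right.trans hC)) inf_le_right)
  have hM28 : (orb M (co T S d)).ncard = 28 := by
    have e : orb M (co T S d) = co T S '' {m | m < 1024 ∧ m ≠ 0 ∧ cl m = 0} := by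
      ext v
      constructor
      · rintro ⟨g, ⟨hg, hgV⟩, rfl⟩
        obtain ⟨m, hm, he⟩ := hconjN hg hd
        refine ⟨m, ⟨hm, ?_, ?_⟩, he.symm⟩
        · intro h0
          rw [h0, co_zero B] at he
          exact hd0 (co_inj B hd (by norm_num) ((conj_eq_one_iff.1 he).trans (co_zero B).symm))
        · have hV : co T S m ∈ T.V := he ▸ (Subgroup.mem_normalizer_iff.1 hgV _).1
            ((co_mem_V B hd).2 hd64)
          have hm64 := (co_mem_V B hm).1 hV
          have hm0 : m ≠ 0 := fun h0 => by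
            rw [h0, co_zero B] at he
            exact hd0 (co_inj B hd (by norm_num) ((conj_eq_one_iff.1 he).trans (co_zero B).symm))
          rcases hsmall m hm64 hm0 with ⟨e, -⟩ | ⟨e, -⟩
          · exact e
          · exact absurd ((hconj he).2 ((hz64 m hm64 hm0).2 e)) hdz
      · rintro ⟨m, ⟨hm, hm0, hmc⟩, rfl⟩
        obtain ⟨g, hg, hgV, he⟩ := hclass d m hd hd0 hm hm0 (by omega)
        exact ⟨g, ⟨hg, hgV⟩, he⟩
    rw [e, hinj, n0]
  have hcM := ncard_orb_mul M (co T S d)
  rw [hM28, hinf] at hcM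
  have hcN := ncard_orb_mul N (co T S d)
  obtain ⟨k, hk⟩ := Subgroup.card_dvd_of_le hMN
  have hpos : 0 < Nat.card ↥(N ⊓ Subgroup.centralizer ({co T S d} : Set G) : Subgroup G) := Nat.card_pos
  have h28 : (orb N (co T S d)).ncard = 28 * k :=
    Nat.eq_of_mul_eq_mul_right hpos (by rw [hcN, hk, ← hcM]; ring)
  -- a pair is moved out of the small classes
  have hout : ¬ (IsConj z (co T S r2) ∧ IsConj z (co T S r3)) := by
    rintro ⟨h2, h3⟩
    have hge : ∀ n, n < 1024 → n ≠ 0 → ¬ IsConj z (co T S n) → cl n = 0 := by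
      intro n hn hn0 hnz
      have := (hrep n hn hn0).1
      interval_cases hc : cl n
      · rfl
      · exact absurd ((hconst q n hq hq0 hn hn0 (by omega)).1 hqz) hnz
      · exact absurd ((hconst r2 n hr2 hr20 hn hn0 (by omega)).1 h2) hnz
      · exact absurd ((hconst r3 n hr3 hr30 hn hn0 (by omega)).1 h3) hnz
    obtain ⟨g, hg, he⟩ := htrans r2 q hr2 hr20 hq hq0 (iff_of_true h2 hqz)
    obtain ⟨m, hm, hgm⟩ := hconjN hg hd
    have hmz : ¬ IsConj z (co T S m) := fun hm' => hdz ((hconj hgm).2 hm')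
    have hm0 : m ≠ 0 := fun h0 => by
      rw [h0, co_zero B] at hgm
      exact hd0 (co_inj B hd (by norm_num) ((conj_eq_one_iff.1 hgm).trans (co_zero B).symm))
    have hmc := hge m hm hm0 hmz
    have hm64 := hsm m hm hm0 (by omega)
    have hmD : isD (cOf m) = true := by
      rcases hsmall m hm64 hm0 with ⟨-, hD⟩ | ⟨e, -⟩
      · exact hD
      · omega
    rw [co_small B hd64, co_small B hm64] at hgm
    have hgV := mem_N_of_D T h.centD (B.cOf_lt d hd64) hdD hmD hgm
    have hqV : co T S q ∈ T.V := (co_mem_V B hq).2 hq64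
    rw [← he] at hqV
    have := (co_mem_V B hr2).1 ((Subgroup.mem_normalizer_iff.1 hgV _).2 hqV)
    rcases hsmall r2 this hr20 with ⟨e, -⟩ | ⟨e, -⟩ <;> omega
  -- the count
  have hsum : ∀ n, (IsConj z (co T S d) ↔ IsConj z (co T S n)) ↔ ¬ IsConj z (co T S n) :=
    fun n => ⟨fun e hn => hdz (e.2 hn), fun hn => iff_of_false hdz hn⟩
  have hsets : (orb N (co T S d)).ncard = 28 + (if IsConj z (co T S r2) then 0 else 120) +
      (if IsConj z (co T S r3) then 0 else 840) := by
    rw [horb d hd hd0, hinj]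
    have e : {m | m < 1024 ∧ m ≠ 0 ∧ (IsConj z (co T S d) ↔ IsConj z (co T S m))} =
        ({m | m < 1024 ∧ m ≠ 0 ∧ cl m = 0} ∪
          (if IsConj z (co T S r2) then ∅ else {m | m < 1024 ∧ m ≠ 0 ∧ cl m = 2})) ∪
          (if IsConj z (co T S r3) then ∅ else {m | m < 1024 ∧ m ≠ 0 ∧ cl m = 3}) := by
      ext m
      simp only [Set.mem_ofPred_eq, Set.mem_union]
      constructor
      · rintro ⟨hm, hm0, he⟩
        have hmz := (hsum m).1 he
        have := (hrep m hm hm0).1
        interval_cases hc : cl m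
        · exact Or.inl (Or.inl ⟨hm, hm0, rfl⟩)
        · exact absurd ((hconst q m hq hq0 hm hm0 (by omega)).1 hqz) hmz
        · refine Or.inl (Or.inr ?_)
          rw [if_neg fun h2 => hmz ((hconst r2 m hr2 hr20 hm hm0 (by omega)).1 h2)]
          exact ⟨hm, hm0, hc⟩
        · refine Or.inr ?_
          rw [if_neg fun h3 => hmz ((hconst r3 m hr3 hr30 hm hm0 (by omega)).1 h3)]
          exact ⟨hm, hm0, hc⟩
      · rintro ((⟨hm, hm0, hc⟩ | hx) | hx)
        · exact ⟨hm, hm0, hconst d m hd hd0 hm hm0 (by omega)⟩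
        · split at hx
          · exact hx.elim
          · rename_i h2
            obtain ⟨hm, hm0, hc⟩ := hx
            exact ⟨hm, hm0, iff_of_false hdz fun h' => h2 ((hconst r2 m hr2 hr20 hm hm0 (by omega)).2 h')⟩
        · split at hx
          · exact hx.elim
          · rename_i h3
            obtain ⟨hm, hm0, hc⟩ := hx
            exact ⟨hm, hm0, iff_of_false hdz fun h' => h3 ((hconst r3 m hr3 hr30 hm hm0 (by omega)).2 h')⟩
    rw [e]
    have hf : ∀ P : ℕ → Prop, {m | m < 1024 ∧ m ≠ 0 ∧ P m}.Finite := fun P =>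
      (Set.finite_lt_nat 1024).subset fun m hm => hm.1
    have hf' : ∀ (b : Prop) [Decidable b] (P : ℕ → Prop),
        (if b then (∅ : Set ℕ) else {m | m < 1024 ∧ m ≠ 0 ∧ P m}).Finite := fun b _ P => by
      split
      · exact Set.finite_empty
      · exact hf P
    rw [Set.ncard_union_eq ?_ ((hf _).union (hf' _ _)) (hf' _ _),
      Set.ncard_union_eq ?_ (hf _) (hf' _ _), n0]
    · split_ifs <;> simp [n2, n3]
    · rw [Set.disjoint_left]
      intro m h1 h2
      split at h2
      · exact h2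
      · have := h1.2.2; have := h2.2.2; omega
    · rw [Set.disjoint_left]
      rintro m (h1 | h1) h2 <;> split at h2
      · exact h2
      · have := h1.2.2; have := h2.2.2; omega
      · exact h2
      · split at h1
        · exact h1
        · have := h1.2.2; have := h2.2.2; omega
  have hr : IsConj z (co T S r2) ∧ ¬ IsConj z (co T S r3) ∧ k = 31 := by
    by_cases h2 : IsConj z (co T S r2) <;> by_cases h3 : IsConj z (co T S r3)
    · exact absurd ⟨h2, h3⟩ hout
    · simp only [h2, h3, if_true, if_false] at hsets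
      exact ⟨h2, h3, by omega⟩
    · simp only [h2, h3, if_true, if_false] at hsets
      omega
    · simp only [h2, h3, if_false] at hsets
      omega
  obtain ⟨h2z, h3z, hk31⟩ := hr
  have htype : ∀ n, n < 1024 → n ≠ 0 → (IsConj z (co T S n) ↔ isDec (toPlucker n) = true) := by
    intro n hn hn0
    rw [hdec n hn hn0]
    have := (hrep n hn hn0).1
    interval_cases hc : cl n
    · exact iff_of_false (fun h' => hdz ((hconst d n hd hd0 hn hn0 (by omega)).2 h')) (by omega)
    · exact iff_of_true ((hconst q n hq hq0 hn hn0 (by omega)).1 hqz) (by omega)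
    · exact iff_of_true ((hconst r2 n hr2 hr20 hn hn0 (by omega)).1 h2z) (by omega)
    · exact iff_of_false (fun h' => h3z ((hconst r3 n hr3 hr30 hn hn0 (by omega)).2 h')) (by omega)
  have hall : (co T S '' {m | m < 1024 ∧ m ≠ 0}).ncard = 1023 := by
    rw [Set.InjOn.ncard_image fun x hx y hy e => co_inj B hx.1 hy.1 e,
      show {m : ℕ | m < 1024 ∧ m ≠ 0} = ((Finset.range 1024).erase 0 : Finset ℕ) by
        ext m; simp [and_comm],
      Set.ncard_coe_finset, Finset.card_erase_of_mem (by simp), Finset.card_range]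
  have hdisj : Disjoint (orb N (co T S q)) (orb N (co T S d)) := by
    rw [Set.disjoint_left]
    rintro v ⟨g, -, rfl⟩ ⟨g', -, he⟩
    exact hdz ((hconj he).2 ((hconj rfl).1 hqz))
  have hunion : orb N (co T S q) ∪ orb N (co T S d) = co T S '' {m | m < 1024 ∧ m ≠ 0} := by
    rw [horb q hq hq0, horb d hd hd0, ← Set.image_union]
    congr 1
    ext m
    simp only [Set.mem_union, Set.mem_ofPred_eq]
    constructor
    · rintro (⟨a, b, -⟩ | ⟨a, b, -⟩) <;> exact ⟨a, b⟩
    · rintro ⟨a, b⟩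
      by_cases hm : IsConj z (co T S m)
      · exact Or.inl ⟨a, b, iff_of_true hqz hm⟩
      · exact Or.inr ⟨a, b, iff_of_false hdz hm⟩
  have hd868 : (orb N (co T S d)).ncard = 868 := by omega
  have hq155 : (orb N (co T S q)).ncard = 155 := by
    have e := Set.ncard_union_eq hdisj (Set.toFinite _) (Set.toFinite _)
    rw [hunion, hall] at e
    omega
  refine ⟨htype, ⟨_, co_mem T S B hq, hq155⟩, ⟨_, co_mem T S B hd, hd868⟩, ?_, ?_⟩
  · intro W hW hWN
    have hsub : ∀ n, n < 1024 → co T S n ∈ W → orb N (co T S n) ⊆ (W : Set G) := by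
      rintro n hn hnW _ ⟨g, hg, rfl⟩
      exact (Subgroup.mem_normalizer_iff.1 (hWN hg) _).1 hnW
    have hdvd : Nat.card ↥W ∣ 2 ^ 10 := card_tenSub T S B ▸ Subgroup.card_dvd_of_le hW
    obtain ⟨j, hj, hcW⟩ := (Nat.dvd_prime_pow Nat.prime_two).1 hdvd
    have hne1 : ∀ n, n < 1024 → n ≠ 0 → (1 : G) ∉ orb N (co T S n) := by
      rintro n hn hn0 ⟨g, -, he⟩
      exact hn0 (co_inj B hn (by norm_num) ((conj_eq_one_iff.1 he).trans (co_zero B).symm))
    have hins : ∀ s : Set G, (1 : G) ∉ s → s ⊆ (W : Set G) → s.ncard + 1 ≤ Nat.card ↥W := by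
      intro s hs1 hsW
      rw [← Set.ncard_insert_of_notMem hs1 (Set.toFinite _),
        show Nat.card ↥W = (W : Set G).ncard from Nat.card_coe_set_eq _]
      exact Set.ncard_le_ncard (Set.insert_subset (one_mem W) hsW)
    by_cases hbot : W = ⊥
    · exact Or.inl hbot
    refine Or.inr (Subgroup.eq_of_le_of_card_ge hW ?_)
    rw [card_tenSub]
    obtain ⟨⟨x, hx⟩, hx1⟩ := Subgroup.ne_bot_iff_exists_ne_one.1 hbot
    obtain ⟨n, hn, hne'⟩ := hW hx
    have hn0 : n ≠ 0 := fun h0 =>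
      hx1 (Subtype.ext (show x = 1 by rw [← hne', h0, co_zero B]))
    -- the other members
    have hmem : ∀ m, m < 1024 → m ≠ 0 → (IsConj z (co T S n) ↔ IsConj z (co T S m)) →
        co T S m ∈ W := fun m hm hm0 he => by
      have hsub' := hsub n hn (hne' ▸ hx)
      rw [horb n hn hn0] at hsub'
      exact hsub' ⟨m, ⟨hm, hm0, he⟩, rfl⟩
    by_cases hnz : IsConj z (co T S n)
    · have h1 := hins _ (hne1 q hq hq0) (hsub q hq (hmem q hq hq0 (iff_of_true hnz hqz)))
      rw [hq155, hcW] at h1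
      -- the group is then larger than the union of the orbit and the unit
      have h256 : 256 ≤ Nat.card ↥W := by
        rw [hcW]
        by_contra hlt
        have : j ≤ 7 := by
          by_contra hj'
          exact hlt (le_trans (by norm_num) (Nat.pow_le_pow_right (by norm_num) (by omega : 8 ≤ j)))
        have := Nat.pow_le_pow_right (show 0 < 2 by norm_num) this
        omega
      by_cases hex : ∃ m, m < 1024 ∧ m ≠ 0 ∧ co T S m ∈ W ∧ ¬ IsConj z (co T S m)
      · obtain ⟨m, hm, hm0, hmW, hmz⟩ := hex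
        have hd' : co T S d ∈ W := by
          have hsub' := hsub m hm hmW
          rw [horb m hm hm0] at hsub'
          exact hsub' ⟨d, ⟨hd, hd0, iff_of_false hmz hdz⟩, rfl⟩
        have h2 := hins (orb N (co T S q) ∪ orb N (co T S d))
          (fun h' => h'.elim (hne1 q hq hq0) (hne1 d hd hd0))
          (Set.union_subset (hsub q hq (hmem q hq hq0 (iff_of_true hnz hqz))) (hsub d hd hd'))
        rw [hunion, hall] at h2
        norm_num
        omega
      · push Not at hex
        have h2 : (W : Set G) ⊆ insert 1 (orb N (co T S q)) := by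
          intro y hy
          obtain ⟨m, hm, rfl⟩ := hW hy
          by_cases hm0 : m = 0
          · exact Or.inl (by rw [hm0, co_zero B])
          · right
            rw [horb q hq hq0]
            exact ⟨m, ⟨hm, hm0, iff_of_true hqz (hex m hm hm0 hy)⟩, rfl⟩
        have h3 := Set.ncard_le_ncard h2
        rw [Set.ncard_insert_of_notMem (hne1 q hq hq0) (Set.toFinite _), hq155,
          ← show Nat.card ↥W = (W : Set G).ncard from Nat.card_coe_set_eq _] at h3
        omega
    · have h1 := hins _ (hne1 d hd hd0) (hsub d hd (hmem d hd hd0 (iff_of_false hnz hdz)))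
      rw [hd868, hcW] at h1
      rw [hcW]
      refine Nat.pow_le_pow_right (by norm_num) ?_
      by_contra hlt
      have := Nat.pow_le_pow_right (show 0 < 2 by norm_num) (show j ≤ 9 by omega)
      omega
  · rw [hk, hk31, mul_comm]
    exact Nat.mul_le_mul_right _ (card_M_ge T S B)

end Cfsg.Agent.Lib.J4Ten43
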