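import Cfsg.Agent.Lib.J4Ten43.Stmts2
import Cfsg.Agent.Lib.Golay.OctadStab

/-!
# The elementary facts about the coordinates
-/

set_option autoImplicit false
set_option maxRecDepth 100000

namespace Cfsg.Agent.Lib.J4Ten43

open Cfsg Cfsg.Agent.Lib Cfsg.Agent.Lib.J4Two56
open scoped Pointwise

/-- The action of the permutation with the given image list, on the numbers. -/
def actN (l : List ℕ) (n : ℕ) : ℕ :=
  (List.range 11).foldr (fun k r => (if n.testBit k then
    (repList.getD k []).foldr (fun i s => cdList.getD (Golay.applyNum l i) 0 ^^^ s) 0 else 0) ^^^ r) 0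

theorem repList_lt : ∀ k < 11, ∀ i ∈ repList.getD k [], i < 24 := by decide +kernel

theorem act_toPerm {l : List ℕ} (h : Golay.validList l = true) (n : ℕ) :
    act (Golay.toPerm l) n = actN l n := by
  have key : ∀ m : List ℕ, (∀ i ∈ m, i < 24) → imgSum (Golay.toPerm l) m =
      m.foldr (fun i s => cdList.getD (Golay.applyNum l i) 0 ^^^ s) 0 := by
    intro m
    induction m with
    | nil => intro; rfl
    | cons i m ih =>
      intro hm
      rw [imgSum, List.foldr_cons, List.foldr_cons,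
        show m.foldr (fun i r => cd (Golay.toPerm l (Golay.ptN i)) ^^^ r) 0 =
          imgSum (Golay.toPerm l) m from rfl, ih fun j hj => hm j (List.mem_cons_of_mem i hj)]
      congr 1
      rw [cd, Golay.idx_toPerm h, Golay.idx_ptN (hm i List.mem_cons_self)]
  unfold act actN
  have hl : ∀ ks : List ℕ, (∀ k ∈ ks, k < 11) →
      ks.foldr (fun k r => (if n.testBit k then imgSum (Golay.toPerm l) (repList.getD k []) else 0) ^^^ r) 0 =
        ks.foldr (fun k r => (if n.testBit k then (repList.getD k []).foldr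
          (fun i s => cdList.getD (Golay.applyNum l i) 0 ^^^ s) 0 else 0) ^^^ r) 0 := by
    intro ks
    induction ks with
    | nil => intro; rfl
    | cons k ks ih =>
      intro hk
      rw [List.foldr_cons, List.foldr_cons, ih fun j hj => hk j (List.mem_cons_of_mem k hj),
        key _ (repList_lt k (hk k List.mem_cons_self))]
  exact hl _ fun k hk => List.mem_range.1 hk

theorem oL_inM24 : ∀ i < 16, Golay.inM24 (oL i) = true := by decide +kernel

theorem oL_valid {i : ℕ} (h : i < 16) : Golay.validList (oL i) = true :=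
  Golay.inM24.valid (oL_inM24 i h)

theorem oP_mem' {i : ℕ} (h : i < 16) : oP i ∈ Cfsg.M24 := Golay.toPerm_mem_M24 (oL_inM24 i h)

theorem act_oP {i : ℕ} (h : i < 16) (n : ℕ) : act (oP i) n = actN (oL i) n :=
  act_toPerm (oL_valid h) n

theorem oP_zero' : oP 0 = 1 := by
  rw [oP, Golay.toPerm_eq_iff (oL_valid (by norm_num))]
  intro i
  have h : ∀ i : Fin 24, Golay.applyNum (oL 0) i.val = i.val := by decide +kernel
  rw [h, Equiv.Perm.one_apply, Golay.idx_pt]

theorem oP_xor' {i j : ℕ} (hi : i < 16) (hj : j < 16) : oP (i ^^^ j) = oP i * oP j := by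
  have key : ∀ a < 16, ∀ b < 16, Golay.compList (oL a) (oL b) = oL (a ^^^ b) := by decide +kernel
  have hij : i ^^^ j < 16 := Nat.xor_lt_two_pow (n := 4) hi hj
  rw [oP, oP, oP, ← key i hi j hj, Golay.toPerm_mul (oL_valid hi) (oL_valid hj)]
  rw [key i hi j hj]
  exact oL_valid hij

theorem oP_inj' {i j : ℕ} (hi : i < 16) (hj : j < 16) (h : oP i = oP j) : i = j := by
  have key : ∀ a < 16, ∀ b < 16, Golay.applyNum (oL a) 0 = Golay.applyNum (oL b) 0 → a = b := by
    decide +kernel
  refine key i hi j hj ?_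
  have e := congrArg (fun σ : Equiv.Perm GolayPt => (Golay.idx (σ (Golay.pt ⟨0, by norm_num⟩))).val) h
  simp only [oP, Golay.idx_toPerm (oL_valid hi), Golay.idx_toPerm (oL_valid hj), Golay.idx_pt] at e
  exact e

theorem oP_comm {i j : ℕ} (hi : i < 16) (hj : j < 16) : oP i * oP j = oP j * oP i := by
  rw [← oP_xor' hi hj, ← oP_xor' hj hi, Nat.xor_comm]

/-! ## The fixed classes -/

theorem comb_xor : ∀ (l : List ℕ) (a b : ℕ), comb l (a ^^^ b) = comb l a ^^^ comb l b
  | [], a, b => (Nat.xor_self 0).symm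
  | g :: l, a, b => by
    have e2 : (a ^^^ b) / 2 = a / 2 ^^^ b / 2 := by
      simpa using Nat.xor_div_two_pow (a := a) (b := b) (n := 1)
    have e1 : (a ^^^ b) % 2 = a % 2 ^^^ b % 2 := by
      simpa using Nat.xor_mod_two_pow (a := a) (b := b) (n := 1)
    rw [comb, comb, comb, e2, comb_xor l, e1]
    rcases Nat.mod_two_eq_zero_or_one a with h1 | h1 <;>
      rcases Nat.mod_two_eq_zero_or_one b with h2 | h2 <;>
      simp [h1, h2, Nat.xor_assoc, Nat.xor_left_comm]

theorem cOf_lt' : ∀ c < 64, cOf c < 2048 := by decide +kernel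

theorem cOf_xor' (a b : ℕ) : cOf (a ^^^ b) = cOf a ^^^ cOf b := comb_xor _ a b

theorem cOf_zero : cOf 0 = 0 := by decide +kernel

/-- The classes fixed by the octad group, as a mask. -/
def cMask : ℕ := 0x800000000008000200000000000020000200000000200080000000000000080040000000000400010000000000001000010000000010004000000000000004000000400400000000000100001000000000000110000000000040000004000000000080080000000000020000200000000000022000000000008000000800000000001001000000000004000040000000000004400000000000100000010000000000200200000000000800008000000000000880000000000020000002000000200000000002000800000000000080000800000000800020000000000000020010000000000100040000000000004000040000000040001000000000000001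

/-- The classes moved only into fixed ones, as a mask. -/
def vMask : ℕ := 0x55aa55aaaa55aa55aa55aa5555aa55aa55aa55aaaa55aa55aa55aa5555aa55aaaa55aa5555aa55aa55aa55aaaa55aa55aa55aa5555aa55aa55aa55aaaa55aa55aa55aa5555aa55aa55aa55aaaa55aa55aa55aa5555aa55aa55aa55aaaa55aa5555aa55aaaa55aa55aa55aa5555aa55aa55aa55aaaa55aa55aa55aa5555aa55aaaa55aa5555aa55aa55aa55aaaa55aa55aa55aa5555aa55aa55aa55aaaa55aa5555aa55aaaa55aa55aa55aa5555aa55aa55aa55aaaa55aa55aa55aa5555aa55aa55aa55aaaa55aa55aa55aa5555aa55aa55aa55aaaa55aa55aa55aa5555aa55aaaa55aa5555aa55aa55aa55aaaa55aa55aa55aa5555aa55aa55aa55aaaa55aa55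

theorem cMask_cOf : ∀ c < 64, cMask.testBit (cOf c) = true := by decide +kernel

theorem exists_cOf {n : ℕ} (hn : n < 2048) (h : cMask.testBit n = true) : ∃ c, c < 64 ∧ cOf c = n := by
  have key : ((List.range 2048).all fun n => !cMask.testBit n ||
      (List.range 64).any fun c => cOf c == n) = true := by decide +kernel
  have := List.all_eq_true.1 key n (List.mem_range.2 hn)
  rw [h, Bool.not_true, Bool.false_or, List.any_eq_true] at this
  obtain ⟨c, hc, e⟩ := this
  exact ⟨c, List.mem_range.1 hc, beq_iff_eq.1 e⟩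

theorem cTest_xor {a b : ℕ} (ha : a < 2048) (hb : b < 2048) (h1 : cMask.testBit a = true)
    (h2 : cMask.testBit b = true) : cMask.testBit (a ^^^ b) = true := by
  obtain ⟨c, hc, rfl⟩ := exists_cOf ha h1
  obtain ⟨d, hd, rfl⟩ := exists_cOf hb h2
  rw [← cOf_xor']
  exact cMask_cOf _ (Nat.xor_lt_two_pow (n := 6) hc hd)

theorem fix_cOf' {i c : ℕ} (hi : i < 16) (hc : c < 64) : act (oP i) (cOf c) = cOf c := by
  have key : ∀ a < 16, ∀ c < 64, actN (oL a) (cOf c) = cOf c := by decide +kernel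
  rw [act_oP hi]
  exact key i hi c hc

theorem fix_only' {n : ℕ} (hn : n < 2048) (h : ∀ i, i < 16 → act (oP i) n = n) :
    ∃ c, c < 64 ∧ cOf c = n := by
  have key : ((List.range 2048).all fun n => cMask.testBit n ||
      !([1, 2, 4, 8].all fun i => actN (oL i) n == n)) = true := by decide +kernel
  refine exists_cOf hn ?_
  have := List.all_eq_true.1 key n (List.mem_range.2 hn)
  rw [show ([1, 2, 4, 8].all fun i => actN (oL i) n == n) = true from List.all_eq_true.2 fun i hi => by
    have hi' : i < 16 := by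
      simp only [List.mem_cons, List.not_mem_nil, or_false] at hi
      omega
    rw [beq_iff_eq, ← act_oP hi']
    exact h i hi', Bool.not_true, Bool.or_false] at this
  exact this

/-! ## The octad -/

/-- The octad fixed pointwise. -/
def octMask : ℕ := 2 ^ 3 + 2 ^ 5 + 2 ^ 6 + 2 ^ 7 + 2 ^ 9 + 2 ^ 16 + 2 ^ 20 + 2 ^ 22

/-- The octad fixed pointwise, as a set. -/
def oct : Finset GolayPt := Golay.ptsOf octMask

theorem oct_mem : oct ∈ octads := by
  rw [Golay.mem_octads_iff]
  refine ⟨Golay.isCodeSet_of_isCodeMask (by decide +kernel), ?_⟩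
  rw [oct, Golay.card_ptsOf]
  decide +kernel

theorem oP_fixG {i : ℕ} (hi : i < 16) : oP i ∈ Golay.OctadStab.fixG oct := by
  refine Subgroup.mem_inf.2 ⟨oP_mem' hi, (mem_fixingSubgroup_iff _).2 fun x hx => ?_⟩
  rw [Finset.mem_coe, oct, Golay.mem_ptsOf] at hx
  have key : ∀ a < 16, ∀ k : Fin 24, octMask.testBit k.val = true →
      Golay.applyNum (oL a) k.val = k.val := by decide +kernel
  show oP i x = x
  refine Golay.ptEquiv.injective (Fin.ext ?_)
  show (Golay.idx (oP i x)).val = (Golay.idx x).val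
  rw [oP, Golay.idx_toPerm (oL_valid hi)]
  exact key i hi _ hx

theorem exists_oP {σ : Equiv.Perm GolayPt} (h : σ ∈ Golay.OctadStab.fixG oct) :
    ∃ i, i < 16 ∧ oP i = σ := by
  classical
  let f : Fin 16 → ↥(Golay.OctadStab.fixG oct) := fun i => ⟨oP i.val, oP_fixG i.isLt⟩
  have hf : Function.Injective f := fun a b e =>
    Fin.ext (oP_inj' a.isLt b.isLt (congrArg Subtype.val e))
  obtain ⟨i, hi⟩ := (hf.bijective_of_nat_card_le
    (by rw [(Golay.octad_pointwise oct_mem).1, Nat.card_eq_fintype_card, Fintype.card_fin])).2 ⟨σ, h⟩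
  exact ⟨i.val, i.isLt, congrArg Subtype.val hi⟩

/-- The classes of the pairs of the octad are fixed. -/
theorem duad_oct : ∀ a b : Fin 24, octMask.testBit a.val = true → octMask.testBit b.val = true →
    cMask.testBit (cdList.getD a.val 0 ^^^ cdList.getD b.val 0) = true := by decide +kernel

theorem oct_other : ∀ p : GolayPt, p ∈ oct → ∃ q r, q ∈ oct ∧ r ∈ oct ∧ p ≠ q ∧ p ≠ r ∧ q ≠ r := by
  classical
  intro p hp
  have h2 : 2 ≤ (oct.erase p).card := by
    rw [Finset.card_erase_of_mem hp, Golay.octad_card oct_mem]; norm_num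
  obtain ⟨q, hq, r, hr, hqr⟩ := Finset.one_lt_card.1 h2
  rw [Finset.mem_erase] at hq hr
  exact ⟨q, r, hq.2, hr.2, hq.1.symm, hr.1.symm, hqr⟩

theorem pointwise' {σ : Equiv.Perm GolayPt} (hσ : σ ∈ Cfsg.M24)
    (h : ∀ c, c < 64 → act σ (cOf c) = cOf c) : ∃ i, i < 16 ∧ oP i = σ := by
  classical
  refine exists_oP (Subgroup.mem_inf.2 ⟨hσ, (mem_fixingSubgroup_iff _).2 fun p hp => ?_⟩)
  rw [Finset.mem_coe] at hp
  obtain ⟨q, r, hq, hr, hpq, hpr, hqr⟩ := oct_other p hp
  have hpair : ∀ u, u ∈ oct → p ≠ u → σ p ∈ ({p, u} : Finset GolayPt) := by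
    intro u hu hpu
    have hb := duad_oct (Golay.idx p) (Golay.idx u) (Golay.mem_ptsOf.1 hp) (Golay.mem_ptsOf.1 hu)
    obtain ⟨c, hc, e⟩ := exists_cOf (xor_lt (cdList_lt _) (cdList_lt _)) hb
    have e' : act σ (cd p ^^^ cd u) = cd p ^^^ cd u := by
      have h' := h c hc
      rwa [e] at h'
    rw [← (act_pair_eq_iff hσ hpu).1 e']
    exact Finset.mem_image_of_mem _ (Finset.mem_insert_self _ _)
  have h1 := hpair q hq hpq
  have h2 := hpair r hr hpr
  simp only [Finset.mem_insert, Finset.mem_singleton] at h1 h2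
  show σ p = p
  rcases h1 with h1 | h1
  · exact h1
  · exact h2.resolve_right fun e => hqr (h1.symm.trans e)

/-- The stabiliser of the octad works on the coordinates. -/
theorem oStab_of_stab {σ : Equiv.Perm GolayPt} (h : σ ∈ Golay.OctadStab.stabG oct) : OStab σ := by
  obtain ⟨hσ, hst⟩ := Subgroup.mem_inf.1 h
  rw [MulAction.mem_stabilizer_iff] at hst
  have hconj : ∀ τ : Equiv.Perm GolayPt, τ ∈ Golay.OctadStab.stabG oct → ∀ i, i < 16 →
      ∃ j, j < 16 ∧ τ * oP i * τ⁻¹ = oP j := by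
    intro τ hτ i hi
    obtain ⟨hτM, hτs⟩ := Subgroup.mem_inf.1 hτ
    rw [MulAction.mem_stabilizer_iff] at hτs
    obtain ⟨j, hj, e⟩ := exists_oP (σ := τ * oP i * τ⁻¹) (Subgroup.mem_inf.2
      ⟨mul_mem (mul_mem hτM (oP_mem' hi)) (inv_mem hτM), (mem_fixingSubgroup_iff _).2 fun x hx => by
        show τ (oP i (τ⁻¹ x)) = x
        rw [Finset.mem_coe] at hx
        have hx' : τ⁻¹ x ∈ oct := by
          rw [← Golay.OctadStab.mem_iff_of_stab hτs]
          simpa using hx
        rw [Golay.OctadStab.fix_apply (oP_fixG hi) hx']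
        simp⟩)
    exact ⟨j, hj, e.symm⟩
  refine ⟨hσ, hconj σ h, fun c hc => ?_⟩
  obtain ⟨c', hc', e⟩ := fix_only' (act_lt σ (cOf c)) fun i hi => by
    obtain ⟨j, hj, e⟩ := hconj σ⁻¹ (inv_mem h) i hi
    rw [← act_mul (oP_mem' hi), show oP i * σ = σ * oP j by rw [← e]; group, act_mul hσ,
      fix_cOf' hj hc]
  exact ⟨c', hc', e.symm⟩

/-! ## The classes moved only into the fixed ones -/

theorem vTwo_of_gens {v : ℕ} (hv : v < 2048)
    (h : ∀ i ∈ [1, 2, 4, 8], cMask.testBit (act (oP i) v ^^^ v) = true) : VTwo v := by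
  refine ⟨hv, ?_⟩
  have base : ∀ i, i = 1 ∨ i = 2 ∨ i = 4 ∨ i = 8 → ∃ c, c < 64 ∧ act (oP i) v ^^^ v = cOf c := by
    intro i hi
    obtain ⟨c, hc, e⟩ := exists_cOf (xor_lt (act_lt _ _) hv) (h i (by simpa using hi))
    exact ⟨c, hc, e.symm⟩
  have step : ∀ i j, i < 16 → j < 16 → (∃ c, c < 64 ∧ act (oP i) v ^^^ v = cOf c) →
      (∃ c, c < 64 ∧ act (oP j) v ^^^ v = cOf c) →
      ∃ c, c < 64 ∧ act (oP (i ^^^ j)) v ^^^ v = cOf c := by
    rintro i j hi hj ⟨a, ha, ea⟩ ⟨b, hb, eb⟩
    refine ⟨a ^^^ b, Nat.xor_lt_two_pow (n := 6) ha hb, ?_⟩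
    have eb' : act (oP j) v = cOf b ^^^ v := by
      rw [← eb, Nat.xor_assoc, Nat.xor_self, Nat.xor_zero]
    rw [oP_xor' hi hj, act_mul (oP_mem' hi), eb', act_xor, fix_cOf' hi hb, cOf_xor', ← ea,
      Nat.xor_comm (act (oP i) v ^^^ v) (cOf b), Nat.xor_assoc]
  have h0 : ∃ c, c < 64 ∧ act (oP 0) v ^^^ v = cOf c :=
    ⟨0, by norm_num, by rw [oP_zero', act_one hv, Nat.xor_self, cOf_zero]⟩
  have h3 := step 1 2 (by norm_num) (by norm_num) (base 1 (by simp)) (base 2 (by simp))
  have h12 := step 4 8 (by norm_num) (by norm_num) (base 4 (by simp)) (base 8 (by simp))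
  have hlo : ∀ i, i < 4 → ∃ c, c < 64 ∧ act (oP i) v ^^^ v = cOf c := by
    intro i hi
    interval_cases i
    · exact h0
    · exact base 1 (by simp)
    · exact base 2 (by simp)
    · exact h3
  have hhi : ∀ i, i < 4 → ∃ c, c < 64 ∧ act (oP (4 * i)) v ^^^ v = cOf c := by
    intro i hi
    interval_cases i
    · exact h0
    · exact base 4 (by simp)
    · exact base 8 (by simp)
    · exact h12
  intro i hi
  have e : (4 * (i / 4)) ^^^ (i % 4) = i := by
    have : ∀ k < 16, (4 * (k / 4)) ^^^ (k % 4) = k := by decide +kernel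
    exact this i hi
  rw [← e]
  exact step _ _ (by omega) (by omega) (hhi _ (by omega)) (hlo _ (by omega))

theorem vTwo_iff {v : ℕ} : VTwo v ↔ v < 2048 ∧ vMask.testBit v = true := by
  have key : ((List.range 2048).all fun v => vMask.testBit v ==
      [1, 2, 4, 8].all fun i => cMask.testBit (actN (oL i) v ^^^ v)) = true := by decide +kernel
  have hsmall : ∀ i ∈ [1, 2, 4, 8], i < 16 := by decide
  constructor
  · rintro ⟨hv, h⟩
    refine ⟨hv, ?_⟩
    rw [beq_iff_eq.1 (List.all_eq_true.1 key v (List.mem_range.2 hv)), List.all_eq_true]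
    intro i hi
    obtain ⟨c, hc, e⟩ := h i (hsmall i hi)
    rw [← act_oP (hsmall i hi), e]
    exact cMask_cOf c hc
  · rintro ⟨hv, h⟩
    rw [beq_iff_eq.1 (List.all_eq_true.1 key v (List.mem_range.2 hv)), List.all_eq_true] at h
    refine vTwo_of_gens hv fun i hi => ?_
    rw [act_oP (hsmall i hi)]
    exact h i hi

theorem card_vTwo' : Set.ncard {v | VTwo v} = 1024 := by
  have e : {v | VTwo v} = ↑(((List.range 2048).filter fun v => vMask.testBit v).toFinset) := by
    ext v
    simp [vTwo_iff]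
  rw [e, Set.ncard_coe_finset, List.toFinset_card_of_nodup (List.nodup_range.filter _)]
  decide +kernel

theorem card_stab' : 322560 ≤ Set.ncard {σ | OStab σ} := by
  rw [← Golay.OctadStab.card_stabG oct_mem, ← SetLike.coe_sort_coe, Nat.card_coe_set_eq]
  exact Set.ncard_le_ncard (fun σ hσ => oStab_of_stab hσ) (Set.toFinite _)

/-! ## Lifts of the octad group -/

/-- The extra class fixed by the generator numbered `k`. -/
def extra (k : ℕ) : ℕ := [2, 4, 15, 29].getD k 0

/-- The selection of the extra class by a binary digit. -/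
def sel (b k : ℕ) : ℕ := if b.testBit k then extra k else 0

theorem fix_gen : ((List.range 4).all fun k => (List.range 2048).all fun n =>
    !(actN (oL (2 ^ k)) n == n) || cMask.testBit n || cMask.testBit (n ^^^ extra k)) = true := by
  decide +kernel

theorem cocycle_table : ((List.range 16).all fun b =>
    ((List.range 4).any fun i => (List.range 4).any fun j =>
      !(actN (oL (2 ^ j)) (sel b i) ^^^ sel b i == actN (oL (2 ^ i)) (sel b j) ^^^ sel b j)) ||
    (List.range 4).all fun k =>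
      cMask.testBit (sel b k ^^^ actN (oL (2 ^ k)) (b / 15) ^^^ (b / 15))) = true := by
  decide +kernel

theorem cocycle' (δ : ℕ → ℕ) (hδ : ∀ i, i < 16 → δ i < 2048 ∧ act (oP i) (δ i) = δ i)
    (hcomm : ∀ i j, i < 16 → j < 16 → act (oP j) (δ i) ^^^ δ i = act (oP i) (δ j) ^^^ δ j)
    (hadd : ∀ i j, i < 16 → j < 16 → ∃ c, c < 64 ∧ δ (i ^^^ j) = act (oP j) (δ i) ^^^ δ j ^^^ cOf c) :
    ∃ v, v < 2048 ∧ ∀ i, i < 16 → ∃ c, c < 64 ∧ δ i ^^^ act (oP i) v ^^^ v = cOf c := by
  classical
  have h16 : ∀ k, k < 4 → 2 ^ k < 16 := by decide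
  have hsel : ∀ k, k < 4 → ∃ s : Bool, cMask.testBit (δ (2 ^ k) ^^^ bif s then extra k else 0) = true := by
    intro k hk
    have h := List.all_eq_true.1 (List.all_eq_true.1 fix_gen k (List.mem_range.2 hk))
      (δ (2 ^ k)) (List.mem_range.2 (hδ _ (h16 k hk)).1)
    rw [← act_oP (h16 k hk), (hδ _ (h16 k hk)).2] at h
    simp only [beq_self_eq_true, Bool.not_true, Bool.false_or, Bool.or_eq_true] at h
    rcases h with h | h
    · exact ⟨false, by simpa using h⟩
    · exact ⟨true, h⟩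
  obtain ⟨s0, hs0⟩ := hsel 0 (by norm_num)
  obtain ⟨s1, hs1⟩ := hsel 1 (by norm_num)
  obtain ⟨s2, hs2⟩ := hsel 2 (by norm_num)
  obtain ⟨s3, hs3⟩ := hsel 3 (by norm_num)
  obtain ⟨b, hb, hb0, hb1, hb2, hb3⟩ : ∃ b, b < 16 ∧ b.testBit 0 = s0 ∧ b.testBit 1 = s1 ∧
      b.testBit 2 = s2 ∧ b.testBit 3 = s3 := by
    have : ∀ a b c d : Bool, ∃ n, n < 16 ∧ n.testBit 0 = a ∧ n.testBit 1 = b ∧
        n.testBit 2 = c ∧ n.testBit 3 = d := by decide +kernel
    exact this s0 s1 s2 s3
  have hmem : ∀ k, k < 4 → ∃ c, c < 64 ∧ δ (2 ^ k) = sel b k ^^^ cOf c := by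
    intro k hk
    have h : cMask.testBit (δ (2 ^ k) ^^^ sel b k) = true := by
      interval_cases k
      · simpa [sel, hb0] using (by cases s0 <;> simpa using hs0 : cMask.testBit (δ 1 ^^^ if s0 then extra 0 else 0) = true)
      · simpa [sel, hb1] using (by cases s1 <;> simpa using hs1 : cMask.testBit (δ 2 ^^^ if s1 then extra 1 else 0) = true)
      · simpa [sel, hb2] using (by cases s2 <;> simpa using hs2 : cMask.testBit (δ 4 ^^^ if s2 then extra 2 else 0) = true)
      · simpa [sel, hb3] using (by cases s3 <;> simpa using hs3 : cMask.testBit (δ 8 ^^^ if s3 then extra 3 else 0) = true)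
    have hlt : sel b k < 2048 := by
      have : ∀ b < 16, ∀ k < 4, sel b k < 2048 := by decide +kernel
      exact this b hb k hk
    obtain ⟨c, hc, e⟩ := exists_cOf (xor_lt (hδ _ (h16 k hk)).1 hlt) h
    exact ⟨c, hc, by rw [e, Nat.xor_comm (δ _), ← Nat.xor_assoc, Nat.xor_self, Nat.zero_xor]⟩
  have key := List.all_eq_true.1 cocycle_table b (List.mem_range.2 hb)
  rw [Bool.or_eq_true] at key
  rcases key with key | key
  · exfalso
    obtain ⟨i, hi, key⟩ := List.any_eq_true.1 key
    obtain ⟨j, hj, key⟩ := List.any_eq_true.1 key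
    rw [List.mem_range] at hi hj
    obtain ⟨c, hc, ei⟩ := hmem i hi
    obtain ⟨d, hd, ej⟩ := hmem j hj
    have h := hcomm _ _ (h16 i hi) (h16 j hj)
    have cancel : ∀ x y w : ℕ, (x ^^^ w) ^^^ (y ^^^ w) = x ^^^ y := fun x y w => by
      rw [Nat.xor_comm y w, ← Nat.xor_assoc, Nat.xor_assoc x w w, Nat.xor_self, Nat.xor_zero]
    rw [ei, ej, act_xor, act_xor, fix_cOf' (h16 j hj) hc, fix_cOf' (h16 i hi) hd, cancel, cancel,
      act_oP (h16 i hi), act_oP (h16 j hj)] at h
    simp [h] at key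
  · have hv : b / 15 < 2048 := by omega
    refine ⟨b / 15, hv, ?_⟩
    obtain ⟨v, hvdef⟩ : ∃ v, v = b / 15 := ⟨_, rfl⟩
    rw [← hvdef] at hv key ⊢
    have base : ∀ k, k < 4 → ∃ c, c < 64 ∧ δ (2 ^ k) ^^^ act (oP (2 ^ k)) v ^^^ v = cOf c := by
      intro k hk
      obtain ⟨c, hc, e⟩ := hmem k hk
      have h := List.all_eq_true.1 key k (List.mem_range.2 hk)
      rw [← act_oP (h16 k hk)] at h
      have hlt : sel b k < 2048 := by
        have : ∀ b < 16, ∀ k < 4, sel b k < 2048 := by decide +kernel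
        exact this b hb k hk
      obtain ⟨d, hd, e'⟩ := exists_cOf (xor_lt (xor_lt hlt (act_lt _ _)) hv) h
      refine ⟨c ^^^ d, Nat.xor_lt_two_pow (n := 6) hc hd, ?_⟩
      rw [e, cOf_xor', e', Nat.xor_comm (sel b k) (cOf c)]
      simp only [Nat.xor_assoc]
    have step : ∀ i j, i < 16 → j < 16 → (∃ c, c < 64 ∧ δ i ^^^ act (oP i) v ^^^ v = cOf c) →
        (∃ c, c < 64 ∧ δ j ^^^ act (oP j) v ^^^ v = cOf c) →
        ∃ c, c < 64 ∧ δ (i ^^^ j) ^^^ act (oP (i ^^^ j)) v ^^^ v = cOf c := by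
      rintro i j hi hj ⟨x, hx, ex⟩ ⟨y, hy, ey⟩
      obtain ⟨w, hw, ew⟩ := hadd i j hi hj
      refine ⟨x ^^^ y ^^^ w, Nat.xor_lt_two_pow (n := 6) (Nat.xor_lt_two_pow (n := 6) hx hy) hw, ?_⟩
      have ex' : act (oP j) (δ i ^^^ act (oP i) v ^^^ v) = cOf x := by rw [ex, fix_cOf' hj hx]
      rw [act_xor, act_xor, ← act_mul (oP_mem' hj), oP_comm hj hi, ← oP_xor' hi hj] at ex'
      rw [cOf_xor', cOf_xor', ← ex', ← ey, ew]
      simp only [Nat.xor_assoc]
      rw [show ∀ a b c d e f g : ℕ, a ^^^ (b ^^^ (c ^^^ (d ^^^ (e ^^^ (f ^^^ g))))) =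
        a ^^^ (d ^^^ (f ^^^ (b ^^^ (c ^^^ (e ^^^ g))))) by intros; simp [Nat.xor_left_comm]]
      simp [Nat.xor_comm, Nat.xor_left_comm]
    have h0 : ∃ c, c < 64 ∧ δ 0 ^^^ act (oP 0) v ^^^ v = cOf c := by
      obtain ⟨c, hc, e⟩ := hadd 0 0 (by norm_num) (by norm_num)
      rw [Nat.xor_self, oP_zero', act_one (hδ 0 (by norm_num)).1, Nat.xor_self, Nat.zero_xor] at e
      exact ⟨c, hc, by rw [oP_zero', act_one hv, Nat.xor_assoc, Nat.xor_self, Nat.xor_zero, e]⟩
    have h3 := step 1 2 (by norm_num) (by norm_num) (base 0 (by norm_num)) (base 1 (by norm_num))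
    have h12 := step 4 8 (by norm_num) (by norm_num) (base 2 (by norm_num)) (base 3 (by norm_num))
    have hlo : ∀ i, i < 4 → ∃ c, c < 64 ∧ δ i ^^^ act (oP i) v ^^^ v = cOf c := by
      intro i hi
      interval_cases i
      · exact h0
      · exact base 0 (by norm_num)
      · exact base 1 (by norm_num)
      · exact h3
    have hhi : ∀ i, i < 4 → ∃ c, c < 64 ∧ δ (4 * i) ^^^ act (oP (4 * i)) v ^^^ v = cOf c := by
      intro i hi
      interval_cases i
      · exact h0
      · exact base 2 (by norm_num)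
      · exact base 3 (by norm_num)
      · exact h12
    intro i hi
    have e : (4 * (i / 4)) ^^^ (i % 4) = i := by
      have : ∀ k < 16, (4 * (k / 4)) ^^^ (k % 4) = k := by decide +kernel
      exact this i hi
    rw [← e]
    exact step _ _ (by omega) (by omega) (hhi _ (by omega)) (hlo _ (by omega))

/-- The elementary facts. -/
theorem basicFacts : BasicFacts where
  oP_mem _ h := oP_mem' h
  oP_zero := oP_zero'
  oP_xor _ _ hi hj := oP_xor' hi hj
  oP_inj _ _ hi hj h := oP_inj' hi hj h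
  cOf_lt := cOf_lt'
  cOf_xor a b _ _ := cOf_xor' a b
  cOf_inj a b ha hb h := by
    have key : ∀ a < 64, ∀ b < 64, cOf a = cOf b → a = b := by decide +kernel
    exact key a ha b hb h
  fix_cOf _ _ hi hc := fix_cOf' hi hc
  fix_only _ hn h := fix_only' hn h
  pointwise _ hσ h := pointwise' hσ h
  exists_isD := ⟨1, by norm_num, by decide +kernel⟩
  exists_isQ := ⟨4, by norm_num, by decide +kernel, by decide +kernel⟩
  card_vTwo := card_vTwo'
  card_stab := card_stab'
  cocycle δ h1 h2 h3 := cocycle' δ h1 h2 h3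

end Cfsg.Agent.Lib.J4Ten43
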