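import Cfsg.Agent.Lib.J4Ten43.ModelBasic

/-!
# The orbits on the coordinates

Six linear maps generate the action of the normaliser; breadth-first trees give the four orbits.
-/

set_option autoImplicit false
set_option maxRecDepth 100000
set_option exponentiation.threshold 1100

namespace Cfsg.Agent.Lib.J4Ten43

open Cfsg Cfsg.Agent.Lib Cfsg.Agent.Lib.J4Two56
open scoped Pointwise

/-- The masks of the four orbits. -/
def orbMask : List ℕ := [
  0x4848b7482ed12e2e,
  0xb7b748b7d12ed1d0,
  0x1001400440041001001100220022001111000011110000110110088080081001002400810024008124000024810000812004400210088001042008104002800182000082410000418002400180024001008200140028004102800820100440012222000000001111141400000000414181810000000081810000000000000000,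
  0xeffebffbbffbeffeffeeffddffddffeeeeffffeeeeffffeefeeff77f7ff7effeffdbff7effdbff7edbffffdb7effff7edffbbffdeff77ffefbdff7efbffd7ffe7dffff7dbeffffbe7ffdbffe7ffdbffeff7dffebffd7ffbefd7ff7dfeffbbffeddddffffffffeeeeebebffffffffbebe7e7effffffff7e7e0000000000000000]

/-- The first members of the four orbits. -/
def orbRep : List ℕ := [1, 4, 64, 65]

/-- The images of the ten coordinates under the six generators. -/
def genImg : List (List ℕ) := [
  [2, 25, 43, 52, 59, 30, 896, 128, 320, 192],
  [11, 40, 48, 56, 26, 46, 768, 832, 704, 512],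
  [1, 2, 4, 8, 16, 32, 64, 136, 311, 527],
  [1, 2, 4, 8, 16, 32, 72, 128, 270, 570],
  [1, 2, 4, 8, 16, 32, 127, 134, 313, 542],
  [1, 2, 4, 8, 16, 32, 120, 188, 284, 548]]

/-- The breadth-first trees: member, predecessor and generator in one number. -/
def orbTree : List ℕ := [
  16392, 90121, 204816, 327697, 385112, 221273, 106696, 336073, 344384, 180545, 213368, 41337,
  164056, 237672, 24681, 418128, 508241, 73904, 82129, 483369, 131232, 311528, 286745, 188825,
  442440, 368720, 360752, 352288, 393249, 401752, 434521, 303488, 426369, 319880, 516489, 98728,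
  123305, 450856, 172329, 115104, 377144, 500025, 270840, 254457, 65633, 147624, 49264, 262257,
  196976, 459240, 229640, 278672, 409745, 246016, 139712, 295136, 57616, 491920, 475377, 467080,
  155705, 7340544, 6291969, 590339, 1040900, 983557, 2104320, 7740418, 7773187, 7617540, 7379973, 3151872,
  1579009, 6756354, 6723587, 6617092, 975428, 918085, 6546425, 582653, 7480256, 6390721, 2623488, 5769217,
  2549762, 2213891, 2566148, 2328581, 2407808, 7519652, 7650569, 2456608, 3673088, 3664898, 3263491, 3410949,
  1639938, 2041348, 1607173, 3291584, 1677761, 6453668, 3529016, 2079033, 648125, 1980665, 6650107, 3405920,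
  3074562, 2673155, 2918917, 7869952, 4724225, 5830146, 6182403, 6092292, 6034949, 2795960, 2246773, 2779592,
  5916897, 5941545, 3025240, 6203737, 5246465, 4189698, 3722755, 3870213, 3943928, 3550715, 3919104, 4140168,
  2008676, 3992505, 2902581, 1056257, 8265218, 8363523, 8117764, 6820352, 4846082, 5132803, 4993540, 4952581,
  4879929, 8247096, 5224249, 5101313, 8148624, 8017576, 7968680, 5305346, 5723139, 5444612, 5500921, 5525185,
  5549833, 5746489, 1115138, 1098756, 1541125, 1482625, 1531633, 4200960, 7281154, 7313923, 7019012, 6853240,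
  7049992, 7115488, 7082648, 1171313, 1466001, 4321282, 4673539, 4444164, 4493317, 4340672, 4553248, 4635424,
  7356936, 6382089, 598539, 1032716, 991757, 2309136, 7674897, 7756818, 7789587, 7633940, 7396373, 3536984,
  1800281, 6715482, 6813787, 6658140, 967244, 926285, 6456305, 574453, 7496648, 6349769, 2730184, 6105289,
  2476234, 2287819, 2361548, 2140365, 2448704, 7527745, 7544130, 7576899, 7421252, 7707973, 2596240, 7536052,
  7453977, 7666973, 2513968, 3886456, 3190137, 3280250, 3419515, 3272061, 1730266, 1853148, 1828573, 3660184,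
  1767833, 6494716, 3160416, 1890657, 639925, 1923233, 6559907, 7814297, 3545144, 6007400, 3697257, 3099242,
  2714219, 2959981, 8197960, 4962121, 6149962, 5994315, 5887820, 5846861, 2820464, 2189501, 2869504, 6252585,
  3041616, 6277457, 2337106, 2394451, 2255188, 2541909, 2178224, 7658674, 7625907, 7797940, 7494837, 2227392,
  7847140, 7765065, 2112864, 6261217, 7371881, 3115408, 5998993, 4902608, 5328593, 3976914, 3903187, 3690197,
  4009000, 3632169, 3623978, 3238955, 3451949, 4156544, 3361921, 3394691, 3705976, 3501177, 3960304, 3313137,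
  1951420, 7405001, 3575169, 8181480, 4929257, 5986026, 6158059, 6248172, 6272749, 4943384, 5533209, 4165146,
  3714587, 3894813, 5835728, 3967953, 3009117, 6097736, 3910473, 5594944, 1236801, 8068930, 8036163, 8314692,
  7131880, 4870890, 5108459, 5214956, 4731629, 4839281, 7919216, 4986481, 5142089, 5892800, 3951297, 4147953,
  7952344, 3861401, 2657178, 3058587, 2812829, 8157168, 4888561, 6240242, 5871603, 5978100, 6019061, 2935016,
  2558245, 2885784, 6130097, 3065928, 6187081, 2607178, 2156619, 2492492, 2271309, 2465072, 2382992, 6121593,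
  2639880, 5859337, 8345568, 2325528, 8165088, 6894256, 2118321, 5018291, 5173940, 4805301, 898128, 2757713,
  5354578, 5641299, 5395540, 5418793, 4173613, 5574161, 5050184, 5484361, 3854154, 4058955, 4075341, 3755480,
  3182042, 3583451, 3370461, 3739088, 3444177, 4123944, 3321129, 5631961, 3230929, 5074464, 4763416, 3804320,
  3493025, 3788192, 5611312, 1498929, 8052530, 8085299, 8331060, 6927048, 2437833, 5182156, 7935952, 6984408,
  5059291, 5198556, 4780765, 570648, 5543194, 5453083, 5731612, 5738465, 5254873, 8296000, 5156640, 5492513,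
  8214336, 5033704, 947536, 3134801, 5616978, 5379411, 5657940, 1123504, 6833329, 1295538, 1180852, 1393845,
  5373632, 1334977, 5439408, 1417137, 4561712, 7068466, 7035699, 7330612, 7099024, 7295968, 6869616, 1252913,
  7902840, 5295889, 4788176, 4812472, 5320377, 4001466, 3813051, 3796669, 4065825, 2763693, 3746489, 5291800,
  1163033, 8027930, 8126235, 8371996, 6951584, 7976648, 4115249, 4049665, 7878496, 5958576, 4033457, 2632626,
  3017651, 2771893, 8378264, 4913049, 6199194, 5781403, 5937052, 5928861, 2910704, 2926976, 6039721, 6080865,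
  2681104, 5818641, 8271704, 8255064, 5316560, 1351633, 2787544, 5685024, 4643400, 8288841, 7223882, 7256651,
  6961740, 2828304, 2533394, 2197523, 2582548, 2344981, 6992824, 2421689, 7189072, 2232913, 6660969, 828267,
  672620, 697197, 2943618, 2804355, 3050117, 767080, 2651241, 5698667, 808080, 3036305, 2897065, 873792,
  7164736, 2282305, 5043010, 4936515, 4797252, 5149509, 840936, 5461226, 5567723, 5263025, 5762953, 5090896,
  4107858, 3771987, 3821141, 4025376, 3837144, 5705281, 4894648, 742776, 2667897, 4041808, 7156264, 5205632,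
  4091216, 4771440, 5508721, 5600610, 5428579, 5674340, 1238448, 7177649, 1557938, 1443252, 1131957, 1072817,
  5390272, 1155009, 4438632, 7895657, 2951496, 1515073, 4332192, 7150243, 6920868, 6886352, 7213624, 7676456,
  6775337, 631339, 999980, 1024557, 963872, 611800, 545800, 5365664, 1089441, 5668688, 7848856, 6480793,
  1008539, 623516, 615325, 6056944, 2698226, 3083251, 2837493, 554344, 2995561, 1021328, 2856337, 7234633,
  1057866, 1172556, 1483853, 4405776, 1549552, 1533056, 1467728, 562296, 2978937, 1107216, 1585504, 4510049,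
  4485474, 4378979, 4608356, 4264293, 4700912, 4258576, 939056, 7246400, 7205464, 4756058, 5190235, 5067356,
  5025664, 5164616, 865320, 3109929, 1287272, 6841449, 1090666, 1139820, 1451117, 1523353, 1507305, 4684416,
  1080937, 4919152, 7960248, 5904058, 6076091, 6166204, 6223549, 5558113, 3829602, 4018019, 4099941, 5786120,
  3762697, 6048400, 4082321, 1220593, 7987186, 7888883, 8134644, 6910648, 8001184, 5810968, 3779353, 3844905,
  8099592, 8230704, 8279600, 1572745, 955456, 2749865, 4665778, 4297139, 4526516, 4346293, 5758872, 7995291,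
  8241052, 4520840, 8387465, 8010377, 5876424, 3001034, 2878155, 3123917, 2722216, 2705880, 8141481, 4225896,
  3176808, 1948009, 6469994, 6502763, 6379884, 6701713, 6562473, 6341393, 6800209, 4619088, 6970194, 7002963,
  7232340, 2369714, 2295987, 2484404, 2181301, 7197496, 2601785, 7262792, 2519625, 6935456, 2134945, 6734641,
  901939, 729908, 770869, 709840, 800248, 2470761, 5002090, 4977515, 4821868, 5124973, 4853408, 669120,
  4747112, 8108873, 6902744, 5230488, 1303738, 1189052, 1402045, 4209504, 1336816, 1353088, 1418320, 1254416,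
  5471768, 6114112, 2060416, 4411521, 4452482, 4542595, 4313220, 4624517, 4504448, 2432328, 7585097, 7552330,
  7413068, 7716173, 1964505, 6322650, 6420955, 6527452, 6587345, 7799784, 6743017, 7439272, 6423121, 6619665,
  2391536, 7511537, 7462386, 7429619, 7601652, 7822837, 1652921, 6682810, 6584507, 6691004, 6357601, 7725656,
  6513241, 7911192, 4831001, 6067994, 5912347, 5805852, 5797661, 6212168, 5950160, 7561752, 6783969, 4709272,
  8059801, 6945691, 7175068, 1683656, 4534473, 7267817, 7005593, 7692832, 6171480, 6972473, 6309384, 2033164,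
  1615373, 1937712, 4428083, 4657460, 4215093, 4305177, 2068880, 2003008, 4649449, 1970232, 4354105, 7832464,
  6529865, 5852120, 1361128, 7021801, 1221866, 1271020, 1320173, 4422168, 7305754, 7338523, 7043612, 1385512,
  1434712, 1369480, 1205704, 6874569, 7136697, 1659352, 4583897, 7103513, 8355418, 8322651, 8044124, 8173440,
  890160, 5518642, 5477683, 5713561, 5279649, 8074768, 7927568, 1279138, 1197220, 1377445, 1318513, 1433345,
  8092249, 1269377, 8205864, 5271145, 7071225, 6325153, 816624, 6289003, 6141549, 5966704, 6228968, 6023776,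
  3435545, 3640346, 3255323, 1877866, 1738604, 1910637, 3299496, 1849513, 3520592, 1710161, 1808785, 3381512,
  3561520, 1775665, 2085272, 4387225, 4690330, 4272539, 4567452, 4479632, 4397936, 4250224, 3340720, 6412722,
  6437300, 6628041, 6767345, 6595337, 2312554, 2263404, 2500973, 2151185, 2167393, 2618249, 1593352, 4288521,
  693464, 911321, 1992666, 2090973, 1757392, 4280529, 4370642, 4460755, 4231380, 4600057, 1626224, 1692064,
  2027816, 2967872, 2353474, 2410819, 2238788, 2525509, 2211016, 2129256, 6506360, 1894266, 1927037, 1865753,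
  1726689, 1825057, 1792129, 7691425, 7642274, 7609507, 7781540, 7478437, 7748857, 7388537, 5586472, 8306218,
  8338987, 7058024, 4739690, 5239403, 5083756, 4862573, 4970273, 8222240, 5117473, 5010969, 7943856, 7355609,
  4362737, 5340856, 8191674, 1904968, 3356688, 6301536, 1869666, 1746788, 1716672, 1781776, 1814632, 1839256,
  2579936, 3463400, 7092938, 7125707, 6830796, 4468955, 4239580, 4714717, 6858105, 7316793, 7283865, 4594232,
  4578104, 656977, 6603617, 820067, 680804, 759048, 881696, 5414616, 750616, 6398745, 2017266, 1632244,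
  2050037, 1667256, 1601896, 1700032, 1986608, 3222713, 3476666, 3599549, 3201136, 3618952, 3217872, 853521,
  6636193, 7553912, 6333305, 844667, 713597, 780281, 6366896, 722481, 788081, 4180817, 2861906, 2984787,
  2739029, 3139832, 3090568, 2844696, 3332304, 6576338, 6674643, 6797524, 6694744, 6473424, 7593299, 7437652,
  7724373, 7470505, 7863689, 7830569, 5625162, 5403979, 5649740, 5349288, 5693000, 3484873, 3168264, 6764554,
  6731787, 6440616, 6539008, 2689488, 3591473, 3512624, 3389544, 3566665, 3206219, 3468729, 3345457, 3607617,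
  3682290, 4132851, 3985397, 3877609, 3934833, 3927033, 3730377, 3648530, 3247123, 3427349, 3307976]

/-- The generator numbered `k` on the coordinates. -/
def stepFn (k n : ℕ) : ℕ := comb (genImg.getD k []) n

/-- The orbit of a coordinate. -/
def clFn (n : ℕ) : ℕ :=
  if (orbMask.getD 0 0).testBit n then 0 else if (orbMask.getD 1 0).testBit n then 1
  else if (orbMask.getD 2 0).testBit n then 2 else 3

/-- The first member of the orbit numbered `k`. -/
def repFn (k : ℕ) : ℕ := orbRep.getD k 0

theorem split_eq : ∀ n < 1024, (64 * (n / 64)) ^^^ (n % 64) = n := by decide +kernel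

theorem parts_eq {j c : ℕ} (hj : j < 16) (hc : c < 64) :
    ((64 * j) ^^^ c) / 64 = j ∧ ((64 * j) ^^^ c) % 64 = c ∧ (64 * j) ^^^ c < 1024 := by
  have e1 : ((64 * j) ^^^ c) / 2 ^ 6 = (64 * j) / 2 ^ 6 ^^^ c / 2 ^ 6 := Nat.xor_div_two_pow
  have e2 : ((64 * j) ^^^ c) % 2 ^ 6 = (64 * j) % 2 ^ 6 ^^^ c % 2 ^ 6 := Nat.xor_mod_two_pow
  norm_num at e1 e2
  rw [Nat.div_eq_of_lt hc, Nat.xor_zero] at e1
  rw [Nat.mod_eq_of_lt hc] at e2
  exact ⟨e1, e2, Nat.xor_lt_two_pow (n := 10) (show 64 * j < 2 ^ 10 by omega)
    (lt_trans hc (by norm_num))⟩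

/-- The image list of the first or second generator. -/
def gList (k : ℕ) : List ℕ := if k = 0 then gL1 else gL2

theorem gList_check : ∀ k < 2, Golay.inM24 (gList k) = true ∧
    Golay.imageMask (gList k) octMask = octMask := by decide +kernel

theorem gList_stab {k : ℕ} (hk : k < 2) :
    Golay.toPerm (gList k) ∈ Golay.OctadStab.stabG oct := by
  obtain ⟨h1, h2⟩ := gList_check k hk
  refine Subgroup.mem_inf.2 ⟨Golay.toPerm_mem_M24 h1, MulAction.mem_stabilizer_iff.2 ?_⟩
  rw [oct, Golay.toPerm_smul_ptsOf (Golay.inM24.valid h1), h2]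

theorem gList_top : ∀ k < 2, ∀ i < 16, stepFn k (64 * i) % 64 = 0 ∧ stepFn k (64 * i) / 64 < 16 ∧
    Golay.validList (Golay.compList (gList k) (oL i)) = true ∧
    Golay.compList (gList k) (oL i) = Golay.compList (oL (stepFn k (64 * i) / 64)) (gList k) := by
  decide +kernel

theorem gList_bot : ∀ k < 2, ∀ c < 64, stepFn k c < 64 ∧
    actN (gList k) (cOf c) = cOf (stepFn k c) := by decide +kernel

theorem shift_top : ∀ k < 4, ∀ i < 16, stepFn (k + 2) (64 * i) / 64 = i ∧
    actN (oL i) (vOf (2 ^ k)) ^^^ vOf (2 ^ k) = cOf (stepFn (k + 2) (64 * i) % 64) := by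
  decide +kernel

theorem shift_bot : ∀ k < 4, ∀ c < 64, stepFn (k + 2) c = c := by decide +kernel

theorem shift_vTwo : ∀ k < 4, vOf (2 ^ k) < 2048 ∧ vMask.testBit (vOf (2 ^ k)) = true := by
  decide +kernel

/-- A conjugation step in both directions. -/
theorem move_step {k n : ℕ} (hk : k < 6) (hn : n < 1024) :
    Move n (stepFn k n) ∧ Move (stepFn k n) n := by
  have hi : n / 64 < 16 := by omega
  have hc : n % 64 < 64 := Nat.mod_lt _ (by norm_num)
  have hlin : stepFn k n = stepFn k (64 * (n / 64)) ^^^ stepFn k (n % 64) := by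
    rw [stepFn, stepFn, stepFn, ← comb_xor, split_eq n hn]
  by_cases hk2 : k < 2
  · obtain ⟨t1, t2, t3, t4⟩ := gList_top k hk2 _ hi
    obtain ⟨b1, b2⟩ := gList_bot k hk2 _ hc
    have e64 : stepFn k (64 * (n / 64)) = 64 * (stepFn k (64 * (n / 64)) / 64) := by omega
    obtain ⟨p1, p2, p3⟩ := parts_eq t2 b1
    rw [← e64, ← hlin] at p1 p2 p3
    obtain ⟨g, hg⟩ : ∃ g, g = Golay.toPerm (gList k) := ⟨_, rfl⟩
    have hv := Golay.inM24.valid (gList_check k hk2).1
    have hst : g ∈ Golay.OctadStab.stabG oct := hg ▸ gList_stab hk2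
    have hgM : g ∈ Cfsg.M24 := (Subgroup.mem_inf.1 hst).1
    have econj : g * oP (n / 64) * g⁻¹ = oP (stepFn k n / 64) := by
      rw [p1, mul_inv_eq_iff_eq_mul, hg, oP, oP, ← Golay.toPerm_mul hv (oL_valid hi) t3, t4,
        Golay.toPerm_mul (oL_valid t2) hv (t4 ▸ t3)]
    have eact : act g (cOf (n % 64)) = cOf (stepFn k n % 64) := by
      rw [p2, hg, act_toPerm hv]; exact b2
    refine ⟨⟨hn, p3, Or.inl ⟨g, oStab_of_stab hst, econj, eact⟩⟩,
      ⟨p3, hn, Or.inl ⟨g⁻¹, oStab_of_stab (inv_mem hst), ?_, ?_⟩⟩⟩
    · rw [← econj]; group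
    · rw [← eact, act_inv_act hgM (cOf_lt' _ hc)]
  · obtain ⟨j, rfl⟩ : ∃ j, k = j + 2 := ⟨k - 2, by omega⟩
    have hj : j < 4 := by omega
    obtain ⟨t1, t2⟩ := shift_top j hj _ hi
    have b1 := shift_bot j hj _ hc
    obtain ⟨v1, v2⟩ := shift_vTwo j hj
    obtain ⟨d, hd⟩ : ∃ d, d = stepFn (j + 2) (64 * (n / 64)) % 64 := ⟨_, rfl⟩
    have hd64 : d < 64 := hd ▸ Nat.mod_lt _ (by norm_num)
    have e64 : stepFn (j + 2) (64 * (n / 64)) = (64 * (n / 64)) ^^^ d := by
      have h1 := split_eq (stepFn (j + 2) (64 * (n / 64))) (by omega)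
      rw [t1, ← hd] at h1
      exact h1.symm
    have hm : stepFn (j + 2) n = (64 * (n / 64)) ^^^ (d ^^^ (n % 64)) := by
      rw [hlin, e64, b1, Nat.xor_assoc]
    obtain ⟨p1, p2, p3⟩ := parts_eq hi (Nat.xor_lt_two_pow (n := 6) hd64 hc)
    rw [← hm] at p1 p2 p3
    have eact : act (oP (n / 64)) (vOf (2 ^ j)) ^^^ vOf (2 ^ j) = cOf d := by
      rw [act_oP hi, t2, hd]
    refine ⟨⟨hn, p3, Or.inr ⟨_, vTwo_iff.2 ⟨v1, v2⟩, p1, ?_⟩⟩,
      ⟨p3, hn, Or.inr ⟨_, vTwo_iff.2 ⟨v1, v2⟩, p1.symm, ?_⟩⟩⟩
    · rw [p2, cOf_xor', eact]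
    · rw [p1, eact, ← cOf_xor', p2, ← Nat.xor_assoc, Nat.xor_self, Nat.zero_xor]

/-! ## The trees -/

/-- The checker of the trees: the members seen so far are a mask. -/
def treeFold : List ℕ → ℕ → Option ℕ
  | [], seen => some seen
  | e :: l, seen =>
    if seen.testBit (e / 8 % 1024) && stepFn (e % 8) (e / 8 % 1024) == e / 8192 &&
        clFn (e / 8 % 1024) == clFn (e / 8192) && decide (e % 8 < 6) then
      treeFold l (seen ||| 2 ^ (e / 8192))
    else none

/-- Being connected with the first member of its orbit. -/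
def Linked (n : ℕ) : Prop :=
  Relation.ReflTransGen Move (repFn (clFn n)) n ∧ Relation.ReflTransGen Move n (repFn (clFn n))

theorem treeFold_sound : ∀ (l : List ℕ) (seen out : ℕ), treeFold l seen = some out →
    (∀ n, seen.testBit n = true → Linked n) → ∀ n, out.testBit n = true → Linked n
  | [], seen, out, h, hs => by
    simp only [treeFold, Option.some.injEq] at h
    exact h ▸ hs
  | e :: l, seen, out, h, hs => by
    rw [treeFold] at h
    split at h
    · rename_i hcond
      simp only [Bool.and_eq_true, beq_iff_eq, decide_eq_true_eq] at hcond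
      obtain ⟨⟨⟨hseen, hstep⟩, hcl⟩, hk⟩ := hcond
      refine treeFold_sound l _ out h fun n hn => ?_
      rw [Nat.testBit_lor, Bool.or_eq_true, Nat.testBit_two_pow, decide_eq_true_eq] at hn
      rcases hn with hn | rfl
      · exact hs n hn
      · obtain ⟨h1, h2⟩ := hs _ hseen
        have hm := move_step hk (Nat.mod_lt (e / 8) (show 1024 > 0 by norm_num))
        rw [hstep] at hm
        rw [hcl] at h1 h2
        exact ⟨h1.tail hm.1, Relation.ReflTransGen.head hm.2 h2⟩
    · exact absurd h (by simp)

/-- The first members, as a mask. -/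
def repMask : ℕ := 2 ^ repFn 0 + 2 ^ repFn 1 + 2 ^ repFn 2 + 2 ^ repFn 3

theorem tree_ok : treeFold orbTree repMask = some (2 ^ 1024 - 2) := by decide +kernel

theorem linked {n : ℕ} (hn : n < 1024) (h0 : n ≠ 0) : Linked n := by
  refine treeFold_sound _ _ _ tree_ok (fun m hm => ?_) n ?_
  · have hrep : ∀ k < 4, clFn (repFn k) = k := by decide +kernel
    have hm' : m < 1024 := by
      by_contra hlt
      push Not at hlt
      have : repMask < 2 ^ m := lt_of_lt_of_le (show repMask < 2 ^ 1024 by decide +kernel)
        (Nat.pow_le_pow_right (show 0 < 2 by norm_num) hlt)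
      rw [Nat.testBit_eq_false_of_lt this] at hm
      exact Bool.false_ne_true hm
    have key : ∀ m < 1024, repMask.testBit m = true → repFn (clFn m) = m := by decide +kernel
    rw [Linked, key m hm' hm]
    exact ⟨Relation.ReflTransGen.refl, Relation.ReflTransGen.refl⟩
  · have key : ((List.range 1024).all fun m => decide (m = 0) || (2 ^ 1024 - 2).testBit m) = true := by
      decide +kernel
    have h := List.all_eq_true.1 key n (List.mem_range.2 hn)
    simpa [h0] using h

theorem clFn_lt (n : ℕ) : clFn n < 4 := by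
  unfold clFn
  split_ifs <;> norm_num

theorem card_cl (k : ℕ) : Set.ncard {n | n < 1024 ∧ n ≠ 0 ∧ clFn n = k} =
    ((List.range 1024).filter fun n => decide (n ≠ 0) && clFn n == k).length := by
  rw [← List.toFinset_card_of_nodup (List.nodup_range.filter _), ← Set.ncard_coe_finset]
  congr 1
  ext n
  simp

theorem comb_lt {N : ℕ} : ∀ {l : List ℕ}, (∀ g ∈ l, g < 2 ^ N) → ∀ x, comb l x < 2 ^ N
  | [], _, _ => Nat.two_pow_pos N
  | g :: l, h, x => by
    rw [comb]
    refine Nat.xor_lt_two_pow ?_ (comb_lt (fun a ha => h a (List.mem_cons_of_mem g ha)) _)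
    rcases Nat.mod_two_eq_zero_or_one x with h' | h' <;> rw [h']
    · simpa using Nat.two_pow_pos N
    · simpa using h g List.mem_cons_self

/-- The facts about the orbits. -/
theorem orbitFacts : OrbitFacts where
  exists_cl := by
    refine ⟨clFn, repFn, fun n hn h0 => ⟨clFn_lt n, (linked hn h0).1, (linked hn h0).2⟩, ?_, ?_,
      ?_, ?_, ?_, ?_, ?_⟩
    · have key : ∀ c < 64, c ≠ 0 → (clFn c = 0 ∧ isD (cOf c) = true) ∨
          (clFn c = 1 ∧ isD (cOf c) = false) := by decide +kernel
      exact key
    · intro n h1 h2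
      have key : ((List.range 1024).all fun n => decide (n < 64) || decide (2 ≤ clFn n)) = true := by
        decide +kernel
      have h := List.all_eq_true.1 key n (List.mem_range.2 h2)
      simp only [Bool.or_eq_true, decide_eq_true_eq] at h
      have := clFn_lt n
      omega
    · rw [card_cl]; decide +kernel
    · rw [card_cl]; decide +kernel
    · rw [card_cl]; decide +kernel
    · rw [card_cl]; decide +kernel
    · intro n hn h0
      have key : ((List.range 1024).all fun n => decide (n = 0) ||
          isDec (toPlucker n) == (clFn n == 1 || clFn n == 2)) = true := by decide +kernel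
      have h := List.all_eq_true.1 key n (List.mem_range.2 hn)
      simp only [h0, decide_false, Bool.false_or, beq_iff_eq] at h
      rw [h]
      simp
  toP_lt n _ := comb_lt (N := 10) (by decide) n
  toP_xor a b _ _ := comb_xor _ a b
  ofP_toP n hn := by
    have key : ((List.range 1024).all fun n => ofPlucker (toPlucker n) == n) = true := by decide +kernel
    exact beq_iff_eq.1 (List.all_eq_true.1 key n (List.mem_range.2 hn))
  toP_ofP n hn := by
    have key : ((List.range 1024).all fun n => toPlucker (ofPlucker n) == n) = true := by decide +kernel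
    exact beq_iff_eq.1 (List.all_eq_true.1 key n (List.mem_range.2 hn))
  ofP_lt n _ := comb_lt (N := 10) (by decide) n

end Cfsg.Agent.Lib.J4Ten43
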