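import Cfsg.Agent.Lib.J4Two56.ModelFacts
import Cfsg.Agent.Lib.Golay.Perm

/-!
# Coordinates for the self-centralising elementary subgroup of order `2 ^ 10` of a J4-type group

`oP i` (`i < 16`, indices add by exclusive or) are the permutations fixing the octad
`{3, 5, 6, 7, 9, 16, 20, 22}` pointwise; `cOf c` (`c < 64`) runs over the classes they all fix.
The number `64 * i + c` stands for the product of the lift of `oP i` and the element of `cOf c`.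
-/

set_option autoImplicit false

namespace Cfsg.Agent.Lib.J4Ten43

open Cfsg Cfsg.Agent.Lib

/-- The octad group. -/
def oList : List (List ℕ) := [
  [0, 1, 2, 3, 4, 5, 6, 7, 8, 9, 10, 11, 12, 13, 14, 15, 16, 17, 18, 19, 20, 21, 22, 23],
  [1, 0, 11, 3, 21, 5, 6, 7, 12, 9, 14, 2, 8, 19, 10, 17, 16, 15, 23, 13, 20, 4, 22, 18],
  [2, 11, 0, 3, 15, 5, 6, 7, 18, 9, 13, 1, 23, 10, 19, 4, 16, 21, 8, 14, 20, 17, 22, 12],
  [11, 2, 1, 3, 17, 5, 6, 7, 23, 9, 19, 0, 18, 14, 13, 21, 16, 4, 12, 10, 20, 15, 22, 8],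
  [4, 21, 15, 3, 0, 5, 6, 7, 13, 9, 18, 17, 19, 8, 23, 2, 16, 11, 10, 12, 20, 1, 22, 14],
  [21, 4, 17, 3, 1, 5, 6, 7, 19, 9, 23, 15, 13, 12, 18, 11, 16, 2, 14, 8, 20, 0, 22, 10],
  [15, 17, 4, 3, 2, 5, 6, 7, 10, 9, 8, 21, 14, 18, 12, 0, 16, 1, 13, 23, 20, 11, 22, 19],
  [17, 15, 21, 3, 11, 5, 6, 7, 14, 9, 12, 4, 10, 23, 8, 1, 16, 0, 19, 18, 20, 2, 22, 13],
  [8, 12, 18, 3, 13, 5, 6, 7, 0, 9, 15, 23, 1, 4, 17, 10, 16, 14, 2, 21, 20, 19, 22, 11],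
  [12, 8, 23, 3, 19, 5, 6, 7, 1, 9, 17, 18, 0, 21, 15, 14, 16, 10, 11, 4, 20, 13, 22, 2],
  [18, 23, 8, 3, 10, 5, 6, 7, 2, 9, 4, 12, 11, 15, 21, 13, 16, 19, 0, 17, 20, 14, 22, 1],
  [23, 18, 12, 3, 14, 5, 6, 7, 11, 9, 21, 8, 2, 17, 4, 19, 16, 13, 1, 15, 20, 10, 22, 0],
  [13, 19, 10, 3, 8, 5, 6, 7, 4, 9, 2, 14, 21, 0, 11, 18, 16, 23, 15, 1, 20, 12, 22, 17],
  [19, 13, 14, 3, 12, 5, 6, 7, 21, 9, 11, 10, 4, 1, 2, 23, 16, 18, 17, 0, 20, 8, 22, 15],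
  [10, 14, 13, 3, 18, 5, 6, 7, 15, 9, 0, 19, 17, 2, 1, 8, 16, 12, 4, 11, 20, 23, 22, 21],
  [14, 10, 19, 3, 23, 5, 6, 7, 17, 9, 1, 13, 15, 11, 0, 12, 16, 8, 21, 2, 20, 18, 22, 4]]

/-- The image list of the element numbered `i`. -/
def oL (i : ℕ) : List ℕ := oList.getD i []

/-- The element numbered `i` of the octad group. -/
noncomputable def oP (i : ℕ) : Equiv.Perm GolayPt := Golay.toPerm (oL i)

/-- Combinations of a list of numbers by the binary digits. -/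
def comb : List ℕ → ℕ → ℕ
  | [], _ => 0
  | g :: l, x => (g * (x % 2)) ^^^ comb l (x / 2)

theorem comb_nil (x : ℕ) : comb [] x = 0 := by rw [comb.eq_def]

theorem comb_cons (g : ℕ) (l : List ℕ) (x : ℕ) : comb (g :: l) x = (g * (x % 2)) ^^^ comb l (x / 2) := by
  simp [comb]

/-- A class fixed by the octad group. -/
def cOf (c : ℕ) : ℕ := comb [60, 78, 134, 257, 529, 1043] c

/-- Two generators of a complement in the stabiliser of the octad, modulo the octad group. -/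
def gL1 : List ℕ := [18, 4, 8, 20, 14, 5, 7, 16, 12, 22, 10, 15, 17, 13, 0, 19, 3, 11, 23, 2, 9, 1, 6, 21]

/-- Second generator. -/
def gL2 : List ℕ := [15, 18, 23, 7, 19, 16, 5, 9, 10, 3, 8, 17, 2, 21, 4, 0, 6, 13, 11, 12, 20, 1, 22, 14]

/-- A complement of the fixed classes in the classes moved by the octad group only into them. -/
def vOf (v : ℕ) : ℕ := comb [2, 4, 9, 16] v

/-- The Plücker number of a coordinate. -/
def toPlucker (n : ℕ) : ℕ := comb [21, 129, 1, 2, 52, 37, 264, 256, 776, 584] n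

/-- The coordinate of a Plücker number. -/
def ofPlucker (n : ℕ) : ℕ := comb [4, 8, 49, 192, 52, 21, 896, 6, 128, 320] n

end Cfsg.Agent.Lib.J4Ten43
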