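import Cfsg.Agent.Lib.J4Ten43.OctadSearch
import Cfsg.Agent.Lib.J4Ten43.Model
import Cfsg.Agent.Lib.H59.M24Syl.Checks

/-!
# Kernel checks of the tables of the search
-/

set_option autoImplicit false

namespace Cfsg.Agent.Lib.J4Ten43.OctadChecks

open Cfsg.Agent.Lib Cfsg.Agent.Lib.Compute
open Cfsg.Agent.Lib.J4Ten43.OctadSearch
open Cfsg.Agent.Lib.H59.M24Syl (O24 elemsP memN)

/-- The code numbered `i`. -/
def code (i : ℕ) : ℕ := getT OctadData.codes 0 i

/-- A point moved differently by the two products. -/
noncomputable def nonComm (a b : ℕ) : Bool :=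
  (List.range 24).any fun p => !Nat.beq (getP 8 a (getP 8 b p)) (getP 8 b (getP 8 a p))

/-- The check of a row of the table of products. -/
noncomputable def rowOK (x : ℕ) : Bool :=
  forceNat (code x) fun a => (List.range 192).all fun s => forceNat (code s) fun b =>
    forceNat (prodAt x s) fun k =>
      bif Nat.blt k 192 then
        Nat.beq ((O24).mul a b) (code k) && (Nat.blt k x || (partner s).testBit x)
      else nonComm a b

/-- The image of a number under a code. -/
noncomputable def actC (c n : ℕ) : ℕ :=
  (List.range 11).foldr (fun k r => (bif n.testBit k then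
    (J4Two56.repList.getD k []).foldr (fun i r => J4Two56.cdList.getD (getP 8 c i) 0 ^^^ r) 0
      else 0) ^^^ r) 0

/-- The check of a certificate of fixed classes. -/
noncomputable def fixOK (x : ℕ) : Bool :=
  ((List.range 11).all fun k =>
    Nat.beq (comb (cert x).1 (actC (code x) (2 ^ k) ^^^ 2 ^ k) ^^^
      comb (cert x).2.1 ((cert x).2.2.getD k 0)) (2 ^ k)) &&
  (spanList (cert x).2.1).all fun n => (mask x).testBit n

theorem code_zero : code 0 = (O24).one := by decide +kernel

theorem codes_mem : ((List.range 192).all fun i => memN (code i) elemsP) = true := by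
  decide +kernel

theorem codes_cover : (elemsP.all fun c =>
    !Nat.beq ((O24).mul c c) (O24).one || ((List.range 192).any fun i => Nat.beq (code i) c)) =
      true := by
  decide +kernel

theorem rows_ok₁ : ((List.range' 0 64).all rowOK) = true := by decide +kernel

theorem rows_ok₂ : ((List.range' 64 64).all rowOK) = true := by decide +kernel

theorem rows_ok₃ : ((List.range' 128 64).all rowOK) = true := by decide +kernel

theorem fix_ok : ((List.range' 1 191).all fixOK) = true := by decide +kernel

theorem top_ok₁ : ((List.range' 1 4).all top) = true := by decide +kernel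

theorem top_ok₂ : ((List.range' 5 10).all top) = true := by decide +kernel

theorem top_ok₃ : ((List.range' 15 177).all top) = true := by decide +kernel

theorem row_ok {x : ℕ} (hx : x < 192) : rowOK x = true := by
  rcases Nat.lt_or_ge x 64 with h | h
  · exact List.all_eq_true.1 rows_ok₁ x (List.mem_range'_1.2 ⟨by omega, by omega⟩)
  rcases Nat.lt_or_ge x 128 with h' | h'
  · exact List.all_eq_true.1 rows_ok₂ x (List.mem_range'_1.2 ⟨by omega, by omega⟩)
  · exact List.all_eq_true.1 rows_ok₃ x (List.mem_range'_1.2 ⟨by omega, by omega⟩)

theorem fix_of {x : ℕ} (h0 : 0 < x) (hx : x < 192) : fixOK x = true :=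
  List.all_eq_true.1 fix_ok x (List.mem_range'_1.2 ⟨h0, by omega⟩)

theorem top_of {x : ℕ} (h0 : 0 < x) (hx : x < 192) : top x = true := by
  rcases Nat.lt_or_ge x 5 with h | h
  · exact List.all_eq_true.1 top_ok₁ x (List.mem_range'_1.2 ⟨by omega, by omega⟩)
  rcases Nat.lt_or_ge x 15 with h' | h'
  · exact List.all_eq_true.1 top_ok₂ x (List.mem_range'_1.2 ⟨by omega, by omega⟩)
  · exact List.all_eq_true.1 top_ok₃ x (List.mem_range'_1.2 ⟨by omega, by omega⟩)

/-- The image list of a code. -/
noncomputable def codeList (c : ℕ) : List ℕ := (List.range 24).map (getP 8 c)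

theorem conj_valid : Golay.inM24 OctadData.conjList = true := by decide +kernel

theorem order_ok : ((List.range 16).all fun j =>
    Golay.validList (codeList (code (OctadData.order.getD j 0))) && Golay.validList (oL j) &&
    Golay.validList (Golay.compList OctadData.conjList (codeList (code (OctadData.order.getD j 0)))) &&
    Golay.compList OctadData.conjList (codeList (code (OctadData.order.getD j 0))) ==
      Golay.compList (oL j) OctadData.conjList &&
    OctadData.found.contains (OctadData.order.getD j 0)) = true := by
  decide +kernel

theorem found_ok : (OctadData.found.all fun s =>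
    decide (s < 192) && ((List.range 16).any fun j => OctadData.order.getD j 0 == s)) = true := by
  decide +kernel

end Cfsg.Agent.Lib.J4Ten43.OctadChecks
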