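import Cfsg.Agent.Lib.J4Ten43.Stmts
import Cfsg.Agent.Lib.J4Ten43.OctadChecks
import Cfsg.Agent.Lib.Golay.M24
import Cfsg.Agent.Lib.Golay.Simple
import Cfsg.Agent.Lib.Fusion.Mathieu.Identify

/-!
# The octad groups are determined by their number of fixed classes
-/

set_option autoImplicit false

namespace Cfsg.Agent.Lib.J4Ten43

open Cfsg Cfsg.Agent.Lib Cfsg.Agent.Lib.J4Two56
open Cfsg.Agent.Lib.Compute (Coding GensOK genGroup permOps gensOK_of_pairCheck forceNat_eq getP)
open Cfsg.Agent.Lib.Compute.Mathieu (ptCoding)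
open Cfsg.Agent.Lib.H59.M24Syl (O24 elemsP pcGroup Lists pc_spec memN_iff pairs_ok steps_ok)

namespace Octad

/-- A Sylow subgroup. -/
noncomputable def syl : Subgroup (Equiv.Perm GolayPt) :=
  pcGroup ptCoding H59.M24Syl.Data.steps

theorem syl_gens : GensOK ptCoding (H59.M24Syl.Data.steps.map Prod.fst) ∧ syl ≤ Cfsg.M24 := by
  obtain ⟨h1, h2⟩ := gensOK_of_pairCheck Compute.Mathieu.ptEquiv (by decide)
    Compute.Mathieu.gensOK_m24 Compute.Mathieu.m24Chain_ok pairs_ok
  refine ⟨h1, ?_⟩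
  rw [← Golay.genM24_eq_M24, Compute.Mathieu.genM24_eq]
  exact h2

theorem syl_lists : Lists ptCoding syl elemsP ∧ Nat.card ↥syl = 2 ^ 10 ∧
    ∀ c ∈ elemsP, ∃ g ∈ syl, ptCoding.enc g = c :=
  pc_spec ptCoding H59.M24Syl.Data.steps syl_gens.1 steps_ok

theorem exists_el (i : ℕ) : ∃ g ∈ syl, i < 192 → ptCoding.enc g = OctadChecks.code i := by
  by_cases h : i < 192
  · obtain ⟨g, hg, e⟩ := syl_lists.2.2 _
      (memN_iff.1 (List.all_eq_true.1 OctadChecks.codes_mem i (List.mem_range.2 h)))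
    exact ⟨g, hg, fun _ => e⟩
  · exact ⟨1, one_mem _, fun h' => absurd h' h⟩

/-- The element numbered `i`. -/
noncomputable def el (i : ℕ) : Equiv.Perm GolayPt := (exists_el i).choose

theorem el_mem (i : ℕ) : el i ∈ Cfsg.M24 := syl_gens.2 (exists_el i).choose_spec.1

theorem enc_el {i : ℕ} (h : i < 192) : ptCoding.enc (el i) = OctadChecks.code i :=
  (exists_el i).choose_spec.2 h

theorem getP_enc (g : Equiv.Perm GolayPt) (p : GolayPt) :
    getP 8 (ptCoding.enc g) (Golay.idx p).val = (Golay.idx (g p)).val := by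
  rw [← Golay.idx_eq_ptEquiv, ← Golay.idx_eq_ptEquiv]
  exact Fusion.Mathieu.getP_enc_apply Compute.Mathieu.ptEquiv (by decide) g p

theorem getP_el {i : ℕ} (h : i < 192) (p : GolayPt) :
    getP 8 (OctadChecks.code i) (Golay.idx p).val = (Golay.idx (el i p)).val := by
  rw [← enc_el h, getP_enc]

theorem toPerm_codeList {i : ℕ} (h : i < 192)
    (hv : Golay.validList (OctadChecks.codeList (OctadChecks.code i)) = true) :
    Golay.toPerm (OctadChecks.codeList (OctadChecks.code i)) = el i := by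
  rw [Golay.toPerm_eq_iff hv]
  intro j
  rw [Golay.applyNum, OctadChecks.codeList, List.getD_eq_getElem _ _ (by simp)]
  have e := getP_el h (Golay.pt j)
  rw [Golay.idx_pt] at e
  simp [e, Nat.mod_eq_of_lt (Fin.isLt _)]

theorem el_zero : el 0 = 1 :=
  ptCoding.inj (by rw [enc_el (by norm_num), OctadChecks.code_zero, ptCoding.one_enc])

theorem actC_eq {i : ℕ} (h : i < 192) (n : ℕ) :
    OctadChecks.actC (OctadChecks.code i) n = act (el i) n := by
  have hlt : ∀ k < 11, ∀ j ∈ repList.getD k [], j < 24 := by decide +kernel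
  unfold OctadChecks.actC act
  have : ∀ l : List ℕ, (∀ k ∈ l, k < 11) →
      l.foldr (fun k r => (bif n.testBit k then (repList.getD k []).foldr
        (fun i' r => cdList.getD (getP 8 (OctadChecks.code i) i') 0 ^^^ r) 0 else 0) ^^^ r) 0 =
      l.foldr (fun k r => (if n.testBit k then imgSum (el i) (repList.getD k []) else 0) ^^^ r) 0 := by
    intro l hl
    induction l with
    | nil => rfl
    | cons k l ih =>
      rw [List.foldr_cons, List.foldr_cons, ih fun a ha => hl a (List.mem_cons_of_mem _ ha)]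
      congr 1
      cases n.testBit k
      · rfl
      · simp only [cond_true, if_true]
        have hk := hlt k (hl k List.mem_cons_self)
        revert hk
        generalize repList.getD k [] = m
        intro hk
        induction m with
        | nil => rfl
        | cons a m ihm =>
          rw [List.foldr_cons, ihm fun b hb => hk b (List.mem_cons_of_mem _ hb), imgSum, imgSum,
            List.foldr_cons, cd, ← getP_el h, Golay.idx_ptN (hk a List.mem_cons_self)]
  exact this _ fun k hk => List.mem_range.1 hk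

theorem comb_zero : ∀ l : List ℕ, comb l 0 = 0
  | [] => rfl
  | g :: l => by simp [comb, comb_zero l]

theorem comb_xor : ∀ (l : List ℕ) (a b : ℕ), comb l (a ^^^ b) = comb l a ^^^ comb l b
  | [], a, b => by simp [comb]
  | g :: l, a, b => by
    have h2 : (a ^^^ b) / 2 = a / 2 ^^^ b / 2 := by
      simpa using Nat.xor_div_two_pow (a := a) (b := b) (n := 1)
    have h1 : (a ^^^ b) % 2 = a % 2 ^^^ b % 2 := by
      simpa using Nat.xor_mod_two_pow (a := a) (b := b) (n := 1)
    rw [comb, comb, comb, h1, h2, comb_xor l]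
    rcases Nat.mod_two_eq_zero_or_one a with ha | ha <;>
      rcases Nat.mod_two_eq_zero_or_one b with hb | hb <;>
        simp [ha, hb, Nat.xor_assoc, Nat.xor_left_comm]

theorem comb_mem_span : ∀ (l : List ℕ) (m : ℕ), comb l m ∈ OctadSearch.spanList l
  | [], _ => by simp [comb, OctadSearch.spanList]
  | g :: l, m => by
    rw [comb, OctadSearch.spanList, List.mem_append, List.mem_map]
    rcases Nat.mod_two_eq_zero_or_one m with h | h
    · exact Or.inl (by simpa [h] using comb_mem_span l (m / 2))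
    · exact Or.inr ⟨comb l (m / 2), comb_mem_span l _, by simp [h]⟩

theorem map_comb {f : ℕ → ℕ} (hf : ∀ a b, f (a ^^^ b) = f a ^^^ f b) :
    ∀ (l : List ℕ) (n : ℕ), f (comb l n) = comb (l.map f) n
  | [], n => by
    have h := hf 0 0
    rw [Nat.xor_self, Nat.xor_self] at h
    simpa [comb] using h
  | g :: l, n => by
    rw [List.map_cons, comb, comb, hf, map_comb hf l]
    congr 1
    rcases Nat.mod_two_eq_zero_or_one n with h | h
    · have h' := hf 0 0
      rw [Nat.xor_self, Nat.xor_self] at h'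
      simpa [h] using h'
    · simp [h]

/-- The unit numbers. -/
def units : List ℕ := (List.range 11).map fun k => 2 ^ k

theorem comb_units {n : ℕ} (hn : n < 2048) : comb units n = n := by
  have h : (List.range 2048).all (fun n => comb units n == n) = true := by decide +kernel
  simpa using List.all_eq_true.1 h n (List.mem_range.2 hn)

theorem fixed_mem {x n : ℕ} (hx0 : 0 < x) (hx : x < 192) (hn : n < 2048) (hf : act (el x) n = n) :
    n ∈ OctadSearch.spanList (OctadSearch.cert x).2.1 ∧ (OctadSearch.mask x).testBit n = true := by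
  have hc := OctadChecks.fix_of hx0 hx
  rw [OctadChecks.fixOK, Bool.and_eq_true] at hc
  obtain ⟨hc1, hc2⟩ := hc
  obtain ⟨L, Bs, cs, hcert⟩ : ∃ L Bs cs, OctadSearch.cert x = (L, Bs, cs) := ⟨_, _, _, rfl⟩
  simp only [hcert] at hc1 hc2 ⊢
  suffices hmem : n ∈ OctadSearch.spanList Bs from ⟨hmem, List.all_eq_true.1 hc2 n hmem⟩
  obtain ⟨d, hd⟩ : ∃ d : ℕ → ℕ, d = fun m => act (el x) m ^^^ m := ⟨_, rfl⟩
  have hdx : ∀ a b, d (a ^^^ b) = d a ^^^ d b := fun a b => by
    simp only [hd, act_xor]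
    simp [Nat.xor_assoc, Nat.xor_left_comm]
  have hL : ∀ a b, comb L (a ^^^ b) = comb L a ^^^ comb L b := comb_xor L
  have hB : ∀ a b, comb Bs (a ^^^ b) = comb Bs a ^^^ comb Bs b := comb_xor Bs
  obtain ⟨c, hcn⟩ : ∃ c, c = comb ((List.range 11).map fun k => cs.getD k 0) n := ⟨_, rfl⟩
  have e : n = comb L (d n) ^^^ comb Bs c := by
    have h1 : units = (List.range 11).map fun k =>
        comb L (d (2 ^ k)) ^^^ comb Bs (cs.getD k 0) := by
      refine List.map_congr_left fun k hk => ?_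
      have := Nat.eq_of_beq_eq_true (List.all_eq_true.1 hc1 k hk)
      rw [actC_eq hx] at this
      simpa [hd] using this.symm
    have h2 : ∀ (l : List ℕ) (f g : ℕ → ℕ) (m : ℕ),
        comb (l.map fun k => f k ^^^ g k) m = comb (l.map f) m ^^^ comb (l.map g) m := by
      intro l f g
      induction l with
      | nil => intro m; simp [comb]
      | cons a l ih =>
        intro m
        simp only [List.map_cons, comb, ih]
        rcases Nat.mod_two_eq_zero_or_one m with h | h <;>
          simp [h, Nat.xor_assoc, Nat.xor_left_comm]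
    conv_lhs => rw [← comb_units hn, h1, h2]
    congr 1
    · have h3 := map_comb (f := fun m => comb L m) hL (units.map d) n
      rw [← map_comb hdx, comb_units hn] at h3
      rw [h3, units, List.map_map, List.map_map]
      rfl
    · rw [hcn, map_comb (f := fun m => comb Bs m) hB, List.map_map]
      rfl
  have hd0 : d n = 0 := by simp [hd, hf]
  rw [hd0, comb_zero, Nat.zero_xor] at e
  exact e.symm ▸ comb_mem_span Bs c

theorem prod_el {x s : ℕ} (hx : x < 192) (hs : s < 192) (hcomm : el x * el s = el s * el x) :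
    OctadSearch.prodAt x s < 192 ∧ el (OctadSearch.prodAt x s) = el x * el s ∧
      (x ≤ OctadSearch.prodAt x s → (OctadSearch.partner s).testBit x = true) := by
  have h := OctadChecks.row_ok hx
  rw [OctadChecks.rowOK, forceNat_eq] at h
  have h := List.all_eq_true.1 h s (List.mem_range.2 hs)
  simp only [forceNat_eq] at h
  generalize OctadSearch.prodAt x s = k at h
  cases hk : Nat.blt k 192
  · exfalso
    rw [hk, cond_false, OctadChecks.nonComm, List.any_eq_true] at h
    obtain ⟨p, hp, h⟩ := h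
    rw [List.mem_range] at hp
    rw [Bool.not_eq_true', ← Bool.not_eq_true] at h
    refine h ?_
    obtain ⟨q, rfl⟩ : ∃ q, (Golay.idx q).val = p := ⟨Golay.ptN p, Golay.idx_ptN hp⟩
    rw [getP_el hs, getP_el hx, getP_el hx, getP_el hs, ← Equiv.Perm.mul_apply,
      ← Equiv.Perm.mul_apply, hcomm]
    exact Nat.beq_refl _
  · rw [hk, cond_true, Bool.and_eq_true, Bool.or_eq_true] at h
    rw [Nat.blt, Nat.ble_eq] at hk
    refine ⟨hk, ptCoding.inj ?_, fun hle => h.2.resolve_left ?_⟩
    · rw [← ptCoding.mul_enc, enc_el hx, enc_el hs, enc_el hk]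
      exact (Nat.eq_of_beq_eq_true h.1).symm
    · rw [Nat.blt, Nat.ble_eq]
      omega

theorem surj_el {b : Equiv.Perm GolayPt} (hb : b ∈ syl) (h2 : b * b = 1) :
    ∃ i, i < 192 ∧ el i = b := by
  have h := List.all_eq_true.1 OctadChecks.codes_cover _ ((syl_lists.1 b).1 hb)
  rw [ptCoding.mul_enc, h2, ← ptCoding.one_enc, Nat.beq_refl, Bool.not_true, Bool.false_or,
    List.any_eq_true] at h
  obtain ⟨i, hi, e⟩ := h
  rw [List.mem_range] at hi
  exact ⟨i, hi, ptCoding.inj ((enc_el hi).trans (Nat.eq_of_beq_eq_true e))⟩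

/-- The classes fixed by a set of permutations. -/
def Fix (B : Subgroup (Equiv.Perm GolayPt)) : Set ℕ := {n | n < 2048 ∧ ∀ b ∈ B, act b n = n}

theorem search_result {B : Subgroup (Equiv.Perm GolayPt)} (hB : B ≤ syl)
    (hsq : ∀ b ∈ B, b * b = 1) (hne : B ≠ ⊥) (hbig : 1024 ≤ Nat.card ↥B * (Fix B).ncard) :
    (B : Set (Equiv.Perm GolayPt)) = el '' {s | s ∈ OctadData.found} := by
  have hcomm : ∀ a ∈ B, ∀ b ∈ B, a * b = b * a := by
    intro a ha b hb
    have h := hsq _ (mul_mem ha hb)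
    have ha' : a⁻¹ = a := inv_eq_of_mul_eq_one_right (hsq a ha)
    have hb' : b⁻¹ = b := inv_eq_of_mul_eq_one_right (hsq b hb)
    have h' := inv_eq_of_mul_eq_one_right h
    rw [mul_inv_rev, ha', hb'] at h'
    exact h'.symm
  refine OctadSearch.sound_top (el := el) (N := Fix B)
    ⟨el_zero, hcomm, hsq, fun b hb => surj_el (hB hb) (hsq b hb), ?_, ?_⟩
    (fun x h0 hx => OctadChecks.top_of h0 hx) hne hbig
  · exact fun x s hx hs hxB hsB => prod_el hx hs (hcomm _ hxB _ hsB)
  · exact fun x h0 hx hxB n hn => fixed_mem h0 hx hn.1 (hn.2 _ hxB)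

theorem found_conj : ∃ g₀ ∈ Cfsg.M24, ∀ σ,
    σ ∈ el '' {s | s ∈ OctadData.found} ↔ ∃ i, i < 16 ∧ g₀ * σ * g₀⁻¹ = oP i := by
  have key : ∀ j, j < 16 → OctadData.order.getD j 0 ∈ OctadData.found ∧
      Golay.toPerm OctadData.conjList * el (OctadData.order.getD j 0) *
        (Golay.toPerm OctadData.conjList)⁻¹ = oP j := by
    intro j hj
    have h := List.all_eq_true.1 OctadChecks.order_ok j (List.mem_range.2 hj)
    simp only [Bool.and_eq_true, List.contains_eq_mem, decide_eq_true_eq, beq_iff_eq] at h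
    obtain ⟨⟨⟨⟨h1, h2⟩, h3⟩, h4⟩, h5⟩ := h
    have hlt : OctadData.order.getD j 0 < 192 := by
      have := List.all_eq_true.1 OctadChecks.found_ok _ h5
      simp only [Bool.and_eq_true, decide_eq_true_eq] at this
      exact this.1
    refine ⟨h5, ?_⟩
    have hc := Golay.inM24.valid OctadChecks.conj_valid
    rw [← toPerm_codeList hlt h1, ← Golay.toPerm_mul hc h1 h3, h4,
      Golay.toPerm_mul h2 hc (h4 ▸ h3), mul_inv_cancel_right]
    rfl
  refine ⟨Golay.toPerm OctadData.conjList, Golay.toPerm_mem_M24 OctadChecks.conj_valid,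
    fun σ => ⟨?_, ?_⟩⟩
  · rintro ⟨s, hs, rfl⟩
    have := List.all_eq_true.1 OctadChecks.found_ok _ hs
    simp only [Bool.and_eq_true, List.any_eq_true, List.mem_range, beq_iff_eq] at this
    obtain ⟨-, j, hj, rfl⟩ := this
    exact ⟨j, hj, (key j hj).2⟩
  · rintro ⟨i, hi, e⟩
    rw [← (key i hi).2] at e
    exact ⟨_, (key i hi).1, (mul_left_cancel (mul_right_cancel e)).symm⟩

theorem exists_conj_le {B : Subgroup (Equiv.Perm GolayPt)} (hB : B ≤ Cfsg.M24)
    (hsq : ∀ b ∈ B, b * b = 1) : ∃ g ∈ Cfsg.M24, ∀ b ∈ B, g * b * g⁻¹ ∈ syl := by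
  have : Fact (Nat.Prime 2) := ⟨Nat.prime_two⟩
  have hfac : (Nat.card ↥Cfsg.M24).factorization 2 = 10 := by
    rw [Golay.card_M24, show (244823040 : ℕ) = 2 ^ 10 * 239085 by norm_num,
      Nat.factorization_mul (by norm_num) (by norm_num), Nat.Prime.factorization_pow Nat.prime_two,
      Finsupp.add_apply, Finsupp.single_eq_same,
      Nat.factorization_eq_zero_of_not_dvd (n := 239085) (p := 2) (by norm_num)]
  let P : Sylow 2 ↥Cfsg.M24 := Sylow.ofCard (syl.subgroupOf Cfsg.M24) (by
    rw [Nat.card_congr (Subgroup.subgroupOfEquivOfLe syl_gens.2).toEquiv, syl_lists.2.1, hfac])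
  have hp : IsPGroup 2 ↥(B.subgroupOf Cfsg.M24) := fun b => ⟨1, by
    refine Subtype.ext (Subtype.ext ?_)
    simpa [pow_two] using hsq _ (Subgroup.mem_subgroupOf.1 b.2)⟩
  obtain ⟨Q, hQ⟩ := hp.exists_le_sylow
  obtain ⟨g, rfl⟩ := MulAction.exists_smul_eq ↥Cfsg.M24 P Q
  refine ⟨(g⁻¹ : ↥Cfsg.M24).1, (g⁻¹ : ↥Cfsg.M24).2, fun b hb => ?_⟩
  have h := hQ (show (⟨b, hB hb⟩ : ↥Cfsg.M24) ∈ B.subgroupOf Cfsg.M24 from hb)
  rw [Sylow.coe_subgroup_smul, Subgroup.mem_pointwise_smul_iff_inv_smul_mem] at h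
  simpa [P, Subgroup.mem_subgroupOf, MulAut.smul_def] using h

theorem ncard_fix_conj {B : Subgroup (Equiv.Perm GolayPt)} (hB : B ≤ Cfsg.M24)
    {g : Equiv.Perm GolayPt} (hg : g ∈ Cfsg.M24) :
    (Fix B).ncard ≤ (Fix (B.map (MulAut.conj g).toMonoidHom)).ncard := by
  refine Set.ncard_le_ncard_of_injOn (act g) ?_ ?_
    ((Set.finite_lt_nat 2048).subset fun n hn => hn.1)
  · rintro n ⟨hn, hf⟩
    refine ⟨act_lt _ _, ?_⟩
    rintro _ ⟨b, hb, rfl⟩
    show act (g * b * g⁻¹) (act g n) = act g n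
    rw [act_mul (mul_mem hg (hB hb)), act_inv_act hg hn, act_mul hg, hf b hb]
  · exact fun a ha b hb e => act_injOn hg ha.1 hb.1 e

end Octad

open Octad in
/-- The octad groups are the only non-trivial elementary subgroups with so many fixed classes. -/
theorem octadUnique : OctadUniqueStmt := by
  intro B hB hsq hne hbig
  obtain ⟨g, hg, hgB⟩ := exists_conj_le hB hsq
  obtain ⟨B', hB'⟩ : ∃ B', B' = B.map (MulAut.conj g).toMonoidHom := ⟨_, rfl⟩
  have hset : (B' : Set (Equiv.Perm GolayPt)) = el '' {s | s ∈ OctadData.found} := by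
    refine search_result ?_ ?_ ?_ ?_
    · rw [hB']; rintro _ ⟨b, hb, rfl⟩
      exact hgB b hb
    · rw [hB']; rintro _ ⟨b, hb, rfl⟩
      rw [← map_mul, hsq b hb, map_one]
    · rw [hB', Ne, Subgroup.map_eq_bot_iff_of_injective _ (MulAut.conj g).injective]
      exact hne
    · rw [hB', Subgroup.card_map_of_injective (MulAut.conj g).injective]
      exact hbig.trans (Nat.mul_le_mul_left _ (ncard_fix_conj hB hg))
  obtain ⟨g₀, hg₀, h₀⟩ := found_conj
  refine ⟨g₀ * g, mul_mem hg₀ hg, fun σ => ?_⟩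
  have hiff : σ ∈ B ↔ g * σ * g⁻¹ ∈ B' := by
    rw [hB']
    exact ⟨fun h => ⟨σ, h, rfl⟩, fun ⟨b, hb, e⟩ =>
      (MulAut.conj g).injective (show MulAut.conj g b = MulAut.conj g σ from e) ▸ hb⟩
  rw [hiff, ← SetLike.mem_coe, hset, h₀]
  refine exists_congr fun i => and_congr_right fun _ => ?_
  simp only [mul_inv_rev, mul_assoc]

end Cfsg.Agent.Lib.J4Ten43
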