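import Cfsg.Agent.Lib.J4Ten43.Main
import Cfsg.Agent.Lib.J4Ten43.Compl
import Cfsg.Agent.Lib.J4Ten43.ModelBasic
import Cfsg.Agent.Lib.J4Ten43.ModelOrbits
import Cfsg.Agent.Lib.J4Ten43.OctadUnique
import Cfsg.Agent.Lib.J4Two56.Special
import Cfsg.Agent.Lib.J4Two56.Top
import Cfsg.Agent.Lib.J4Fusion14.Rows
import Cfsg.Agent.Lib.Golay.M24

/-!
# Groups of type J4: the self-centralising elementary subgroups of order `2 ^ 10`
-/

set_option autoImplicit false

universe u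

namespace Cfsg.Agent.Lib.J4Ten43

open Cfsg Cfsg.Agent.Lib Cfsg.Agent.Lib.J4Two56

variable {G : Type u} [Group G] [Finite G] [IsSimpleGroup G]

/-- The facts for a group of type J4. -/
theorem ten_of_type (hG : ¬ IsMulCommutative G) (hJ : IsOfJankoFourType G) :
    (∃ A : Subgroup G, Cfsg.IsElementaryAbelian 2 A ∧ Nat.card ↥A = 2 ^ 10 ∧
      Subgroup.centralizer (A : Set G) = A) ∧
    (∀ A A' : Subgroup G, Cfsg.IsElementaryAbelian 2 A → Nat.card ↥A = 2 ^ 10 →
      Subgroup.centralizer (A : Set G) = A → Cfsg.IsElementaryAbelian 2 A' → Nat.card ↥A' = 2 ^ 10 →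
      Subgroup.centralizer (A' : Set G) = A' → ∃ g : G, A' = A.map (MulAut.conj g).toMonoidHom) ∧
    ∀ A : Subgroup G, Cfsg.IsElementaryAbelian 2 A → Nat.card ↥A = 2 ^ 10 →
      Subgroup.centralizer (A : Set G) = A → Good A := by
  obtain ⟨z, P, hJP⟩ := hJ
  obtain ⟨D, X, L, l, ⟨S⟩, hD⟩ := exists_loc_split specStmt hG hJP
  exact ten_facts l.T S ⟨@cover, hD, Golay.card_M24, J4Fusion14.card_cH hJP, octadUnique, basicFacts,
    orbitFacts, compl⟩

end Cfsg.Agent.Lib.J4Ten43
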