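import Cfsg.Agent.Lib.J4Ten43.PluckerData

/-!
# Maps preserving decomposable bivectors come from the linear group
-/

set_option autoImplicit false
set_option maxRecDepth 100000

universe u

namespace Cfsg.Agent.Lib.J4Ten43

namespace Plucker

/-- A tabulated product. -/
def pw (x y : ℕ) : ℕ := (wTab.getD x []).getD y 0

/-- The lines through a point, as a mask. -/
def st (x : ℕ) : ℕ := stList.getD x 0

/-- The chosen second points of the lines through a point. -/
def reps (x : ℕ) : List ℕ := (List.range 32).filter fun y => decide (y ≠ 0) && decide (y < y ^^^ x)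

/-- The neighbours of the line through two points. -/
def nbr (x y : ℕ) : ℕ := st x ||| (st y ||| st (x ^^^ y))

/-- Membership of a mask. -/
def sub (A B : ℕ) : Bool := (A &&& B) == A

/-- The mask of a list. -/
def maskOf : List ℕ → ℕ
  | [] => 0
  | n :: l => 2 ^ n ||| maskOf l

theorem sub_spec {A B : ℕ} (h : sub A B = true) {n : ℕ} (hn : A.testBit n = true) : B.testBit n = true := by
  rw [sub, beq_iff_eq] at h
  rw [← h, Nat.testBit_and, Bool.and_eq_true] at hn
  exact hn.2

theorem maskOf_spec : ∀ {l : List ℕ} {n : ℕ}, (maskOf l).testBit n = true ↔ n ∈ l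
  | [], n => by simp [maskOf]
  | a :: l, n => by
    rw [maskOf, Nat.testBit_or, Bool.or_eq_true, Nat.testBit_two_pow, decide_eq_true_eq, maskOf_spec, List.mem_cons,
      eq_comm]

theorem tab_ok : ((List.range 32).all fun x => (List.range 32).all fun y => pw x y == wedge x y) = true := by
  decide +kernel

theorem st_ok : ((List.range 32).all fun x => decide (x = 0) || (st x == maskOf ((reps x).map (pw x)))) = true := by
  decide +kernel

theorem reps_ok : ((List.range 32).all fun x => decide (x = 0) ||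
    (decide ((reps x).length = 15) && decide ((reps x).map (pw x)).Nodup)) = true := by decide +kernel

theorem dec_ok : maskOf decList = decMask := by decide +kernel

theorem dec_line : (decList.all fun n => (List.range 32).any fun x => (reps x).any fun y => pw x y == n) = true := by
  decide +kernel

theorem star_dec : ((List.range 32).all fun x => decide (x = 0) || (reps x).all fun y =>
    decide (pw x y < 1024) && isDec (pw x y) &&
      (st y).testBit (pw x y) && (st (x ^^^ y)).testBit (pw x y) &&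
      (reps x).all fun y' => decide (y = y') || isDec (pw x y ^^^ pw x y')) = true := by decide +kernel

theorem nbr_ok : ((List.range 32).all fun x => decide (x = 0) || (reps x).all fun y =>
    !(decide (x < y) && decide (y < x ^^^ y)) ||
      decList.all fun n => !isDec (pw x y ^^^ n) || (nbr x y).testBit n) = true := by decide +kernel

theorem line_rep : (decList.all fun n => (List.range 32).any fun x => (reps x).any fun y =>
    decide (x ≠ 0) && decide (x < y) && decide (y < x ^^^ y) && (pw x y == n)) = true := by decide +kernel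

/-- The check on two lines through a point. -/
def pairOK (s u v : ℕ) : Bool :=
  let M := nbr s u &&& nbr s v
  let P := maskOf [pw s u, pw s v, pw s (u ^^^ v), pw u v, pw (s ^^^ u) v, pw u (s ^^^ v), pw (s ^^^ u) (s ^^^ v)]
  sub M (st s ||| maskOf [pw u v, pw (s ^^^ u) v, pw u (s ^^^ v), pw (s ^^^ u) (s ^^^ v)]) &&
    sub (nbr u v &&& M) P && sub (nbr (s ^^^ u) v &&& M) P && sub (nbr u (s ^^^ v) &&& M) P &&
    sub (nbr (s ^^^ u) (s ^^^ v) &&& M) P

theorem pairs_ok : ((List.range 32).all fun s => decide (s = 0) || (reps s).all fun u => (reps s).all fun v =>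
    !decide (u < v) || pairOK s u v) = true := by decide +kernel

/-- The least of the three points of a line. -/
def lo (p r : ℕ) : ℕ := min p (min r (p ^^^ r))

/-- The middle one. -/
def mid (p r : ℕ) : ℕ := lo p r ^^^ max p (max r (p ^^^ r))

theorem canon_ok : ((List.range 32).all fun p => (List.range 32).all fun r => decide (pw p r = 0) ||
    (decide (lo p r ≠ 0) && decide (mid p r ∈ reps (lo p r)) && decide (lo p r < mid p r) &&
      decide (mid p r < lo p r ^^^ mid p r) && decide (pw (lo p r) (mid p r) = pw p r) &&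
      decide (nbr (lo p r) (mid p r) = nbr p r) && (nbr p r).testBit (pw p r))) = true := by decide +kernel

theorem two_stars : ((List.range 32).all fun x => decide (x = 0) || (List.range 32).all fun y =>
    decide (y = 0) || decide (y = x) ||
      (decide (st x &&& st y = 2 ^ pw x y) && (List.range 32).all fun t =>
        !(st t).testBit (pw x y) || decide (t = x) || decide (t = y) || decide (t = x ^^^ y))) = true := by
  decide +kernel

theorem basis_ok : ((List.range 10).all fun k =>
    pw (2 ^ (pairList.getD k (0, 0)).1) (2 ^ (pairList.getD k (0, 0)).2) == 2 ^ k) = true := by decide +kernel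

theorem isDec_iff {n : ℕ} : isDec n = true ↔ n ∈ decList := by
  rw [isDec, ← dec_ok, maskOf_spec]

theorem mem_reps {x y : ℕ} : y ∈ reps x ↔ y < 32 ∧ y ≠ 0 ∧ y < y ^^^ x := by
  simp [reps]

theorem st_mem {x : ℕ} (hx : x < 32) (x0 : x ≠ 0) {n : ℕ} :
    (st x).testBit n = true ↔ ∃ y ∈ reps x, pw x y = n := by
  have h := List.all_eq_true.1 st_ok x (List.mem_range.2 hx)
  simp only [x0, decide_false, Bool.false_or, beq_iff_eq] at h
  rw [h, maskOf_spec, List.mem_map]

theorem star_props {x : ℕ} (hx : x < 32) (x0 : x ≠ 0) {n : ℕ} (hn : (st x).testBit n = true) :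
    n < 1024 ∧ isDec n = true ∧ ∀ m, (st x).testBit m = true → n = m ∨ isDec (n ^^^ m) = true := by
  have h := List.all_eq_true.1 star_dec x (List.mem_range.2 hx)
  simp only [x0, decide_false, Bool.false_or, List.all_eq_true, Bool.and_eq_true, Bool.or_eq_true, decide_eq_true_eq] at h
  obtain ⟨y, hy, rfl⟩ := (st_mem hx x0).1 hn
  refine ⟨(h y hy).1.1.1.1, (h y hy).1.1.1.2, fun m hm => ?_⟩
  obtain ⟨y', hy', rfl⟩ := (st_mem hx x0).1 hm
  exact ((h y hy).2 y' hy').imp (fun e => by rw [e]) id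

theorem nbr_gen {p r : ℕ} (hp : p < 32) (hr : r < 32) (h0 : pw p r ≠ 0) {n : ℕ} (hn : isDec n = true)
    (hadj : pw p r = n ∨ isDec (pw p r ^^^ n) = true) : (nbr p r).testBit n = true := by
  have h := List.all_eq_true.1 canon_ok p (List.mem_range.2 hp)
  simp only [List.all_eq_true, List.mem_range, Bool.or_eq_true, Bool.and_eq_true, decide_eq_true_eq] at h
  obtain ⟨⟨⟨⟨⟨⟨l0, hm⟩, hlm⟩, hm'⟩, he⟩, hnb⟩, hself⟩ := (h r hr).resolve_left h0
  rcases hadj with e | e
  · exact e ▸ hself
  have hl : lo p r < 32 := lt_of_le_of_lt (min_le_left _ _) hp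
  have h' := List.all_eq_true.1 nbr_ok (lo p r) (List.mem_range.2 hl)
  simp only [l0, decide_false, Bool.false_or, List.all_eq_true] at h'
  have h'' := h' (mid p r) hm
  simp only [hlm, hm', decide_true, Bool.and_self, Bool.not_true, Bool.false_or, List.all_eq_true] at h''
  have h3 := h'' n (isDec_iff.1 hn)
  rw [he, hnb, e, Bool.not_true, Bool.false_or] at h3
  exact h3

theorem not_dec_zero : isDec 0 = false := by decide +kernel

/-- A set of more than seven decomposable vectors, any two adjacent, lies in a star. -/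
theorem clique (K : Finset ℕ) (hK : 7 < K.card) (hd : ∀ n ∈ K, isDec n = true)
    (hadj : ∀ n ∈ K, ∀ m ∈ K, n = m ∨ isDec (n ^^^ m) = true) :
    ∃ s, s < 32 ∧ s ≠ 0 ∧ ∀ n ∈ K, (st s).testBit n = true := by
  have hnb : ∀ a, isDec a = true → ∃ x y, x < 32 ∧ x ≠ 0 ∧ y ∈ reps x ∧ pw x y = a ∧
      ∀ n, isDec n = true → isDec (a ^^^ n) = true → (nbr x y).testBit n = true := by
    intro a ha
    have h := List.all_eq_true.1 line_rep a (isDec_iff.1 ha)
    simp only [List.any_eq_true, List.mem_range, Bool.and_eq_true, decide_eq_true_eq, beq_iff_eq] at h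
    obtain ⟨x, hx, y, hy, ⟨⟨x0, hxy⟩, hxy'⟩, he⟩ := h
    refine ⟨x, y, hx, x0, hy, he, fun n hn hn' => ?_⟩
    have h' := List.all_eq_true.1 nbr_ok x (List.mem_range.2 hx)
    simp only [x0, decide_false, Bool.false_or, List.all_eq_true] at h'
    have h'' := h' y hy
    simp only [hxy, hxy', decide_true, Bool.and_self, Bool.not_true, Bool.false_or, List.all_eq_true] at h''
    have h3 := h'' n (isDec_iff.1 hn)
    rwa [he, hn', Bool.not_true, Bool.false_or] at h3
  obtain ⟨a, ha, b, hb, hab⟩ := Finset.one_lt_card.1 (by omega : 1 < K.card)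
  obtain ⟨x, y, hx, x0, hy, rfl, hn⟩ := hnb a (hd a ha)
  have hb' := hn b (hd b hb) ((hadj _ ha _ hb).resolve_left hab)
  have h0 := List.all_eq_true.1 star_dec x (List.mem_range.2 hx)
  simp only [x0, decide_false, Bool.false_or, List.all_eq_true, Bool.and_eq_true, decide_eq_true_eq] at h0
  obtain ⟨hy32, y0, hyx⟩ := mem_reps.1 hy
  have hxy32 : x ^^^ y < 32 := Nat.xor_lt_two_pow (n := 5) hx hy32
  have hne : x ≠ y := fun e => by
    rw [e, Nat.xor_self] at hyx
    omega
  -- a common point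
  obtain ⟨s, hs, s0, has, hbs⟩ : ∃ s, s < 32 ∧ s ≠ 0 ∧ (st s).testBit (pw x y) = true ∧ (st s).testBit b = true := by
    rw [nbr, Nat.testBit_or, Nat.testBit_or, Bool.or_eq_true, Bool.or_eq_true] at hb'
    rcases hb' with h | h | h
    · exact ⟨x, hx, x0, (st_mem hx x0).2 ⟨y, hy, rfl⟩, h⟩
    · exact ⟨y, hy32, y0, (h0 y hy).1.1.2, h⟩
    · exact ⟨x ^^^ y, hxy32, fun e => hne (Nat.xor_eq_zero_iff.1 e), (h0 y hy).1.2, h⟩
  obtain ⟨u, hu, hau⟩ := (st_mem hs s0).1 has
  obtain ⟨v, hv, rfl⟩ := (st_mem hs s0).1 hbs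
  rw [← hau] at ha hab
  clear hn hb' hau has
  -- neighbours through the point
  have nb : ∀ u ∈ reps s, ∀ n, isDec n = true → pw s u = n ∨ isDec (pw s u ^^^ n) = true →
      (nbr s u).testBit n = true := fun u hu n hn hadj' => by
    refine nbr_gen hs (mem_reps.1 hu).1 (fun e => ?_) hn hadj'
    have h := (star_props hs s0 ((st_mem hs s0).2 ⟨u, hu, e⟩)).2.1
    rw [not_dec_zero] at h
    cases h
  refine ⟨s, hs, s0, fun c hc => ?_⟩
  by_contra hcs
  have hM : ∀ u ∈ reps s, pw s u ∈ K → ∀ n ∈ K, (nbr s u).testBit n = true := fun u hu hK' n hn =>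
    nb u hu n (hd n hn) (hadj _ hK' n hn)
  have main : ∀ u ∈ reps s, ∀ v ∈ reps s, u < v → pw s u ∈ K → pw s v ∈ K → False := by
    intro u hu v hv huv haK hbK
    have h := List.all_eq_true.1 pairs_ok s (List.mem_range.2 hs)
    simp only [s0, decide_false, Bool.false_or, List.all_eq_true] at h
    have h' := h u hu v hv
    simp only [huv, decide_true, Bool.not_true, Bool.false_or, pairOK, Bool.and_eq_true] at h'
    obtain ⟨⟨⟨⟨hsub, k1⟩, k2⟩, k3⟩, k4⟩ := h'
    have hKM : ∀ n ∈ K, (nbr s u &&& nbr s v).testBit n = true := fun n hn => by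
      rw [Nat.testBit_and, hM u hu haK n hn, hM v hv hbK n hn]; rfl
    have hc4 := sub_spec hsub (hKM c hc)
    rw [Nat.testBit_or, Bool.or_eq_true, maskOf_spec] at hc4
    have hc4' := hc4.resolve_left hcs
    obtain ⟨hu32, u0, hus⟩ := mem_reps.1 hu
    obtain ⟨hv32, v0, hvs⟩ := mem_reps.1 hv
    have key : ∀ p r, p < 32 → r < 32 → pw p r = c →
        sub (nbr p r &&& (nbr s u &&& nbr s v)) (maskOf [pw s u, pw s v, pw s (u ^^^ v), pw u v, pw (s ^^^ u) v,
          pw u (s ^^^ v), pw (s ^^^ u) (s ^^^ v)]) = true → False := by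
      intro p r hp hr he hk
      have hsubK : K ⊆ ([pw s u, pw s v, pw s (u ^^^ v), pw u v, pw (s ^^^ u) v,
          pw u (s ^^^ v), pw (s ^^^ u) (s ^^^ v)] : List ℕ).toFinset := fun n hn => by
        refine List.mem_toFinset.2 (maskOf_spec.1 (sub_spec hk ?_))
        rw [Nat.testBit_and, hKM n hn, Bool.and_true]
        refine nbr_gen hp hr (fun e => ?_) (hd n hn) (he ▸ hadj c hc n hn)
        have h := hd c hc
        rw [← he, e, not_dec_zero] at h
        cases h
      have := (Finset.card_le_card hsubK).trans (List.toFinset_card_le _)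
      simp at this
      omega
    simp only [List.mem_cons, List.not_mem_nil, or_false] at hc4'
    have hsu : s ^^^ u < 32 := Nat.xor_lt_two_pow (n := 5) hs hu32
    have hsv : s ^^^ v < 32 := Nat.xor_lt_two_pow (n := 5) hs hv32
    rcases hc4' with e | e | e | e
    · exact key u v hu32 hv32 e.symm k1
    · exact key _ v hsu hv32 e.symm k2
    · exact key u _ hu32 hsv e.symm k3
    · exact key _ _ hsu hsv e.symm k4
  rcases lt_trichotomy u v with h | h | h
  · exact main u hu v hv h ha hb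
  · exact hab (by rw [h])
  · exact main v hv u hu h hb ha

theorem pw_eq {x y : ℕ} (hx : x < 32) (hy : y < 32) : pw x y = wedge x y := by
  have h := List.all_eq_true.1 tab_ok x (List.mem_range.2 hx)
  exact beq_iff_eq.1 (List.all_eq_true.1 h y (List.mem_range.2 hy))

theorem star_card {x : ℕ} (hx : x < 32) (x0 : x ≠ 0) :
    ((reps x).map (pw x)).toFinset.card = 15 := by
  have h := List.all_eq_true.1 reps_ok x (List.mem_range.2 hx)
  simp only [x0, decide_false, Bool.false_or, Bool.and_eq_true, decide_eq_true_eq] at h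
  rw [List.toFinset_card_of_nodup h.2, List.length_map, h.1]

theorem mem_star {x : ℕ} (hx : x < 32) (x0 : x ≠ 0) {n : ℕ} :
    n ∈ ((reps x).map (pw x)).toFinset ↔ (st x).testBit n = true := by
  rw [List.mem_toFinset, List.mem_map, st_mem hx x0]

theorem two {x y : ℕ} (hx : x < 32) (hy : y < 32) (x0 : x ≠ 0) (y0 : y ≠ 0) (hne : y ≠ x) :
    st x &&& st y = 2 ^ pw x y ∧
      ∀ t, t < 32 → (st t).testBit (pw x y) = true → t = x ∨ t = y ∨ t = x ^^^ y := by
  have h := List.all_eq_true.1 two_stars x (List.mem_range.2 hx)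
  simp only [x0, decide_false, Bool.false_or, List.all_eq_true, List.mem_range] at h
  have h' := h y hy
  simp only [y0, hne, decide_false, Bool.false_or, Bool.and_eq_true, decide_eq_true_eq, List.all_eq_true,
    List.mem_range, Bool.or_eq_true, Bool.not_eq_true'] at h'
  refine ⟨h'.1, fun t ht hb => ?_⟩
  rcases h'.2 t ht with ((e | e) | e) | e
  · rw [hb] at e; cases e
  · exact Or.inl e
  · exact Or.inr (Or.inl e)
  · exact Or.inr (Or.inr e)

theorem eq_of_both {x y : ℕ} (hx : x < 32) (hy : y < 32) (x0 : x ≠ 0) (y0 : y ≠ 0) (hne : y ≠ x) {n : ℕ}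
    (h1 : (st x).testBit n = true) (h2 : (st y).testBit n = true) : n = pw x y := by
  have h : (st x &&& st y).testBit n = true := by rw [Nat.testBit_and, h1, h2]; rfl
  rw [(two hx hy x0 y0 hne).1, Nat.testBit_two_pow, decide_eq_true_eq] at h
  exact h.symm

theorem self_mem {x y : ℕ} (hx : x < 32) (hy : y < 32) (x0 : x ≠ 0) (y0 : y ≠ 0) (hne : y ≠ x) :
    (st x).testBit (pw x y) = true ∧ (st y).testBit (pw x y) = true := by
  rw [← Bool.and_eq_true, ← Nat.testBit_and, (two hx hy x0 y0 hne).1, Nat.testBit_two_pow_self]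

theorem zero_pw : (List.range 32).all (fun x => (pw 0 x == 0) && (pw x 0 == 0) && (pw x x == 0)) = true := by
  decide +kernel

theorem pair_idx : ((List.range 10).all fun k =>
    decide ((pairList.getD k (0, 0)).1 < 5) && decide ((pairList.getD k (0, 0)).2 < 5)) = true := by decide +kernel

/-- The vector of a number. -/
def toVec (x : ℕ) : Fin 5 → ZMod 2 := fun i => if x.testBit i then 1 else 0

/-- The number of a vector. -/
def ofVec (w : Fin 5 → ZMod 2) : ℕ :=
  (if w 0 = 1 then 1 else 0) + (if w 1 = 1 then 2 else 0) + (if w 2 = 1 then 4 else 0) +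
    (if w 3 = 1 then 8 else 0) + if w 4 = 1 then 16 else 0

theorem ofVec_toVec {x : ℕ} (hx : x < 32) : ofVec (toVec x) = x := by
  revert x
  decide +kernel

theorem ofVec_lt (w : Fin 5 → ZMod 2) : ofVec w < 32 := by
  revert w
  decide +kernel

theorem toVec_ofVec (w : Fin 5 → ZMod 2) : toVec (ofVec w) = w := by
  revert w
  decide +kernel

theorem ofVec_zero : ofVec 0 = 0 := by decide +kernel

theorem toVec_xor (x y : ℕ) : toVec (x ^^^ y) = toVec x + toVec y := by
  funext i
  simp only [toVec, Pi.add_apply, Nat.testBit_xor]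
  cases x.testBit i <;> cases y.testBit i <;> decide

theorem ofVec_add (w w' : Fin 5 → ZMod 2) : ofVec (w + w') = ofVec w ^^^ ofVec w' := by
  have h := toVec_xor (ofVec w) (ofVec w')
  rw [toVec_ofVec, toVec_ofVec] at h
  rw [← h, ofVec_toVec (Nat.xor_lt_two_pow (n := 5) (ofVec_lt w) (ofVec_lt w'))]

section Action

variable {Q : Type u} [Group Q] (f : Q → ℕ → ℕ) (hlt : ∀ q n, n < 1024 → f q n < 1024)
  (hx : ∀ q a b, a < 1024 → b < 1024 → f q (a ^^^ b) = f q a ^^^ f q b)
  (hm : ∀ p q n, n < 1024 → f (p * q) n = f p (f q n)) (h1 : ∀ n, n < 1024 → f 1 n = n)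
  (hd : ∀ q n, n < 1024 → isDec n = true → isDec (f q n) = true)

include hlt hm h1 in
theorem f_inj (q : Q) {a b : ℕ} (ha : a < 1024) (hb : b < 1024) (h : f q a = f q b) : a = b := by
  have e : ∀ n, n < 1024 → f q⁻¹ (f q n) = n := fun n hn => by rw [← hm _ _ _ hn, inv_mul_cancel, h1 n hn]
  rw [← e a ha, ← e b hb, h]

include hlt hx hm h1 hd in
theorem star_image (q : Q) {x : ℕ} (hx32 : x < 32) (x0 : x ≠ 0) :
    ∃ s, s < 32 ∧ s ≠ 0 ∧ ∀ n, (st x).testBit n = true → (st s).testBit (f q n) = true := by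
  have hK : ((((reps x).map (pw x)).toFinset).image (f q)).card = 15 := by
    rw [Finset.card_image_of_injOn, star_card hx32 x0]
    intro a ha b hb e
    exact f_inj f hlt hm h1 q (star_props hx32 x0 ((mem_star hx32 x0).1 ha)).1
      (star_props hx32 x0 ((mem_star hx32 x0).1 hb)).1 e
  obtain ⟨s, hs, s0, h⟩ := clique _ (by rw [hK]; norm_num) (by
      intro n hn
      obtain ⟨a, ha, rfl⟩ := Finset.mem_image.1 hn
      obtain ⟨ha', hda, -⟩ := star_props hx32 x0 ((mem_star hx32 x0).1 ha)
      exact hd q a ha' hda) (by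
      intro n hn m hm'
      obtain ⟨a, ha, rfl⟩ := Finset.mem_image.1 hn
      obtain ⟨b, hb, rfl⟩ := Finset.mem_image.1 hm'
      obtain ⟨ha', -, hadj⟩ := star_props hx32 x0 ((mem_star hx32 x0).1 ha)
      obtain ⟨hb', -, -⟩ := star_props hx32 x0 ((mem_star hx32 x0).1 hb)
      rcases hadj b ((mem_star hx32 x0).1 hb) with e | e
      · exact Or.inl (by rw [e])
      · exact Or.inr (by rw [← hx q a b ha' hb']; exact hd q _ (Nat.xor_lt_two_pow (n := 10) ha' hb') e))
  exact ⟨s, hs, s0, fun n hn => h _ (Finset.mem_image.2 ⟨n, (mem_star hx32 x0).2 hn, rfl⟩)⟩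

include hlt hx hm h1 hd in
theorem star_unique (q : Q) {x s t : ℕ} (hx32 : x < 32) (x0 : x ≠ 0) (hs : s < 32) (s0 : s ≠ 0) (ht : t < 32)
    (t0 : t ≠ 0) (h₁ : ∀ n, (st x).testBit n = true → (st s).testBit (f q n) = true)
    (h₂ : ∀ n, (st x).testBit n = true → (st t).testBit (f q n) = true) : s = t := by
  by_contra hne
  obtain ⟨a, ha, b, hb, hab⟩ := Finset.one_lt_card.1 (by rw [star_card hx32 x0]; norm_num :
    1 < (((reps x).map (pw x)).toFinset).card)
  have ha' := (mem_star hx32 x0).1 ha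
  have hb' := (mem_star hx32 x0).1 hb
  exact hab (f_inj f hlt hm h1 q (star_props hx32 x0 ha').1 (star_props hx32 x0 hb').1
    ((eq_of_both hs ht s0 t0 (Ne.symm hne) (h₁ a ha') (h₂ a ha')).trans
      (eq_of_both hs ht s0 t0 (Ne.symm hne) (h₁ b hb') (h₂ b hb')).symm))

open scoped Classical in
/-- The map on points. -/
noncomputable def pt (q : Q) (x : ℕ) : ℕ :=
  if x = 0 then 0 else
    if h : ∃ s, s < 32 ∧ s ≠ 0 ∧ ∀ n, (st x).testBit n = true → (st s).testBit (f q n) = true then h.choose else 0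

include hlt hx hm h1 hd in
theorem pt_spec (q : Q) {x : ℕ} (hx32 : x < 32) (x0 : x ≠ 0) :
    pt f q x < 32 ∧ pt f q x ≠ 0 ∧ ∀ n, (st x).testBit n = true → (st (pt f q x)).testBit (f q n) = true := by
  classical
  have h := star_image f hlt hx hm h1 hd q hx32 x0
  simp only [pt, x0, if_false, dif_pos h]
  exact h.choose_spec

include hlt hx hm h1 hd in
theorem pt_lt (q : Q) {x : ℕ} (hx32 : x < 32) : pt f q x < 32 := by
  by_cases x0 : x = 0
  · simp [pt, x0]
  · exact (pt_spec f hlt hx hm h1 hd q hx32 x0).1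

include hlt hx hm h1 hd in
theorem pt_one {x : ℕ} (hx32 : x < 32) : pt f 1 x = x := by
  by_cases x0 : x = 0
  · simp [pt, x0]
  · obtain ⟨ha, hb, hc⟩ := pt_spec f hlt hx hm h1 hd 1 hx32 x0
    refine star_unique f hlt hx hm h1 hd 1 hx32 x0 ha hb hx32 x0 hc fun n hn => ?_
    rwa [h1 n (star_props hx32 x0 hn).1]

include hlt hx hm h1 hd in
theorem pt_mul (p q : Q) {x : ℕ} (hx32 : x < 32) : pt f (p * q) x = pt f p (pt f q x) := by
  by_cases x0 : x = 0
  · simp [pt, x0]
  · obtain ⟨ha, hb, hc⟩ := pt_spec f hlt hx hm h1 hd (p * q) hx32 x0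
    obtain ⟨ha', hb', hc'⟩ := pt_spec f hlt hx hm h1 hd q hx32 x0
    obtain ⟨ha'', hb'', hc''⟩ := pt_spec f hlt hx hm h1 hd p ha' hb'
    refine star_unique f hlt hx hm h1 hd (p * q) hx32 x0 ha hb ha'' hb'' hc fun n hn => ?_
    rw [hm p q n (star_props hx32 x0 hn).1]
    exact hc'' _ (hc' n hn)

include hlt hx hm h1 hd in
theorem pt_inv (q : Q) {x : ℕ} (hx32 : x < 32) : pt f q⁻¹ (pt f q x) = x := by
  rw [← pt_mul f hlt hx hm h1 hd q⁻¹ q hx32, inv_mul_cancel, pt_one f hlt hx hm h1 hd hx32]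

include hlt hx hm h1 hd in
theorem pt_line (q : Q) {x y : ℕ} (hx32 : x < 32) (hy32 : y < 32) :
    pt f q (x ^^^ y) = pt f q x ^^^ pt f q y ∧ f q (pw x y) = pw (pt f q x) (pt f q y) := by
  have h0 := List.all_eq_true.1 zero_pw
  have hf0 : f q 0 = 0 := by
    have h := hx q 0 0 (by norm_num) (by norm_num)
    rwa [Nat.xor_self, Nat.xor_self] at h
  have hlt' : ∀ {z}, z < 32 → pt f q z < 32 := fun hz => pt_lt f hlt hx hm h1 hd q hz
  have hz : ∀ {z}, z < 32 → (pw 0 z = 0 ∧ pw z 0 = 0) ∧ pw z z = 0 := fun {z} hz => by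
    simpa [Bool.and_eq_true] using h0 z (List.mem_range.2 hz)
  have hp0 : pt f q 0 = 0 := by simp [pt]
  by_cases x0 : x = 0
  · subst x0
    rw [Nat.zero_xor, hp0, Nat.zero_xor, (hz hy32).1.1, hf0, (hz (hlt' hy32)).1.1]
    exact ⟨rfl, rfl⟩
  by_cases y0 : y = 0
  · subst y0
    rw [Nat.xor_zero, hp0, Nat.xor_zero, (hz hx32).1.2, hf0, (hz (hlt' hx32)).1.2]
    exact ⟨rfl, rfl⟩
  by_cases hne : y = x
  · subst hne
    rw [Nat.xor_self, Nat.xor_self, hp0, (hz hx32).2, hf0, (hz (hlt' hx32)).2]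
    exact ⟨rfl, rfl⟩
  obtain ⟨ha, hb, hc⟩ := pt_spec f hlt hx hm h1 hd q hx32 x0
  obtain ⟨ha', hb', hc'⟩ := pt_spec f hlt hx hm h1 hd q hy32 y0
  have hxy : x ^^^ y < 32 := Nat.xor_lt_two_pow (n := 5) hx32 hy32
  have xy0 : x ^^^ y ≠ 0 := fun e => hne (Nat.xor_eq_zero_iff.1 e).symm
  obtain ⟨ha'', hb'', hc''⟩ := pt_spec f hlt hx hm h1 hd q hxy xy0
  have hinj : ∀ {a b}, a < 32 → b < 32 → pt f q a = pt f q b → a = b := fun ha hb e => by
    rw [← pt_inv f hlt hx hm h1 hd q ha, ← pt_inv f hlt hx hm h1 hd q hb, e]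
  have hne' : pt f q y ≠ pt f q x := fun e => hne (hinj hy32 hx32 e)
  obtain ⟨m1, m2⟩ := self_mem hx32 hy32 x0 y0 hne
  have hfa : f q (pw x y) = pw (pt f q x) (pt f q y) :=
    eq_of_both ha ha' hb hb' hne' (hc _ m1) (hc' _ m2)
  refine ⟨?_, hfa⟩
  have hn3 : (x ^^^ y) ≠ x := fun e => y0 (by
    have := congrArg (x ^^^ ·) e
    simpa [← Nat.xor_assoc] using this)
  have hn4 : (x ^^^ y) ≠ y := fun e => x0 (by
    have := congrArg (· ^^^ y) e
    simpa [Nat.xor_assoc] using this)
  have m3 : (st (x ^^^ y)).testBit (pw x y) = true := by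
    obtain ⟨n1, n2⟩ := self_mem hx32 hxy x0 xy0 hn3
    have hcn := two hx32 hxy x0 xy0 hn3
    obtain ⟨r, hr, he⟩ := (st_mem hx32 x0).1 m1
    obtain ⟨hr32, r0, hrx⟩ := mem_reps.1 hr
    have hd3 := List.all_eq_true.1 star_dec x (List.mem_range.2 hx32)
    simp only [x0, decide_false, Bool.false_or, List.all_eq_true, Bool.and_eq_true, decide_eq_true_eq] at hd3
    have hrne : r ≠ x := fun e => by rw [e, Nat.xor_self] at hrx; omega
    rcases (two hx32 hy32 x0 y0 hne).2 r hr32 (he ▸ (hd3 r hr).1.1.2) with e | e | e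
    · exact absurd e hrne
    · subst e; exact (hd3 r hr).1.2
    · subst e; exact he ▸ (hd3 _ hr).1.1.2
  have h3 := (two ha ha' hb hb' hne').2 _ ha'' (hfa ▸ hc'' _ m3)
  rcases h3 with e | e | e
  · exact absurd (hinj hxy hx32 e) hn3
  · exact absurd (hinj hxy hy32 e) hn4
  · exact e

/-- The linear map on points. -/
noncomputable def lin (q : Q) (hadd : ∀ x y, x < 32 → y < 32 → pt f q (x ^^^ y) = pt f q x ^^^ pt f q y) :
    (Fin 5 → ZMod 2) →ₗ[ZMod 2] (Fin 5 → ZMod 2) :=
  AddMonoidHom.toZModLinearMap 2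
    { toFun := fun w => toVec (pt f q (ofVec w))
      map_zero' := by
        rw [ofVec_zero, show pt f q 0 = 0 by simp [pt]]
        funext i; simp [toVec]
      map_add' := fun w w' => by
        rw [ofVec_add, hadd _ _ (ofVec_lt w) (ofVec_lt w'), toVec_xor] }

include hlt hx hm h1 hd in
theorem exists_psi : ∃ ψ : Q →* Matrix.SpecialLinearGroup (Fin 5) (ZMod 2),
    ∀ q, ψ q = 1 → ∀ n, n < 1024 → f q n = n := by
  classical
  have hadd : ∀ (q : Q) x y, x < 32 → y < 32 → pt f q (x ^^^ y) = pt f q x ^^^ pt f q y :=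
    fun q x y hx' hy' => (pt_line f hlt hx hm h1 hd q hx' hy').1
  obtain ⟨L, hL⟩ : ∃ L : Q → ((Fin 5 → ZMod 2) →ₗ[ZMod 2] (Fin 5 → ZMod 2)),
      ∀ q w, L q w = toVec (pt f q (ofVec w)) := ⟨fun q => lin f q (hadd q), fun q w => rfl⟩
  have hmul : ∀ p q, L (p * q) = (L p).comp (L q) := fun p q => LinearMap.ext fun w => by
    rw [LinearMap.comp_apply, hL, hL, hL, ofVec_toVec (pt_lt f hlt hx hm h1 hd q (ofVec_lt w)),
      pt_mul f hlt hx hm h1 hd p q (ofVec_lt w)]
  have hone : L 1 = LinearMap.id := LinearMap.ext fun w => by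
    rw [hL, pt_one f hlt hx hm h1 hd (ofVec_lt w), toVec_ofVec]; rfl
  have hdet : ∀ q, (LinearMap.toMatrix' (L q)).det = 1 := fun q => by
    have h : LinearMap.toMatrix' (L q) * LinearMap.toMatrix' (L q⁻¹) = 1 := by
      rw [← LinearMap.toMatrix'_comp, ← hmul, mul_inv_cancel, hone, LinearMap.toMatrix'_id]
    have h' := congrArg Matrix.det h
    rw [Matrix.det_mul, Matrix.det_one] at h'
    revert h'
    generalize (LinearMap.toMatrix' (L q)).det = a
    generalize (LinearMap.toMatrix' (L q⁻¹)).det = b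
    revert a b
    decide
  refine ⟨MonoidHom.mk' (fun q => ⟨LinearMap.toMatrix' (L q), hdet q⟩) fun p q => Subtype.ext ?_, fun q hq => ?_⟩
  · show LinearMap.toMatrix' (L (p * q)) = LinearMap.toMatrix' (L p) * LinearMap.toMatrix' (L q)
    rw [hmul, LinearMap.toMatrix'_comp]
  · have hid : L q = LinearMap.id := LinearMap.toMatrix'.injective (by
      rw [LinearMap.toMatrix'_id]; exact congrArg Subtype.val hq)
    have hpt : ∀ x, x < 32 → pt f q x = x := fun x hx' => by
      have h := congrArg ofVec (congrArg (fun F : (Fin 5 → ZMod 2) →ₗ[ZMod 2] (Fin 5 → ZMod 2) => F (toVec x)) hid)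
      rw [hL, LinearMap.id_apply, ofVec_toVec hx', ofVec_toVec (pt_lt f hlt hx hm h1 hd q hx')] at h
      exact h
    have hbas : ∀ k, k < 10 → f q (2 ^ k) = 2 ^ k := fun k hk => by
      have hi := List.all_eq_true.1 pair_idx k (List.mem_range.2 hk)
      simp only [Bool.and_eq_true, decide_eq_true_eq] at hi
      have hi1 : 2 ^ (pairList.getD k (0, 0)).1 < 32 := Nat.pow_lt_pow_right one_lt_two hi.1
      have hi2 : 2 ^ (pairList.getD k (0, 0)).2 < 32 := Nat.pow_lt_pow_right one_lt_two hi.2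
      have hb := beq_iff_eq.1 (List.all_eq_true.1 basis_ok k (List.mem_range.2 hk))
      rw [← hb, (pt_line f hlt hx hm h1 hd q hi1 hi2).2, hpt _ hi1, hpt _ hi2]
    suffices h : ∀ k, k ≤ 10 → ∀ n, n < 2 ^ k → f q n = n from fun n hn => h 10 le_rfl n hn
    intro k
    induction k with
    | zero =>
      intro _ n hn
      obtain rfl : n = 0 := by simpa using hn
      have h := hx q 0 0 (by norm_num) (by norm_num)
      rwa [Nat.xor_self, Nat.xor_self] at h
    | succ k ih =>
      intro hk n hn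
      by_cases hlt' : n < 2 ^ k
      · exact ih (by omega) n hlt'
      have h2 : (n ^^^ 2 ^ k) < 2 ^ k := by
        refine Nat.lt_pow_two_of_testBit _ fun i hi => ?_
        rw [Nat.testBit_xor, Nat.testBit_two_pow]
        rcases Nat.eq_or_lt_of_le hi with rfl | hi'
        · rw [Nat.testBit_eq_decide_div_mod_eq]
          have : n / 2 ^ k = 1 := Nat.div_eq_of_lt_le (by omega) (by rw [pow_succ] at hn; omega)
          simp [this]
        · rw [Nat.testBit_lt_two_pow (lt_of_lt_of_le hn (Nat.pow_le_pow_right (by norm_num) hi'))]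
          simp [Nat.ne_of_lt hi']
      have hle : 2 ^ k ≤ 512 := Nat.pow_le_pow_right (by norm_num) (show k ≤ 9 by omega)
      calc f q n = f q ((n ^^^ 2 ^ k) ^^^ 2 ^ k) := by rw [Nat.xor_assoc, Nat.xor_self, Nat.xor_zero]
        _ = (n ^^^ 2 ^ k) ^^^ 2 ^ k := by
          rw [hx q _ _ (by omega) (by omega), ih (by omega) _ h2, hbas k (by omega)]
        _ = n := by rw [Nat.xor_assoc, Nat.xor_self, Nat.xor_zero]

end Action

end Plucker

/-- An action on the exterior square keeping the decomposable vectors comes from the linear group. -/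
theorem plucker : PluckerStmt.{u} := fun _ _ f hlt hx hm h1 hd => Plucker.exists_psi f hlt hx hm h1 hd

end Cfsg.Agent.Lib.J4Ten43
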