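import Cfsg.Agent.Lib.J4Ten43.Count
import Cfsg.Agent.Lib.J4Ten43.Plucker
import Cfsg.Agent.Lib.Gaschutz
import Mathlib.LinearAlgebra.Matrix.GeneralLinearGroup.Card

/-!
# The normaliser of the subgroup of order `2 ^ 10`
-/

set_option autoImplicit false

universe u

namespace Cfsg.Agent.Lib.J4Ten43

open Cfsg Cfsg.Agent.Lib Cfsg.Agent.Lib.J4Two56
open scoped Pointwise

/-- `SL(5,2)` has at most `9999360` members. -/
theorem card_sl5_le : Nat.card (Matrix.SpecialLinearGroup (Fin 5) (ZMod 2)) ≤ 9999360 := by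
  have h : Nat.card (GL (Fin 5) (ZMod 2)) = 9999360 := by
    rw [Matrix.card_GL_field, ZMod.card, Fin.prod_univ_five]
    rfl
  rw [← h]
  exact Nat.card_le_card_of_injective _ Matrix.SpecialLinearGroup.toGL_injective

/-- What is proved about a self-centralising elementary subgroup of order `2 ^ 10`. -/
structure Good {G : Type u} [Group G] (A : Subgroup G) : Prop where
  split : ∃ K : Subgroup G, K ≤ Subgroup.normalizer (A : Set G) ∧ K ⊓ A = ⊥ ∧
    K ⊔ A = Subgroup.normalizer (A : Set G) ∧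
    Nonempty (↥K ≃* Matrix.SpecialLinearGroup (Fin 5) (ZMod 2))
  irred : ∀ W : Subgroup G, W ≤ A →
    Subgroup.normalizer (A : Set G) ≤ Subgroup.normalizer (W : Set G) → W = ⊥ ∨ W = A
  orbit : ∃ a b : G, a ∈ A ∧ b ∈ A ∧ (orb (Subgroup.normalizer (A : Set G)) a).ncard = 155 ∧
    (orb (Subgroup.normalizer (A : Set G)) b).ncard = 868

theorem good_map {G : Type u} [Group G] {A : Subgroup G} (hA : Good A) (g : G) :
    Good (A.map (MulAut.conj g).toMonoidHom) := by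
  obtain ⟨⟨K, h1, h2, h3, ⟨e⟩⟩, hirr, a, b, ha, hb, hac, hbc⟩ := hA
  have hinj : Function.Injective (MulAut.conj g).toMonoidHom := (MulAut.conj g).injective
  refine ⟨⟨K.map (MulAut.conj g).toMonoidHom, ?_, ?_, ?_, ⟨(conjIso K g).symm.trans e⟩⟩, ?_,
    g * a * g⁻¹, g * b * g⁻¹, ⟨a, ha, rfl⟩, ⟨b, hb, rfl⟩, ?_, ?_⟩
  · rw [normalizer_map_conj]
    exact Subgroup.map_mono h1
  · rw [← Subgroup.map_inf _ _ _ hinj, h2, Subgroup.map_bot]
  · rw [← Subgroup.map_sup, h3, normalizer_map_conj]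
  · intro W hW hWN
    obtain ⟨W₀, hW₀⟩ : ∃ W₀, W₀ = W.map (MulAut.conj g⁻¹).toMonoidHom := ⟨_, rfl⟩
    have hback : W = W₀.map (MulAut.conj g).toMonoidHom := by
      ext x
      rw [hW₀, mem_map_conj, mem_map_conj]
      simp [mul_assoc]
    have hW₀A : W₀ ≤ A := by
      intro x hx
      rw [hW₀, mem_map_conj] at hx
      have := mem_map_conj.1 (hW hx)
      simpa [mul_assoc] using this
    have hN₀ : Subgroup.normalizer (A : Set G) ≤ Subgroup.normalizer (W₀ : Set G) := by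
      intro x hx
      have h' : g * x * g⁻¹ ∈ Subgroup.normalizer
          ((A.map (MulAut.conj g).toMonoidHom : Subgroup G) : Set G) := by
        rw [normalizer_map_conj]; exact ⟨x, hx, rfl⟩
      have h'' := hWN h'
      rw [hback, normalizer_map_conj, mem_map_conj] at h''
      simpa [mul_assoc] using h''
    rcases hirr W₀ hW₀A hN₀ with h | h <;> rw [hback, h]
    · exact Or.inl (Subgroup.map_bot _)
    · exact Or.inr rfl
  · rw [orb, normalizer_map_conj, setOf_orbit_conj,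
      Set.ncard_image_of_injective _ (conj_injective g)]
    exact hac
  · rw [orb, normalizer_map_conj, setOf_orbit_conj,
      Set.ncard_image_of_injective _ (conj_injective g)]
    exact hbc

variable {G : Type u} [Group G] [Finite G] {z : G} (T : Todd G z) (S : Split56 G z T)

open scoped Classical in
/-- The coordinate of a member. -/
noncomputable def idx (x : G) : ℕ :=
  if h : ∃ n, n < 1024 ∧ co T S n = x then h.choose else 0

theorem good_tenSub (h : Hyp T) : Good (tenSub T S h.basic) := by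
  classical
  have B := h.basic
  obtain ⟨htype, ⟨q0, hq0, hq⟩, ⟨d0, hd0, hd⟩, hirr, hbound⟩ := two_orbits T S h
  refine ⟨?_, hirr, q0, d0, hq0, hd0, hq, hd⟩
  obtain ⟨A, hA⟩ : ∃ A, A = tenSub T S B := ⟨_, rfl⟩
  rw [show tenSub T S h.basic = A from hA.symm] at hbound ⊢
  set N := Subgroup.normalizer (A : Set G) with hN
  have hidx : ∀ n, n < 1024 → idx T S (co T S n) = n := by
    intro n hn
    have hex : ∃ m, m < 1024 ∧ co T S m = co T S n := ⟨n, hn, rfl⟩
    rw [idx, dif_pos hex]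
    exact co_inj B hex.choose_spec.1 hn hex.choose_spec.2
  have hcj : ∀ (q : ↥N) {n}, n < 1024 →
      ∃ m, m < 1024 ∧ (q : G) * co T S n * (q : G)⁻¹ = co T S m := by
    intro q n hn
    have h1 := (Subgroup.mem_normalizer_iff.1 q.2 (co T S n)).1 (hA ▸ co_mem T S B hn)
    rw [hA] at h1
    obtain ⟨m, hm, he⟩ := h1
    exact ⟨m, hm, he.symm⟩
  obtain ⟨f, hf⟩ : ∃ f : ↥N → ℕ → ℕ, ∀ q n,
      f q n = toPlucker (idx T S ((q : G) * co T S (ofPlucker n) * (q : G)⁻¹)) :=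
    ⟨_, fun _ _ => rfl⟩
  have hfm : ∀ (q : ↥N) {n}, n < 1024 →
      ∃ m, m < 1024 ∧ (q : G) * co T S (ofPlucker n) * (q : G)⁻¹ = co T S m ∧ f q n = toPlucker m := by
    intro q n hn
    obtain ⟨m, hm, he⟩ := hcj q (h.orbit.ofP_lt n hn)
    exact ⟨m, hm, he, by rw [hf, he, hidx m hm]⟩
  obtain ⟨ψ, hψ⟩ := plucker ↥N f
    (fun q n hn => by
      obtain ⟨m, hm, -, he⟩ := hfm q hn
      exact he ▸ h.orbit.toP_lt m hm)
    (fun q a b ha hb => by
      obtain ⟨ma, hma, hea, hfa⟩ := hfm q ha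
      obtain ⟨mb, hmb, heb, hfb⟩ := hfm q hb
      obtain ⟨m, hm, he, hfab⟩ := hfm q (Nat.xor_lt_two_pow (n := 10) ha hb)
      have hxor : ofPlucker (a ^^^ b) = ofPlucker a ^^^ ofPlucker b := by
        have h1 := h.orbit.toP_xor _ _ (h.orbit.ofP_lt a ha) (h.orbit.ofP_lt b hb)
        rw [h.orbit.toP_ofP a ha, h.orbit.toP_ofP b hb] at h1
        rw [← h1, h.orbit.ofP_toP _ (Nat.xor_lt_two_pow (n := 10) (h.orbit.ofP_lt a ha) (h.orbit.ofP_lt b hb))]
      rw [hxor, co_xor B (h.orbit.ofP_lt a ha) (h.orbit.ofP_lt b hb)] at he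
      have e : co T S m = co T S (ma ^^^ mb) := by
        rw [co_xor B hma hmb, ← hea, ← heb, ← he]
        group
      rw [hfab, hfa, hfb, co_inj B hm (Nat.xor_lt_two_pow (n := 10) hma hmb) e,
        h.orbit.toP_xor ma mb hma hmb])
    (fun p q n hn => by
      obtain ⟨m, hm, he, hfq⟩ := hfm q hn
      obtain ⟨m', hm', he', hfp⟩ := hfm p (h.orbit.toP_lt m hm)
      obtain ⟨m'', hm'', he'', hfpq⟩ := hfm (p * q) hn
      rw [h.orbit.ofP_toP m hm] at he'
      have e : co T S m'' = co T S m' := by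
        rw [← he', ← he, ← he'', Subgroup.coe_mul]
        group
      rw [hfpq, hfq, hfp, co_inj B hm'' hm' e])
    (fun n hn => by
      rw [hf, Subgroup.coe_one, inv_one, one_mul, mul_one, hidx _ (h.orbit.ofP_lt n hn),
        h.orbit.toP_ofP n hn])
    (fun q n hn hdec => by
      obtain ⟨m, hm, he, hfq⟩ := hfm q hn
      have hn0 : ofPlucker n ≠ 0 := fun h0 => by
        have : n = toPlucker 0 := by rw [← h0, h.orbit.toP_ofP n hn]
        rw [this] at hdec
        exact absurd hdec (by decide +kernel)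
      have hz1 : IsConj z (co T S (ofPlucker n)) :=
        (htype _ (h.orbit.ofP_lt n hn) hn0).2 (by rw [h.orbit.toP_ofP n hn]; exact hdec)
      have hm0 : m ≠ 0 := fun h0 => by
        rw [h0, co_zero B] at he
        exact hn0 (co_inj B (h.orbit.ofP_lt n hn) (by norm_num)
          ((conj_eq_one_iff.1 he).trans (co_zero B).symm))
      rw [hfq]
      exact (htype m hm hm0).1 (hz1.trans (isConj_iff.2 ⟨_, he⟩)))
  have hker : ψ.ker ≤ A.subgroupOf N := by
    intro q hq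
    rw [Subgroup.mem_subgroupOf, hA, ← tenSub_self_cent T S B h.centD, Subgroup.mem_centralizer_iff]
    rintro _ ⟨k, hk, rfl⟩
    obtain ⟨m, hm, he, hfq⟩ := hfm q (h.orbit.toP_lt k hk)
    rw [h.orbit.ofP_toP k hk] at he
    have hfix := hψ q (MonoidHom.mem_ker.1 hq) (toPlucker k) (h.orbit.toP_lt k hk)
    rw [hfq] at hfix
    have hmk : m = k := by rw [← h.orbit.ofP_toP m hm, hfix, h.orbit.ofP_toP k hk]
    rw [hmk] at he
    exact (mul_inv_eq_iff_eq_mul.1 he).symm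
  have hAN : A ≤ N := Subgroup.le_normalizer
  have hcA : Nat.card ↥(A.subgroupOf N) = 1024 := by
    rw [Nat.card_congr (Subgroup.subgroupOfEquivOfLe hAN).toEquiv, hA, card_tenSub]
    norm_num
  have h1 : Nat.card ↥ψ.ker * Nat.card ↥ψ.range = Nat.card ↥N := by
    rw [← Subgroup.index_ker]
    exact ψ.ker.card_mul_index
  have h2 : Nat.card ↥ψ.ker ≤ 1024 := hcA ▸ Subgroup.card_le_of_le hker
  have h3 : Nat.card ↥ψ.range ≤ 9999360 :=
    le_trans (Subgroup.card_le_card_group _) card_sl5_le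
  have hkc : Nat.card ↥ψ.ker = 1024 := by
    by_contra hne
    have hlt := Nat.mul_le_mul (show Nat.card ↥ψ.ker ≤ 1023 by omega) h3
    omega
  have hrc : Nat.card ↥ψ.range = 9999360 := by
    rw [hkc] at h1
    omega
  have hcN : Nat.card ↥N = 1024 * 9999360 := by rw [← h1, hkc, hrc]
  have hkerA : ψ.ker = A.subgroupOf N :=
    Subgroup.eq_of_le_of_card_ge hker (by rw [hcA, hkc])
  have hsurj : Function.Surjective ψ := MonoidHom.range_eq_top.1
    (Subgroup.eq_top_of_le_card _ (hrc ▸ card_sl5_le))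
  -- the complement
  obtain ⟨H, hHc, hH1, hHmem, hHmul, hHA⟩ := h.compl
  let fH : ↥H → ↥N := fun p => ⟨pr T S p.1.1 p.1.2,
    by rw [hN, hA]; exact pr_mem_norm T S B (hHmem _ p.2).1 (hHmem _ p.2).2⟩
  have hfH : Function.Injective fH := by
    rintro ⟨⟨σ, v⟩, hp⟩ ⟨⟨τ, w⟩, hq'⟩ he
    obtain ⟨e1, e2⟩ := pr_inj T S (hHmem _ hp).1.1 (hHmem _ hq').1.1 (hHmem _ hp).2.1
      (hHmem _ hq').2.1 (congrArg Subtype.val he)
    subst e1 e2
    rfl
  let H' : Submonoid ↥N :=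
    { carrier := Set.range fH
      one_mem' := ⟨⟨((1 : Equiv.Perm GolayPt), 0), hH1⟩, Subtype.ext (by
        show pr T S 1 0 = 1
        rw [pr, kL_one, T.el_zero, one_mul])⟩
      mul_mem' := by
        rintro _ _ ⟨⟨p, hp⟩, rfl⟩ ⟨⟨q', hq'⟩, rfl⟩
        refine ⟨⟨sMul p q', hHmul p hp q' hq'⟩, Subtype.ext ?_⟩
        show pr T S (sMul p q').1 (sMul p q').2 = pr T S p.1 p.2 * pr T S q'.1 q'.2
        rw [pr_mul T S (hHmem _ hp).1.1 (hHmem _ hq').1.1 (hHmem _ hp).2.1 (hHmem _ hq').2.1]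
        rfl }
  obtain ⟨A', hA'⟩ : ∃ A', A' = A.subgroupOf N := ⟨_, rfl⟩
  obtain ⟨P, hP⟩ : ∃ P : Subgroup ↥N, P.toSubmonoid = H' := by
    refine ⟨{ H' with inv_mem' := fun {x} hx => ?_ }, rfl⟩
    show x⁻¹ ∈ H'
    have e : x⁻¹ = x ^ (orderOf x - 1) := inv_eq_of_mul_eq_one_left (by
      rw [← pow_succ, Nat.sub_add_cancel (orderOf_pos x), pow_orderOf_eq_one])
    rw [e]
    exact pow_mem hx _
  have hPmem : ∀ x, x ∈ P ↔ x ∈ Set.range fH := fun x => by
    rw [← Subgroup.mem_toSubmonoid, hP]; rfl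
  have hPc : Nat.card ↥P = 1024 := by
    rw [show Nat.card ↥P = (P : Set ↥N).ncard from Nat.card_coe_set_eq _,
      show (P : Set ↥N) = Set.range fH from Set.ext hPmem, ← Nat.card_coe_set_eq,
      Nat.card_range_of_injective hfH, Nat.card_eq_finsetCard, hHc]
  have hAn : A'.Normal := hA' ▸ hkerA ▸ MonoidHom.normal_ker ψ
  have hAc : IsMulCommutative ↥A' := by
    refine ⟨⟨fun x y => Subtype.ext (Subtype.ext ?_)⟩⟩
    have hx : ((x : ↥N) : G) ∈ tenSub T S B := hA ▸ (Subgroup.mem_subgroupOf.1 (hA' ▸ x.2))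
    have hy : ((y : ↥N) : G) ∈ tenSub T S B := hA ▸ (Subgroup.mem_subgroupOf.1 (hA' ▸ y.2))
    have hc := congrArg Subtype.val ((tenSub_elementary T S B).1.is_comm.comm ⟨_, hx⟩ ⟨_, hy⟩)
    show ((x : ↥N) : G) * ((y : ↥N) : G) = ((y : ↥N) : G) * ((x : ↥N) : G)
    exact hc
  have hPA : P ⊓ A' = ⊥ := by
    rw [_root_.eq_bot_iff]
    rintro x ⟨hxP, hxA⟩
    obtain ⟨⟨⟨σ, v⟩, hp⟩, rfl⟩ := (hPmem x).1 hxP
    have h' : pr T S σ v ∈ tenSub T S B := hA ▸ (Subgroup.mem_subgroupOf.1 (hA' ▸ hxA))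
    obtain ⟨n, hn, he⟩ := h'
    obtain ⟨e1, e2⟩ := pr_inj T S (B.oP_mem _ (div_lt hn)) (hHmem _ hp).1.1
      (B.cOf_lt _ (Nat.mod_lt _ (by norm_num))) (hHmem _ hp).2.1 he
    subst e1 e2
    obtain ⟨i0, c0⟩ := hHA _ _ (div_lt hn) (Nat.mod_lt _ (by norm_num)) hp
    refine Subgroup.mem_bot.2 (Subtype.ext ?_)
    show pr T S (oP (n / 64)) (cOf (n % 64)) = 1
    rw [i0, c0, B.oP_zero, cOf_zero_of_basic B, pr, kL_one, T.el_zero, one_mul]
  obtain ⟨U, hU⟩ : ∃ U, U = A' ⊔ P := ⟨_, rfl⟩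
  have hcA' : Nat.card ↥A' = 1024 := hA' ▸ hcA
  have hUc : Nat.card ↥U = 1024 * 1024 := by
    have e : (U : Set ↥N) = (A' : Set ↥N) * (P : Set ↥N) := by rw [hU, Subgroup.normal_mul]
    let g : ↥A' × ↥P → ↥U := fun p => ⟨p.1 * p.2, by
      rw [← SetLike.mem_coe, e]; exact ⟨_, p.1.2, _, p.2.2, rfl⟩⟩
    have hg : Function.Bijective g := by
      refine ⟨fun a b he => ?_, fun x => ?_⟩
      · have he' : (a.1 : ↥N) * a.2 = b.1 * b.2 := congrArg Subtype.val he
        have hm : (b.1 : ↥N)⁻¹ * a.1 ∈ P ⊓ A' := by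
          refine Subgroup.mem_inf.2 ⟨?_, mul_mem (inv_mem b.1.2) a.1.2⟩
          have : (b.1 : ↥N)⁻¹ * a.1 = b.2 * (a.2 : ↥N)⁻¹ := by
            rw [eq_mul_inv_iff_mul_eq, mul_assoc, he']
            group
          exact this ▸ mul_mem b.2.2 (inv_mem a.2.2)
        rw [hPA, Subgroup.mem_bot, inv_mul_eq_one] at hm
        refine Prod.ext (Subtype.ext hm.symm) (Subtype.ext ?_)
        rw [hm] at he'
        exact mul_left_cancel he'
      · have hx : (x : ↥N) ∈ (A' : Set ↥N) * (P : Set ↥N) := e ▸ x.2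
        obtain ⟨a, ha, b, hb, hab⟩ := hx
        exact ⟨(⟨a, ha⟩, ⟨b, hb⟩), Subtype.ext hab⟩
    rw [← Nat.card_eq_of_bijective g hg, Nat.card_prod, hcA', hPc]
  have hUi : U.index = 9765 := by
    have := U.card_mul_index
    rw [hUc, hcN] at this
    omega
  obtain ⟨H0, hH0⟩ := Gaschutz.exists_complement A' U (hU ▸ le_sup_left)
    (by rw [hcA', hUi]; norm_num) P (hU ▸ le_sup_right) hPA hU.symm
  refine ⟨H0.map N.subtype, ?_, ?_, ?_, ⟨?_⟩⟩
  · exact Subgroup.map_subtype_le _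
  · rw [_root_.eq_bot_iff]
    rintro _ ⟨⟨x, hx, rfl⟩, hxA⟩
    have hm : x ∈ A' ⊓ H0 := ⟨hA' ▸ Subgroup.mem_subgroupOf.2 hxA, hx⟩
    rw [hH0.disjoint.eq_bot, Subgroup.mem_bot] at hm
    rw [hm]
    exact Subgroup.mem_bot.2 rfl
  · refine le_antisymm (sup_le (Subgroup.map_subtype_le _) hAN) fun x hx => ?_
    obtain ⟨⟨a, b⟩, hab⟩ := hH0.2 ⟨x, hx⟩
    have ha : ((a : ↥N) : G) ∈ A := Subgroup.mem_subgroupOf.1 (hA' ▸ a.2)
    have e : ((a : ↥N) : G) * ((b : ↥N) : G) = x := congrArg Subtype.val hab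
    rw [← e]
    exact mul_mem (Subgroup.mem_sup_right ha) (Subgroup.mem_sup_left ⟨b, b.2, rfl⟩)
  · have hb : Function.Bijective (ψ.comp H0.subtype) := by
      refine ⟨(injective_iff_map_eq_one _).2 fun x hx => ?_, fun y => ?_⟩
      · have hm : (x : ↥N) ∈ A' ⊓ H0 := ⟨hA' ▸ hkerA ▸ MonoidHom.mem_ker.2 hx, x.2⟩
        rw [hH0.disjoint.eq_bot, Subgroup.mem_bot] at hm
        exact Subtype.ext hm
      · obtain ⟨x, rfl⟩ := hsurj y
        obtain ⟨⟨a, b⟩, hab⟩ := hH0.2 x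
        refine ⟨b, ?_⟩
        have ha : ψ a = 1 := MonoidHom.mem_ker.1 (hkerA ▸ hA' ▸ a.2)
        show ψ b = ψ x
        rw [← hab, map_mul, ha, one_mul]
    exact (Subgroup.equivMapOfInjective H0 _ N.subtype_injective).symm.trans (MulEquiv.ofBijective _ hb)

/-- **The self-centralising elementary subgroups of order `2 ^ 10`.** -/
theorem ten_facts (S : Split56 G z T) (h : Hyp T) :
    (∃ A : Subgroup G, Cfsg.IsElementaryAbelian 2 A ∧ Nat.card ↥A = 2 ^ 10 ∧
      Subgroup.centralizer (A : Set G) = A) ∧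
    (∀ A A' : Subgroup G, Cfsg.IsElementaryAbelian 2 A → Nat.card ↥A = 2 ^ 10 →
      Subgroup.centralizer (A : Set G) = A → Cfsg.IsElementaryAbelian 2 A' → Nat.card ↥A' = 2 ^ 10 →
      Subgroup.centralizer (A' : Set G) = A' → ∃ g : G, A' = A.map (MulAut.conj g).toMonoidHom) ∧
    ∀ A : Subgroup G, Cfsg.IsElementaryAbelian 2 A → Nat.card ↥A = 2 ^ 10 →
      Subgroup.centralizer (A : Set G) = A → Good A := by
  have hconj := fun (A : Subgroup G) hA hc hs =>
    conj_tenSub T S h.basic h.octad h.cover h.centD h.cM h.cH (X := A) hA hc hs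
  refine ⟨⟨tenSub T S h.basic, tenSub_elementary T S h.basic, card_tenSub T S h.basic,
    tenSub_self_cent T S h.basic h.centD⟩, ?_, ?_⟩
  · intro A A' hA hc hs hA' hc' hs'
    obtain ⟨g, hg⟩ := hconj A hA hc hs
    obtain ⟨g', hg'⟩ := hconj A' hA' hc' hs'
    refine ⟨g'⁻¹ * g, ?_⟩
    ext x
    rw [mem_map_conj]
    have e : ∀ {y}, y ∈ A' ↔ g' * y * g'⁻¹ ∈ tenSub T S h.basic := fun {y} => by
      rw [← hg', mem_map_conj]; simp [mul_assoc]
    rw [e, ← hg, mem_map_conj]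
    simp [mul_assoc]
  · intro A hA hc hs
    obtain ⟨g, hg⟩ := hconj A hA hc hs
    have := good_map (good_tenSub T S h) g⁻¹
    rw [← hg] at this
    convert this using 1
    ext x
    rw [mem_map_conj, mem_map_conj]
    simp [mul_assoc]

end Cfsg.Agent.Lib.J4Ten43
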