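import Cfsg.Agent.Lib.Compute.Perm
import Cfsg.Agent.Lib.J4Ten43.OctadData
import Mathlib

/-!
# A search through the elementary subgroups of a numbered set of involutions

The subgroups are visited by their greedy bases: the next member is the least one outside the span so far,
so it is not later than its products with the span.  A node carries the span, the list of the points fixed
by it and the possible next members.
-/

set_option autoImplicit false

namespace Cfsg.Agent.Lib.J4Ten43.OctadSearch

open Cfsg.Agent.Lib.Compute (forceNat forceNat_eq getP)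

/-- An entry of a table cut in pieces of sixteen. -/
def getT {α : Type} (T : List (List α)) (d : α) (i : ℕ) : α := (T.getD (i / 16) []).getD (i % 16) d

/-- The number of a product. -/
noncomputable def prodAt (x s : ℕ) : ℕ := getP 8 (getT OctadData.prods 0 x) s

/-- The members not later than their product with `s`. -/
def partner (s : ℕ) : ℕ := getT OctadData.partners 0 s

/-- The classes fixed by `x`. -/
def mask (x : ℕ) : ℕ := getT OctadData.masks 0 x

/-- The certificate of the fixed classes. -/
def cert (x : ℕ) : List ℕ × List ℕ × List ℕ := getT OctadData.certs ([], [], []) x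

/-- The combinations of a list. -/
def spanList : List ℕ → List ℕ
  | [] => [0]
  | b :: l => spanList l ++ (spanList l).map fun v => b ^^^ v

/-- Map with evaluation of the values. -/
noncomputable def withMap {α : Type} (f : ℕ → ℕ) : List ℕ → (List ℕ → α) → α
  | [], k => k []
  | a :: l, k => forceNat (f a) fun b => withMap f l fun r => k (b :: r)

theorem withMap_eq {α : Type} (f : ℕ → ℕ) : ∀ (l : List ℕ) (k : List ℕ → α),
    withMap f l k = k (l.map f)
  | [], _ => rfl
  | a :: l, k => by rw [withMap, forceNat_eq, withMap_eq f l]; rfl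

/-- A test on every member together with its successors. -/
def tailsAll (f : ℕ → List ℕ → Bool) : List ℕ → Bool
  | [] => true
  | x :: r => f x r && tailsAll f r

theorem tailsAll_split (f : ℕ → List ℕ → Bool) : ∀ {l : List ℕ}, tailsAll f l = true →
    ∀ {p : List ℕ} {x : ℕ} {r : List ℕ}, l = p ++ x :: r → f x r = true
  | [], _, p, x, r, e => by simp at e
  | a :: l, h, p, x, r, e => by
    rw [tailsAll, Bool.and_eq_true] at h
    rcases p with - | ⟨b, p⟩
    · rw [List.nil_append, List.cons.injEq] at e
      obtain ⟨rfl, rfl⟩ := e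
      exact h.1
    · rw [List.cons_append, List.cons.injEq] at e
      exact tailsAll_split f h.2 e.2

/-- The test at a node. -/
def okNode (S F : List ℕ) : Bool :=
  Nat.blt (S.length * F.length) 1024 || S == OctadData.found

/-- The search below a node. -/
noncomputable def search : ℕ → List ℕ → List ℕ → List ℕ → Bool
  | 0, _, _, _ => false
  | k + 1, S, F, C => okNode S F &&
      tailsAll (fun x r => withMap (prodAt x) S fun T =>
        search k (S ++ T) (F.filter fun n => (mask x).testBit n)
          (r.filter fun y => T.all fun t => (partner t).testBit y)) C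

/-- The search below an element. -/
noncomputable def top (x : ℕ) : Bool :=
  search 8 [0, x] (spanList (cert x).2.1)
    ((List.range' (x + 1) (191 - x)).filter fun y => (partner x).testBit y)

section Sound

variable {G : Type*} [Group G] (el : ℕ → G) (B : Subgroup G) (N : Set ℕ)

/-- What the tables say about `B` and about a set `N` of points fixed by `B`. -/
structure Facts : Prop where
  el_zero : el 0 = 1
  comm : ∀ a ∈ B, ∀ b ∈ B, a * b = b * a
  sq : ∀ b ∈ B, b * b = 1
  surj : ∀ b ∈ B, ∃ i, i < 192 ∧ el i = b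
  prod : ∀ x s, x < 192 → s < 192 → el x ∈ B → el s ∈ B →
    prodAt x s < 192 ∧ el (prodAt x s) = el x * el s ∧
      (x ≤ prodAt x s → (partner s).testBit x = true)
  fixed : ∀ x, 0 < x → x < 192 → el x ∈ B → ∀ n ∈ N,
    n ∈ spanList (cert x).2.1 ∧ (mask x).testBit n = true

/-- The state of a node. -/
structure Node (S F C : List ℕ) : Prop where
  zero : 0 ∈ S
  mem : ∀ s ∈ S, s < 192 ∧ el s ∈ B
  closed : ∀ s ∈ S, ∀ t ∈ S, ∃ u ∈ S, el u = el s * el t
  fix : ∀ n ∈ N, n ∈ F
  sorted : C.Pairwise (· < ·)
  cand : ∀ y, y < 192 → el y ∈ B → el y ∉ el '' {s | s ∈ S} → (∀ s ∈ S, y ≤ prodAt y s) → y ∈ C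

variable {el B N}

theorem sound (h : Facts el B N) : ∀ (k : ℕ) (S F C : List ℕ), search k S F C = true →
    Node el B N S F C → 1024 ≤ Nat.card ↥B * N.ncard →
    (B : Set G) = el '' {s | s ∈ OctadData.found}
  | 0, _, _, _, e, _, _ => by simp [search] at e
  | k + 1, S, F, C, e, hn, hbig => by
    classical
    rw [search, Bool.and_eq_true] at e
    obtain ⟨hok, hch⟩ := e
    by_cases hex : ∃ y, y < 192 ∧ el y ∈ B ∧ el y ∉ el '' {s | s ∈ S}
    · obtain ⟨hx, hxB, hxS⟩ := Nat.find_spec hex
      generalize hxe : Nat.find hex = x at hx hxB hxS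
      have hmin : ∀ y, y < 192 → el y ∈ B → el y ∉ el '' {s | s ∈ S} → x ≤ y := fun y h1 h2 h3 =>
        hxe ▸ Nat.find_min' hex ⟨h1, h2, h3⟩
      have hx0 : 0 < x := Nat.pos_of_ne_zero fun e0 => hxS ⟨0, hn.zero, by rw [e0]⟩
      have hle : ∀ s ∈ S, x ≤ prodAt x s := fun s hs => by
        obtain ⟨p1, p2, -⟩ := h.prod x s hx (hn.mem s hs).1 hxB (hn.mem s hs).2
        refine hmin _ p1 (p2 ▸ mul_mem hxB (hn.mem s hs).2) ?_
        rintro ⟨u, hu, eu⟩
        obtain ⟨v, hv, ev⟩ := hn.closed u hu s hs
        refine hxS ⟨v, hv, ?_⟩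
        rw [ev, eu, p2, mul_assoc, h.sq _ (hn.mem s hs).2, mul_one]
      obtain ⟨p, r, hC⟩ := List.append_of_mem (hn.cand x hx hxB hxS hle)
      have hc := tailsAll_split _ hch hC
      rw [withMap_eq] at hc
      refine sound h k _ _ _ hc ?_ hbig
      have hel : ∀ s ∈ S, prodAt x s < 192 ∧ el (prodAt x s) = el x * el s := fun s hs =>
        ⟨(h.prod x s hx (hn.mem s hs).1 hxB (hn.mem s hs).2).1,
          (h.prod x s hx (hn.mem s hs).1 hxB (hn.mem s hs).2).2.1⟩
      refine ⟨List.mem_append_left _ hn.zero, fun s hs => ?_, fun s hs t ht => ?_,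
        fun n hnN => List.mem_filter.2 ⟨hn.fix n hnN, (h.fixed x hx0 hx hxB n hnN).2⟩, ?_, ?_⟩
      · rcases List.mem_append.1 hs with hs | hs
        · exact hn.mem s hs
        · obtain ⟨u, hu, rfl⟩ := List.mem_map.1 hs
          exact ⟨(hel u hu).1, (hel u hu).2 ▸ mul_mem hxB (hn.mem u hu).2⟩
      · rcases List.mem_append.1 hs with hs | hs <;> rcases List.mem_append.1 ht with ht | ht
        · obtain ⟨u, hu, eu⟩ := hn.closed s hs t ht
          exact ⟨u, List.mem_append_left _ hu, eu⟩
        · obtain ⟨t, ht', rfl⟩ := List.mem_map.1 ht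
          obtain ⟨u, hu, eu⟩ := hn.closed s hs t ht'
          refine ⟨prodAt x u, List.mem_append_right _ (List.mem_map.2 ⟨u, hu, rfl⟩), ?_⟩
          rw [(hel u hu).2, (hel t ht').2, eu, ← mul_assoc, ← mul_assoc,
            h.comm _ hxB _ (hn.mem s hs).2]
        · obtain ⟨s, hs', rfl⟩ := List.mem_map.1 hs
          obtain ⟨u, hu, eu⟩ := hn.closed s hs' t ht
          refine ⟨prodAt x u, List.mem_append_right _ (List.mem_map.2 ⟨u, hu, rfl⟩), ?_⟩
          rw [(hel u hu).2, (hel s hs').2, eu, mul_assoc]
        · obtain ⟨t, ht', rfl⟩ := List.mem_map.1 ht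
          obtain ⟨s, hs', rfl⟩ := List.mem_map.1 hs
          obtain ⟨u, hu, eu⟩ := hn.closed s hs' t ht'
          refine ⟨u, List.mem_append_left _ hu, ?_⟩
          rw [(hel s hs').2, (hel t ht').2, eu, h.comm _ hxB _ (hn.mem s hs').2,
            mul_assoc (el s) (el x), ← mul_assoc (el x) (el x), h.sq _ hxB, one_mul]
      · have hs := hn.sorted
        rw [hC] at hs
        exact ((List.pairwise_append.1 hs).2.1.of_cons).filter _
      · intro y hy hyB hyS hyle
        have hxy : x ≤ y := hmin y hy hyB fun ⟨u, hu, eu⟩ =>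
          hyS ⟨u, List.mem_append_left _ hu, eu⟩
        have hne : x ≠ y := fun exy => hyS ⟨prodAt x 0,
          List.mem_append_right _ (List.mem_map.2 ⟨0, hn.zero, rfl⟩),
          by rw [(hel 0 hn.zero).2, h.el_zero, mul_one, exy]⟩
        have hyC := hn.cand y hy hyB (fun ⟨u, hu, eu⟩ => hyS ⟨u, List.mem_append_left _ hu, eu⟩)
          fun s hs => hyle s (List.mem_append_left _ hs)
        refine List.mem_filter.2 ⟨?_, List.all_eq_true.2 fun t ht => ?_⟩
        · have hs := hn.sorted
          rw [hC] at hs hyC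
          rcases List.mem_append.1 hyC with hp | hp
          · have := (List.pairwise_append.1 hs).2.2 y hp x List.mem_cons_self
            omega
          · exact (List.mem_cons.1 hp).resolve_left (Ne.symm hne)
        · obtain ⟨u, hu, eu⟩ := List.mem_map.1 ht
          have ht1 : t < 192 := eu ▸ (hel u hu).1
          have ht2 : el t ∈ B := by rw [← eu, (hel u hu).2]; exact mul_mem hxB (hn.mem u hu).2
          exact (h.prod y t hy ht1 hyB ht2).2.2 (hyle t (List.mem_append_right _ ht))
    · push Not at hex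
      have hB : (B : Set G) = el '' {s | s ∈ S} := by
        refine Set.Subset.antisymm (fun b hb => ?_) ?_
        · obtain ⟨i, hi, rfl⟩ := h.surj b hb
          exact hex i hi hb
        · rintro _ ⟨s, hs, rfl⟩
          exact (hn.mem s hs).2
      have hcard : Nat.card ↥B ≤ S.length := by
        have e1 : (B : Set G) = ↑(S.toFinset.image el) := by
          rw [hB]; ext; simp
        rw [← SetLike.coe_sort_coe, Nat.card_coe_set_eq, e1, Set.ncard_coe_finset]
        exact Finset.card_image_le.trans S.toFinset_card_le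
      have hN : N.ncard ≤ F.length := by
        refine (Set.ncard_le_ncard (t := (F.toFinset : Set ℕ))
          (fun n hnN => List.mem_toFinset.2 (hn.fix n hnN)) (Finset.finite_toSet _)).trans ?_
        rw [Set.ncard_coe_finset]
        exact F.toFinset_card_le
      have := Nat.mul_le_mul hcard hN
      rw [okNode, Bool.or_eq_true] at hok
      rcases hok with hok | hok
      · rw [Nat.blt, Nat.ble_eq] at hok
        omega
      · rw [hB, eq_of_beq hok]

theorem sound_top (h : Facts el B N) (htop : ∀ x, 0 < x → x < 192 → top x = true)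
    (hne : B ≠ ⊥) (hbig : 1024 ≤ Nat.card ↥B * N.ncard) :
    (B : Set G) = el '' {s | s ∈ OctadData.found} := by
  classical
  have hex : ∃ y, y < 192 ∧ el y ∈ B ∧ el y ≠ 1 := by
    obtain ⟨b, hb, hb1⟩ := Subgroup.bot_or_exists_ne_one B |>.resolve_left hne
    obtain ⟨i, hi, rfl⟩ := h.surj b hb
    exact ⟨i, hi, hb, hb1⟩
  obtain ⟨hx, hxB, hx1⟩ := Nat.find_spec hex
  generalize hxe : Nat.find hex = x at hx hxB hx1
  have hmin : ∀ y, y < 192 → el y ∈ B → el y ≠ 1 → x ≤ y := fun y h1 h2 h3 =>
    hxe ▸ Nat.find_min' hex ⟨h1, h2, h3⟩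
  have hx0 : 0 < x := Nat.pos_of_ne_zero fun e0 => hx1 (e0 ▸ h.el_zero)
  refine sound h _ _ _ _ (htop x hx0 hx) ⟨by simp, ?_, ?_, fun n hn => (h.fixed x hx0 hx hxB n hn).1,
    List.Pairwise.filter _ List.pairwise_lt_range', ?_⟩ hbig
  · simp only [List.mem_cons, List.not_mem_nil, or_false, forall_eq_or_imp, forall_eq]
    exact ⟨⟨by norm_num, h.el_zero ▸ one_mem _⟩, hx, hxB⟩
  · simp only [List.mem_cons, List.not_mem_nil, or_false, forall_eq_or_imp, forall_eq,
      exists_eq_or_imp, exists_eq_left, h.el_zero, mul_one, one_mul, h.sq _ hxB]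
    simp
  · intro y hy hyB hyS hyle
    have hy1 : el y ≠ 1 := fun e1 => hyS ⟨0, by simp, by rw [h.el_zero, e1]⟩
    have hne' : x ≠ y := fun exy => hyS ⟨x, by simp, by rw [exy]⟩
    have := hmin y hy hyB hy1
    refine List.mem_filter.2 ⟨List.mem_range'_1.2 ⟨by omega, by omega⟩, ?_⟩
    exact (h.prod y x hy hx hyB hxB).2.2 (hyle x (by simp))

end Sound

end Cfsg.Agent.Lib.J4Ten43.OctadSearch
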