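import Mathlib

/-!
# Decomposable vectors of the exterior square of the five-dimensional binary space
-/

set_option autoImplicit false

universe u

namespace Cfsg.Agent.Lib.J4Ten43

/-- The index pairs, in the order of the binary digits. -/
def pairList : List (ℕ × ℕ) := [(0, 1), (0, 2), (0, 3), (0, 4), (1, 2), (1, 3), (1, 4), (2, 3), (2, 4), (3, 4)]

/-- The wedge of two vectors, both coded below 32, coded below 1024. -/
def wedge (x y : ℕ) : ℕ :=
  (List.range 10).foldr (fun k r =>
    (if ((x.testBit (pairList.getD k (0, 0)).1 && y.testBit (pairList.getD k (0, 0)).2) !=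
        (x.testBit (pairList.getD k (0, 0)).2 && y.testBit (pairList.getD k (0, 0)).1))
      then 2 ^ k else 0) ||| r) 0

/-- The non-zero decomposable vectors. -/
def decMask : ℕ := 0x1881248100002841000000001441428100000000818182410000000041414821000084210000000088110000441100001221000021210000221100001111600990090000000000000000a00550050000000006090909000000000a05050500000000000000000069009900a50055c00330030c03030300c30033000ffffe

/-- Being a non-zero decomposable vector. -/
def isDec (n : ℕ) : Bool := Nat.testBit decMask n

/-- An action on the exterior square keeping the decomposable vectors comes from the linear group. -/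
def PluckerStmt : Prop :=
  ∀ (Q : Type u) [Group Q] (f : Q → ℕ → ℕ), (∀ q n, n < 1024 → f q n < 1024) →
    (∀ q a b, a < 1024 → b < 1024 → f q (a ^^^ b) = f q a ^^^ f q b) →
    (∀ p q n, n < 1024 → f (p * q) n = f p (f q n)) → (∀ n, n < 1024 → f 1 n = n) →
    (∀ q n, n < 1024 → isDec n = true → isDec (f q n) = true) →
    ∃ ψ : Q →* Matrix.SpecialLinearGroup (Fin 5) (ZMod 2),
      ∀ q, ψ q = 1 → ∀ n, n < 1024 → f q n = n

end Cfsg.Agent.Lib.J4Ten43
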