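import Cfsg.Agent.Lib.J4Ten43.Model
import Cfsg.Agent.Lib.J4Ten43.Wedge

/-!
# Statements passed between the parts
-/

set_option autoImplicit false

namespace Cfsg.Agent.Lib.J4Ten43

open Cfsg Cfsg.Agent.Lib Cfsg.Agent.Lib.J4Two56

/-- The octad groups are the only non-trivial elementary 2-subgroups `B` of `M24` with
`|B| * |fixed classes| ≥ 1024`. -/
def OctadUniqueStmt : Prop :=
  ∀ B : Subgroup (Equiv.Perm GolayPt), B ≤ Cfsg.M24 → (∀ b ∈ B, b * b = 1) → B ≠ ⊥ →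
    1024 ≤ Nat.card ↥B * Set.ncard {n : ℕ | n < 2048 ∧ ∀ b ∈ B, act b n = n} →
    ∃ g ∈ Cfsg.M24, ∀ σ, σ ∈ B ↔ ∃ i, i < 16 ∧ g * σ * g⁻¹ = oP i

end Cfsg.Agent.Lib.J4Ten43
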