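import Cfsg.Agent.Lib.J4Ten43.Stmts
import Mathlib.Logic.Relation

/-!
# Statements about the coordinates of the subgroup of order `2 ^ 10`
-/

set_option autoImplicit false

namespace Cfsg.Agent.Lib.J4Ten43

open Cfsg Cfsg.Agent.Lib Cfsg.Agent.Lib.J4Two56

/-- A member of the stabiliser of the octad group and of its fixed classes. -/
def OStab (σ : Equiv.Perm GolayPt) : Prop :=
  σ ∈ Cfsg.M24 ∧ (∀ i, i < 16 → ∃ j, j < 16 ∧ σ * oP i * σ⁻¹ = oP j) ∧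
    ∀ c, c < 64 → ∃ c', c' < 64 ∧ act σ (cOf c) = cOf c'

/-- A class moved by the octad group only into its fixed classes. -/
def VTwo (v : ℕ) : Prop :=
  v < 2048 ∧ ∀ i, i < 16 → ∃ c, c < 64 ∧ act (oP i) v ^^^ v = cOf c

/-- One step of conjugation inside the normaliser of the coordinate subgroup. -/
def Move (n m : ℕ) : Prop :=
  n < 1024 ∧ m < 1024 ∧
    ((∃ σ, OStab σ ∧ σ * oP (n / 64) * σ⁻¹ = oP (m / 64) ∧ act σ (cOf (n % 64)) = cOf (m % 64)) ∨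
      (∃ v, VTwo v ∧ m / 64 = n / 64 ∧ act (oP (n / 64)) v ^^^ v ^^^ cOf (n % 64) = cOf (m % 64)))

/-- The elementary facts about the model. -/
structure BasicFacts : Prop where
  oP_mem : ∀ i, i < 16 → oP i ∈ Cfsg.M24
  oP_zero : oP 0 = 1
  oP_xor : ∀ i j, i < 16 → j < 16 → oP (i ^^^ j) = oP i * oP j
  oP_inj : ∀ i j, i < 16 → j < 16 → oP i = oP j → i = j
  cOf_lt : ∀ c, c < 64 → cOf c < 2048
  cOf_xor : ∀ a b, a < 64 → b < 64 → cOf (a ^^^ b) = cOf a ^^^ cOf b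
  cOf_inj : ∀ a b, a < 64 → b < 64 → cOf a = cOf b → a = b
  fix_cOf : ∀ i c, i < 16 → c < 64 → act (oP i) (cOf c) = cOf c
  fix_only : ∀ n, n < 2048 → (∀ i, i < 16 → act (oP i) n = n) → ∃ c, c < 64 ∧ cOf c = n
  pointwise : ∀ σ, σ ∈ Cfsg.M24 → (∀ c, c < 64 → act σ (cOf c) = cOf c) → ∃ i, i < 16 ∧ oP i = σ
  exists_isD : ∃ c, c < 64 ∧ isD (cOf c) = true
  exists_isQ : ∃ c, c < 64 ∧ IsQ (cOf c)
  card_vTwo : Set.ncard {v | VTwo v} = 1024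
  card_stab : 322560 ≤ Set.ncard {σ | OStab σ}
  /-- A correction making commuting lifts of the octad group lie over its fixed classes. -/
  cocycle : ∀ δ : ℕ → ℕ, (∀ i, i < 16 → δ i < 2048 ∧ act (oP i) (δ i) = δ i) →
    (∀ i j, i < 16 → j < 16 → act (oP j) (δ i) ^^^ δ i = act (oP i) (δ j) ^^^ δ j) →
    (∀ i j, i < 16 → j < 16 → ∃ c, c < 64 ∧ δ (i ^^^ j) = act (oP j) (δ i) ^^^ δ j ^^^ cOf c) →
    ∃ v, v < 2048 ∧ ∀ i, i < 16 → ∃ c, c < 64 ∧ δ i ^^^ act (oP i) v ^^^ v = cOf c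

/-- The orbits on the non-zero coordinates, and their Plücker types. -/
structure OrbitFacts : Prop where
  exists_cl : ∃ (cl : ℕ → ℕ) (rep : ℕ → ℕ),
    (∀ n, n < 1024 → n ≠ 0 → cl n < 4 ∧ Relation.ReflTransGen Move (rep (cl n)) n ∧
      Relation.ReflTransGen Move n (rep (cl n))) ∧
    (∀ c, c < 64 → c ≠ 0 → ((cl c = 0 ∧ isD (cOf c) = true) ∨ (cl c = 1 ∧ isD (cOf c) = false))) ∧
    (∀ n, 64 ≤ n → n < 1024 → cl n = 2 ∨ cl n = 3) ∧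
    Set.ncard {n | n < 1024 ∧ n ≠ 0 ∧ cl n = 0} = 28 ∧
    Set.ncard {n | n < 1024 ∧ n ≠ 0 ∧ cl n = 1} = 35 ∧
    Set.ncard {n | n < 1024 ∧ n ≠ 0 ∧ cl n = 2} = 120 ∧
    Set.ncard {n | n < 1024 ∧ n ≠ 0 ∧ cl n = 3} = 840 ∧
    (∀ n, n < 1024 → n ≠ 0 → (isDec (toPlucker n) = true ↔ cl n = 1 ∨ cl n = 2))
  toP_lt : ∀ n, n < 1024 → toPlucker n < 1024
  toP_xor : ∀ a b, a < 1024 → b < 1024 → toPlucker (a ^^^ b) = toPlucker a ^^^ toPlucker b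
  ofP_toP : ∀ n, n < 1024 → ofPlucker (toPlucker n) = n
  toP_ofP : ∀ n, n < 1024 → toPlucker (ofPlucker n) = n
  ofP_lt : ∀ n, n < 1024 → ofPlucker n < 1024

/-- The product in `2 ^ 11 : M24`. -/
noncomputable def sMul (x y : Equiv.Perm GolayPt × ℕ) : Equiv.Perm GolayPt × ℕ :=
  (x.1 * y.1, act y.1⁻¹ x.2 ^^^ y.2)

/-- A complement in a Sylow 2-subgroup of the normaliser of the coordinate subgroup. -/
def ComplStmt : Prop :=
  ∃ H : Finset (Equiv.Perm GolayPt × ℕ), H.card = 1024 ∧ ((1 : Equiv.Perm GolayPt), 0) ∈ H ∧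
    (∀ x ∈ H, OStab x.1 ∧ VTwo x.2) ∧ (∀ x ∈ H, ∀ y ∈ H, sMul x y ∈ H) ∧
    ∀ i c, i < 16 → c < 64 → (oP i, cOf c) ∈ H → i = 0 ∧ c = 0

end Cfsg.Agent.Lib.J4Ten43
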